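import Cfsg.Agent.Lib.JComp.Offender

/-!
# The orientations of a pair of commuting four-groups
-/

set_option autoImplicit false
set_option linter.style.haveILetI false

open Cfsg
open scoped commutatorElement

namespace Cfsg.Agent.JComp

open Cfsg.Agent.Fusion

universe u

variable {G : Type u} [Group G] [Finite G] [Fact (Nat.Prime 2)] {M T K₁ K₂ : Subgroup G}

/-- The line of `K₁` is centralized by `K₂`. -/
def Bad (T K₁ K₂ : Subgroup G) : Prop :=
  ∃ z ∈ zOf T, z ∈ wOf K₁ ∧ z ≠ 1 ∧ z ∈ Subgroup.centralizer (K₂ : Set G)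

variable (c : Ctx M T) (s₁ : Side M T K₁) (s₂ : Side M T K₂)
include c s₁ s₂

theorem Ctx.line_unique {z z' : G} (hz : z ∈ zOf T) (hzW : z ∈ wOf K₁) (hz1 : z ≠ 1) (hz' : z' ∈ zOf T)
    (hzW' : z' ∈ wOf K₁) (hz1' : z' ≠ 1) : z = z' := by
  have _ := s₂
  obtain ⟨-, z₀, w, -, -, -, -, -, -, -, -, -, -, -, -, -, hline, -⟩ := s₁.frame c
  rw [(hline z hz hzW).resolve_left hz1, (hline z' hz' hzW').resolve_left hz1']

variable {A : Subgroup G} {k z w a : G} (cf : Conf T K₁ K₂ A k z w a)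
include cf

/-- The line is moved by `k` unless `K₂` centralizes it. -/
theorem Ctx.conf_bad_of_fix (h : k * z * k⁻¹ = z) : z ∈ Subgroup.centralizer (K₂ : Set G) := by
  obtain ⟨-, -, -, -, -, -, hPQ, -⟩ := s₂.frame c
  refine Subgroup.mem_centralizer_iff.2 fun g hg => ?_
  obtain ⟨p, hp, i, -, rfl⟩ := cf.gen.split hg
  exact ((show Commute p z from s₂.z_central c cf.zZ (Subgroup.mem_inf.1 (hPQ hp)).1).mul_left
    ((show Commute k z from mul_inv_eq_iff_eq_mul.1 h).pow_left i)).eq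

/-- With dependent conjugates the line is fixed. -/
theorem Ctx.conf_dim_one (hne : locOf T K₂ ≠ locOf T K₁) (hdim : w⁻¹ * (k * w * k⁻¹) ∈ eOf T K₂) :
    k * z * k⁻¹ = z := by
  obtain ⟨hEel, hEq, hEc, hEn⟩ := c.e_spec s₁ s₂
  obtain ⟨q, hq, hq₁⟩ := SetLike.not_le_iff_exists.1 (c.q_ne s₁ s₂ hne)
  have hkq : k ∈ Subgroup.normalizer (qOf T K₂ : Set G) := s₂.q_norm c (Subgroup.mem_sup_left cf.gen.mem)
  set q' := k * q * k⁻¹
  have hq' : q' ∈ qOf T K₂ := (Subgroup.mem_normalizer_iff.1 hkq q).1 hq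
  set w₁ := k * w * k⁻¹
  set e := w⁻¹ * w₁
  have h1 : q' * w₁ * q'⁻¹ = (k * z * k⁻¹) * w₁ := by
    calc q' * w₁ * q'⁻¹ = k * (q * w * q⁻¹) * k⁻¹ := by simp only [q', w₁]; group
      _ = _ := by rw [cf.act q (Subgroup.mem_inf.1 hq).1 hq₁]; simp only [w₁]; group
  have h2 : q' * w₁ * q'⁻¹ = (q' * w * q'⁻¹) * e := by
    calc q' * w₁ * q'⁻¹ = (q' * w * q'⁻¹) * (q' * e * q'⁻¹) := by simp only [e]; group
      _ = _ := by rw [hEc q' hq' e hdim, mul_inv_cancel_right]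
  have hkz : k * z * k⁻¹ ≠ 1 := fun h => cf.z1 (conj_eq_one_iff.1 h)
  obtain ⟨-, -, hact₀⟩ := c.conf_conj s₁ s₂ cf 0
  simp only [pow_zero, one_mul, inv_one, mul_one] at hact₀
  have hw₁ : w * e = w₁ := by simp [e]
  rcases hact₀ q' hq' with h | h <;> rw [h] at h2
  · rw [hw₁, h1] at h2
    exact absurd (mul_eq_right.1 h2) hkz
  · rw [mul_assoc z, hw₁, h1] at h2
    exact mul_right_cancel h2

/-- With dependent conjugates a conjugate of `K₂` centralizes a conjugate of a third involution. -/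
theorem Ctx.conf_third (hne : locOf T K₂ ≠ locOf T K₁) (hdim : w⁻¹ * (k * w * k⁻¹) ∈ eOf T K₂) {c₁ : G}
    (hc₁ : c₁ ∈ fixZ T K₁) (hc₁1 : c₁ ≠ 1) :
    ¬ Subgroup.centralizer {z * c₁} ≤ Subgroup.normalizer (thompsonSubgroupOf 2 T : Set G) := by
  intro hle
  obtain ⟨hEel, hEq, hEc, hEn⟩ := c.e_spec s₁ s₂
  have hkz : k * z * k⁻¹ = z := c.conf_dim_one s₁ s₂ cf hne hdim
  have hzK := c.conf_bad_of_fix s₁ s₂ cf hkz
  obtain ⟨_, z', y, -, -, hkC, hPQ, hz'Z, hz'W, hz'1, -, hyW, -, -, -, hfour₂, -, hswap₂, -⟩ := s₂.frame c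
  obtain ⟨k₁, z₀, w₀, d₁, -, -, -, hz₀Z, hz₀W, hz₀1, hw₀, -, -, -, -, hfour₁, -⟩ := s₁.frame c
  have hz₀eq := c.line_unique s₁ s₂ hz₀Z hz₀W hz₀1 cf.zZ cf.zW cf.z1
  rw [hz₀eq] at hw₀ hfour₁
  clear hz₀Z hz₀W hz₀1
  have hkq : k ∈ Subgroup.normalizer (qOf T K₂ : Set G) := s₂.q_norm c (Subgroup.mem_sup_left cf.gen.mem)
  have hkE : k ∈ Subgroup.normalizer (eOf T K₂ : Set G) := hEn (Subgroup.mem_sup_left cf.gen.mem)
  have hwq : w ∈ qOf T K₂ := cf.comm cf.wW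
  -- the element fixed by `k`
  set w₁ := k * w * k⁻¹
  set w₂ := k * w₁ * k⁻¹
  set e := w⁻¹ * w₁
  set e₁ := k * e * k⁻¹
  have he₁ : e₁ ∈ eOf T K₂ := (Subgroup.mem_normalizer_iff.1 hkE e).1 hdim
  set f := w * (w₁ * w₂) with hf
  have hww : w * w = 1 := by rw [← pow_two]; exact wOf_el.2 w cf.wW
  have hw₁e : w₁ = w * e := by simp [e]
  have hw₁w₁ : w₁ * w₁ = 1 := by
    calc w₁ * w₁ = k * (w * w) * k⁻¹ := by simp only [w₁]; group
      _ = 1 := by rw [hww, mul_one, mul_inv_cancel]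
  have hfe : w₁ * w₂ = e₁ := by
    rw [show w₂ = w₁ * e₁ by simp only [w₂, e₁, e, w₁]; group, ← mul_assoc, hw₁w₁, one_mul]
  have hk3 : k * w₂ * k⁻¹ = w := by
    calc k * w₂ * k⁻¹ = k ^ 3 * w * (k ^ 3)⁻¹ := by simp [w₂, w₁, pow_succ, mul_assoc]
      _ = w := by rw [cf.cube, one_mul, inv_one, mul_one]
  have hwe₁ : w * e₁ = e₁ * w := hEc w hwq e₁ he₁
  have hkf : k * f * k⁻¹ = f := by
    calc k * f * k⁻¹ = w₁ * w₂ * (k * w₂ * k⁻¹) := by simp only [hf, w₂, w₁]; group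
      _ = e₁ * w := by rw [hk3, hfe]
      _ = f := by rw [← hwe₁, hf, hfe]
  have hfw : f = w * e₁ := by rw [hf, hfe]
  have hK₂f : ∀ g ∈ K₂, g * f = f * g := by
    intro g hg
    have hL : K₂ ≤ Subgroup.centralizer ({f} : Set G) := by
      refine le_of_closure_odd s₂.comp.1 fun x hx ho => ?_
      obtain ⟨p, hp, i, -, rfl⟩ := cf.gen.split hx
      have hpq := hPQ hp
      obtain ⟨δ, hδ, hδz, hact⟩ : ∃ δ, δ ^ 2 = 1 ∧ Commute (p * k ^ i) δ ∧ p * k ^ i * f * (p * k ^ i)⁻¹ = δ * f := by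
        have hkif : k ^ i * f * (k ^ i)⁻¹ = f :=
          mul_inv_eq_iff_eq_mul.2 (((show Commute k f from mul_inv_eq_iff_eq_mul.1 hkf).pow_left i).eq)
        have e2 : p * k ^ i * f * (p * k ^ i)⁻¹ = (p * w * p⁻¹) * e₁ := by
          calc p * k ^ i * f * (p * k ^ i)⁻¹ = p * (k ^ i * f * (k ^ i)⁻¹) * p⁻¹ := by group
            _ = (p * w * p⁻¹) * (p * e₁ * p⁻¹) := by rw [hkif, hfw]; group
            _ = _ := by rw [hEc p hpq e₁ he₁, mul_inv_cancel_right]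
        by_cases hp₁ : p ∈ qOf T K₁
        · refine ⟨1, one_pow 2, Commute.one_right _, ?_⟩
          rw [e2, one_mul, hfw, ← Subgroup.mem_centralizer_iff.1 (Subgroup.mem_inf.1 hp₁).2 w cf.wW,
            mul_inv_cancel_right]
        · refine ⟨z, (omegaCenter_el _).2 z cf.zZ,
            Subgroup.mem_centralizer_iff.1 hzK (p * k ^ i) hx, ?_⟩
          rw [e2, cf.act p (Subgroup.mem_inf.1 hpq).1 hp₁, hfw, mul_assoc]
      set x := p * k ^ i
      have hpow : ∀ n : ℕ, x ^ n * f * (x ^ n)⁻¹ = δ ^ n * f := by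
        intro n
        induction n with
        | zero => simp
        | succ n ih =>
          calc x ^ (n + 1) * f * (x ^ (n + 1))⁻¹ = x * (x ^ n * f * (x ^ n)⁻¹) * x⁻¹ := by rw [pow_succ']; group
            _ = (x * δ ^ n * x⁻¹) * (x * f * x⁻¹) := by rw [ih]; group
            _ = δ ^ n * (δ * f) := by rw [(hδz.pow_right n).eq, mul_inv_cancel_right, hact]
            _ = _ := by rw [← mul_assoc, ← pow_succ]
      have hodd : δ ^ orderOf x = δ := by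
        obtain ⟨m, hm⟩ := ho
        rw [hm, pow_succ, pow_mul, hδ, one_pow, one_mul]
      have h := hpow (orderOf x)
      rw [pow_orderOf_eq_one, hodd, one_mul, inv_one, mul_one] at h
      refine Subgroup.mem_centralizer_singleton_iff.2 (mul_inv_eq_iff_eq_mul.1 ?_)
      rw [hact, ← h]
    exact Subgroup.mem_centralizer_singleton_iff.1 (hL hg)
  -- it lies in `w ⟨z, z'⟩`
  have hcard : Nat.card ↥(zOf T) = 4 := by
    have h1 := (c.spec s₁.comp s₁.notM s₁.hy).2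
    have h2 := (fixZ_spec c.pT s₁.comp).1
    have : 1 < Nat.card ↥(fixZ T K₁) :=
      (Subgroup.one_lt_card_iff_ne_bot _).2 fun hb => hc₁1 (Subgroup.mem_bot.1 (hb ▸ hc₁))
    omega
  have hz'ne : z' ≠ z := fun h => hz'1 (cf.gen.fpf hz'W (by rw [h]; exact hkz))
  obtain ⟨l, hl, γ, hγ, hlγ⟩ := (mem_sup_iff_mul (show zOf T ≤ Subgroup.normalizer (wOf K₂ : Set G) from
    fun x hx => wOf_norm_of (s₂.norm c (c.z_mem_T hx)))).1 he₁
  have haT : a ∈ T := cf.mx.1 cf.memA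
  have haw : a * w * a⁻¹ = w := by
    rw [← Subgroup.mem_centralizer_iff.1 (Subgroup.mem_inf.1 (cf.le cf.memA)).2 w cf.wW, mul_inv_cancel_right]
  have haγ : a * γ * a⁻¹ = γ := by rw [s₂.z_central c hγ haT, mul_inv_cancel_right]
  have haf : a * f * a⁻¹ = w * (a * l * a⁻¹) * γ := by
    calc a * f * a⁻¹ = (a * w * a⁻¹) * (a * l * a⁻¹) * (a * γ * a⁻¹) := by rw [hfw, ← hlγ]; group
      _ = _ := by rw [haw, haγ]
  have hlfix : a * l * a⁻¹ = l := by
    have hal : a * l * a⁻¹ ∈ wOf K₂ := (Subgroup.mem_normalizer_iff.1 (wOf_norm_of (s₂.norm c haT)) l).1 hl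
    have hkaf : k * (a * f * a⁻¹) * k⁻¹ = a * f * a⁻¹ := by
      have hk' : a⁻¹ * k * a ∈ K₂ := by
        simpa using (Subgroup.mem_normalizer_iff.1 (inv_mem (s₂.norm c haT)) k).1 cf.gen.mem
      calc k * (a * f * a⁻¹) * k⁻¹ = a * ((a⁻¹ * k * a) * f) * (a⁻¹ * k * a)⁻¹ * a⁻¹ := by group
        _ = _ := by rw [hK₂f _ hk', mul_assoc a, mul_inv_cancel_right]
    have hγl : ∀ x ∈ wOf K₂, x * γ = γ * x := fun x hx => hEc x (s₂.w_le_q c hx) γ (Subgroup.mem_sup_right hγ)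
    have hfl : f⁻¹ * (a * f * a⁻¹) = l⁻¹ * (a * l * a⁻¹) := by
      rw [haf, hfw, ← hlγ]
      calc (w * (l * γ))⁻¹ * (w * (a * l * a⁻¹) * γ) = γ⁻¹ * (l⁻¹ * (a * l * a⁻¹) * γ) := by group
        _ = _ := by rw [hγl _ (mul_mem (inv_mem hl) hal), inv_mul_cancel_left]
    have h := cf.gen.fpf (mul_mem (inv_mem hl) hal) (by
      rw [← hfl]
      calc k * (f⁻¹ * (a * f * a⁻¹)) * k⁻¹ = (k * f * k⁻¹)⁻¹ * (k * (a * f * a⁻¹) * k⁻¹) := by group
        _ = _ := by rw [hkf, hkaf])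
    exact (inv_mul_eq_one.1 h).symm
  have hl' : l = 1 ∨ l = z' := by
    have hyy : a * y * a⁻¹ = z' * y := hswap₂ a haT cf.nota
    rcases hfour₂ l hl with h | h | h | h
    · exact Or.inl h
    · exact Or.inr h
    · rw [h, hyy] at hlfix; exact absurd (mul_eq_right.1 hlfix) hz'1
    · rw [h, show a * (z' * y) * a⁻¹ = (a * z' * a⁻¹) * (a * y * a⁻¹) by group, hyy,
        s₂.z_central c hz'Z haT, mul_inv_cancel_right] at hlfix
      exact absurd (mul_eq_right.1 (mul_left_cancel hlfix)) hz'1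
  obtain ⟨σ, hσ, hfσ⟩ : ∃ σ ∈ zOf T, f = w * σ := by
    rcases hl' with h | h
    · exact ⟨γ, hγ, by rw [hfw, ← hlγ, h, one_mul]⟩
    · exact ⟨z' * γ, mul_mem hz'Z hγ, by rw [hfw, ← hlγ, h]⟩
  have hfix4 := four_cases (omegaCenter_el _) hcard cf.zZ (Subgroup.mem_inf.1 hc₁).1 cf.z1 hc₁1
    (fun h => cf.z1 (d₁.fpf cf.zW (by
      rw [Subgroup.mem_centralizer_iff.1 (h ▸ (Subgroup.mem_inf.1 hc₁).2 :
        z ∈ Subgroup.centralizer (K₁ : Set G)) k₁ d₁.mem, mul_inv_cancel_right])))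
  have hnotW : f ∉ wOf K₁ := by
    intro hfW
    have hcen : K₂ ≤ Subgroup.centralizer (wOf K₁ : Set G) := fun g hg => by
      refine Subgroup.mem_centralizer_iff.2 fun x hx => ?_
      have hgz : Commute g z := Subgroup.mem_centralizer_iff.1 hzK g hg
      have hgf : Commute g f := hK₂f g hg
      have hfz : f ≠ z := fun h => by
        rw [hfσ] at h
        rcases hfour₁ w cf.wW with h' | h' | h' | h'
        all_goals
          have hwZ : w ∈ zOf T := by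
            rw [show w = z * σ⁻¹ by rw [← h, mul_inv_cancel_right]]; exact mul_mem cf.zZ (inv_mem hσ)
          obtain ⟨t, ht, htQ⟩ := SetLike.not_le_iff_exists.1 (c.q_ne s₁ s₂ hne)
          have := cf.act t (Subgroup.mem_inf.1 ht).1 htQ
          rw [s₁.z_central c hwZ (Subgroup.mem_inf.1 ht).1, mul_inv_cancel_right] at this
          exact cf.z1 (mul_eq_right.1 this.symm)
      have hf1 : f ≠ 1 := fun h => by
        rw [hfσ] at h
        have hwZ : w ∈ zOf T := by rw [eq_inv_of_mul_eq_one_left h]; exact inv_mem hσ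
        obtain ⟨t, ht, htQ⟩ := SetLike.not_le_iff_exists.1 (c.q_ne s₁ s₂ hne)
        have := cf.act t (Subgroup.mem_inf.1 ht).1 htQ
        rw [s₁.z_central c hwZ (Subgroup.mem_inf.1 ht).1, mul_inv_cancel_right] at this
        exact cf.z1 (mul_eq_right.1 this.symm)
      rcases four_cases wOf_el s₁.comp.2.2.2.2.1 cf.zW hfW cf.z1 hf1 hfz.symm x hx with rfl | rfl | rfl | rfl
      · rw [one_mul, mul_one]
      · exact hgz.eq.symm
      · exact hgf.eq.symm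
      · exact (hgz.mul_right hgf).eq.symm
    exact c.no_common s₁.comp s₁.notM s₂.comp s₂.notM hne (component_twoLocal s₁.comp) (component_norm_W s₁.comp)
      (hcen.trans (Subgroup.centralizer_le_normalizer _))
  -- the conjugating element
  obtain ⟨g, hgK, hgf⟩ : ∃ g ∈ K₁, g * (z * c₁) * g⁻¹ = f := by
    have hc₁K : ∀ g ∈ K₁, g * c₁ * g⁻¹ = c₁ := fun g hg => by
      rw [Subgroup.mem_centralizer_iff.1 (Subgroup.mem_inf.1 hc₁).2 g hg, mul_inv_cancel_right]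
    have hconj : ∀ g ∈ K₁, g * (z * c₁) * g⁻¹ = (g * z * g⁻¹) * c₁ := fun g hg => by
      conv_rhs => rw [← hc₁K g hg]
      group
    have hzw : z * w ∈ wOf K₁ := mul_mem cf.zW cf.wW
    obtain ⟨v, hv, hvne, hfv⟩ : ∃ v ∈ wOf K₁, (v ≠ 1 ∧ v ≠ z) ∧ f = v * c₁ := by
      have hwz' : w ≠ 1 ∧ w ≠ z := by
        obtain ⟨t, ht, htQ⟩ := SetLike.not_le_iff_exists.1 (c.q_ne s₁ s₂ hne)
        have hw' := cf.act t (Subgroup.mem_inf.1 ht).1 htQ
        refine ⟨fun h => cf.z1 ?_, fun h => cf.z1 ?_⟩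
        · rw [h, mul_one, mul_inv_cancel, mul_one] at hw'; exact hw'.symm
        · rw [h, s₁.z_central c cf.zZ (Subgroup.mem_inf.1 ht).1, mul_inv_cancel_right] at hw'
          exact mul_eq_left.1 hw'.symm
      rcases hfix4 σ hσ with h | h | h | h
      · exact absurd (by rw [hfσ, h, mul_one]; exact cf.wW) hnotW
      · exact absurd (by rw [hfσ, h]; exact mul_mem cf.wW cf.zW) hnotW
      · exact ⟨w, cf.wW, hwz', by rw [hfσ, h]⟩
      · refine ⟨w * z, mul_mem cf.wW cf.zW, ⟨fun h' => hwz'.2 ?_, fun h' => hwz'.1 (mul_eq_right.1 h')⟩,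
          by rw [hfσ, h, mul_assoc]⟩
        rw [eq_inv_of_mul_eq_one_left h', El.inv_eq wOf_el cf.zW]
    rcases hfour₁ v hv with h | h | h | h
    · exact absurd h hvne.1
    · exact absurd h hvne.2
    · refine ⟨k₁, d₁.mem, ?_⟩
      rw [hconj k₁ d₁.mem, hfv, h, hw₀]
    · refine ⟨k₁ ^ 2, pow_mem d₁.mem 2, ?_⟩
      have hnm := d₁.nm_wOf cf.zW
      rw [hconj _ (pow_mem d₁.mem 2), hfv, h, hw₀, eq_inv_of_mul_eq_one_right hnm,
        El.inv_eq wOf_el (mul_mem cf.zW ((Subgroup.mem_normalizer_iff.1 (wOf_norm d₁.mem) z).1 cf.zW))]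
  set k' := g⁻¹ * k * g with hk'def
  have hk'c : k' ∈ Subgroup.centralizer {z * c₁} := Subgroup.mem_centralizer_singleton_iff.2 (by
    have h : k * f = f * k := hK₂f k cf.gen.mem
    rw [← hgf] at h
    calc k' * (z * c₁) = g⁻¹ * (k * (g * (z * c₁) * g⁻¹)) * g := by simp only [k']; group
      _ = g⁻¹ * ((g * (z * c₁) * g⁻¹) * k) * g := by rw [h]
      _ = z * c₁ * k' := by simp only [k']; group)
  set a' := g⁻¹ * a * g
  have ha' : a' ∈ thompsonSubgroupOf 2 T := by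
    have hA' : cj A g⁻¹ ∈ mx T := ⟨(cj_mono cf.le _).trans
        ((cj_eq_self (s₁.q_norm c (Subgroup.mem_sup_left (inv_mem hgK)))).le.trans inf_le_left),
      (replFamily_elementary 2).map_equiv cf.mx.2.1 (MulAut.conj g⁻¹), fun C hC hC' => by
        show _ ≤ Nat.card ↥(cj A g⁻¹)
        rw [card_cj]; exact cf.mx.2.2 C hC hC'⟩
    refine mx_le_J hA' ?_
    rw [mem_cj]
    simpa [a', mul_assoc] using cf.memA
  have hJ : ⁅k', a'⁆ ∈ thompsonSubgroupOf 2 T := (commutator_elem_mem ha' (hle hk'c)).2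
  obtain ⟨p, hp, hap⟩ := s₂.invert c cf.gen haT cf.nota
  obtain ⟨n, hn⟩ := c.pJ ⟨_, hJ⟩
  have hn' : ⁅k', a'⁆ ^ 2 ^ n = 1 := congrArg Subtype.val hn
  set x := ⁅k, a⁆ with hxdef
  have hxn : x ^ 2 ^ n = 1 := by
    have h : g⁻¹ * x * g = ⁅k', a'⁆ := by simp only [hxdef, k', a', commutatorElement_def]; group
    have h2 : g⁻¹ * x ^ 2 ^ n * g⁻¹⁻¹ = 1 := by rw [← conj_pow, inv_inv, h, hn']
    exact conj_eq_one_iff.1 h2
  have hx : x = k ^ 2 * p⁻¹ := by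
    calc x = k * (a * k * a⁻¹)⁻¹ := by rw [hxdef, commutatorElement_def]; group
      _ = k * ((k ^ 2)⁻¹ * p⁻¹) := by rw [hap, mul_inv_rev]
      _ = k ^ 2 * p⁻¹ := by
        rw [← mul_assoc, show (k ^ 2)⁻¹ = k from inv_eq_of_mul_eq_one_left (by rw [← pow_succ', cf.cube]), ← pow_two]
  have hP : pCoreOf 2 K₂ ≤ qOf T K₂ := hPQ
  have h3 : x ^ 3 ∈ pCoreOf 2 K₂ := by
    have hk2 : k ^ 2 ∈ Subgroup.normalizer (pCoreOf 2 K₂ : Set G) := le_normalizer_pCoreOf K₂ (pow_mem cf.gen.mem 2)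
    have hconj : k ^ 2 * p⁻¹ * (k ^ 2)⁻¹ ∈ pCoreOf 2 K₂ := (Subgroup.mem_normalizer_iff.1 hk2 _).1 (inv_mem hp)
    have := pow_mul_mem hconj hk2 3
    rwa [show (k ^ 2) ^ 3 = 1 by rw [← pow_mul, mul_comm, pow_mul, cf.cube, one_pow], inv_one, mul_one,
      show k ^ 2 * p⁻¹ * (k ^ 2)⁻¹ * k ^ 2 = x by rw [hx]; group] at this
  have hxP : x ∈ pCoreOf 2 K₂ := mem_of_pow_two_odd (o := 3) (by decide) (by rw [hxn]; exact one_mem _) h3
  have hk2P : k ^ 2 ∈ pCoreOf 2 K₂ := by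
    have := mul_mem hxP hp
    rwa [hx, inv_mul_cancel_right] at this
  obtain ⟨k', -, -, -, -, hkC', -⟩ := s₂.frame c
  have hkP : k ∈ pCoreOf 2 K₂ := by
    rw [show k = (k ^ 2) ^ 2 by rw [← pow_mul, show 2 * 2 = 3 + 1 from rfl, pow_succ, cf.cube, one_mul]]
    exact pow_mem hk2P 2
  refine hz'1 (cf.gen.fpf hz'W ?_)
  rw [← Subgroup.mem_centralizer_iff.1 (Subgroup.mem_inf.1 (hP hkP)).2 z' hz'W, mul_inv_cancel_right]

end Cfsg.Agent.JComp
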