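import Cfsg.Prelude.Def_JComponents
import Cfsg.Agent.Lib.Fusion.ThompsonBasics
import Cfsg.Agent.Lib.Fusion.Cores
import Cfsg.Agent.Lib.Fusion.ThompsonFactor

/-!
# Components for the Thompson subgroup: elementary facts
-/

set_option autoImplicit false

open Cfsg
open scoped commutatorElement

namespace Cfsg.Agent.JComp

open Cfsg.Agent.Fusion

universe u

variable {G : Type u} [Group G]

/-- Elementary abelian `2`-subgroups. -/
abbrev El (A : Subgroup G) : Prop := IsElementaryAbelian 2 A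

/-- The elementary abelian subgroups of largest order of `T`. -/
abbrev mx (T : Subgroup G) : Set (Subgroup G) := maxIn (fun A : Subgroup G => IsElementaryAbelian 2 A) T

theorem eq_one_of_odd {x : G} {n : ℕ} (h : x ^ 2 ^ n = 1) (ho : Odd (orderOf x)) : x = 1 :=
  orderOf_eq_one_iff.1 (Nat.eq_one_of_dvd_coprimes ((Nat.coprime_two_left.2 ho).pow_left n)
    (orderOf_dvd_of_pow_eq_one h) dvd_rfl)

theorem mem_of_pow_two_odd {H : Subgroup G} {x : G} {n o : ℕ} (ho : Odd o) (h2 : x ^ 2 ^ n ∈ H) (h1 : x ^ o ∈ H) :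
    x ∈ H := by
  have hc : Nat.Coprime (2 ^ n) o := (Nat.coprime_two_left.2 ho).pow_left n
  have hb := Nat.gcd_eq_gcd_ab (2 ^ n) o
  rw [hc.gcd_eq_one, Nat.cast_one] at hb
  have : x = (x ^ 2 ^ n) ^ Nat.gcdA (2 ^ n) o * (x ^ o) ^ Nat.gcdB (2 ^ n) o := by
    rw [← zpow_natCast, ← zpow_natCast x o, ← zpow_mul, ← zpow_mul, ← zpow_add, ← hb, zpow_one]
  rw [this]
  exact mul_mem (H.zpow_mem h2 _) (H.zpow_mem h1 _)

theorem exists_parts [Finite G] (x : G) :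
    ∃ n o : ℕ, Odd o ∧ orderOf x = 2 ^ n * o ∧ Odd (orderOf (x ^ 2 ^ n)) := by
  obtain ⟨k, m, hm, hkm⟩ := Nat.exists_eq_pow_mul_and_not_dvd (orderOf_pos x).ne' 2 (by norm_num)
  have hodd : Odd m := Nat.odd_iff.2 (Nat.two_dvd_ne_zero.1 hm)
  refine ⟨k, m, hodd, hkm, ?_⟩
  rw [orderOf_pow_of_dvd (pow_ne_zero _ (by norm_num)) (hkm ▸ dvd_mul_right _ _), hkm,
    Nat.mul_div_cancel_left _ (pow_pos (by norm_num) k)]
  exact hodd

theorem mem_sup_iff_mul {K Q : Subgroup G} (h : Q ≤ Subgroup.normalizer (K : Set G)) {x : G} :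
    x ∈ K ⊔ Q ↔ ∃ k ∈ K, ∃ q ∈ Q, k * q = x := by
  refine ⟨fun hx => ?_, fun ⟨k, hk, q, hq, e⟩ => e ▸ mul_mem (Subgroup.mem_sup_left hk) (Subgroup.mem_sup_right hq)⟩
  have : x ∈ ((K ⊔ Q : Subgroup G) : Set G) := hx
  rw [Subgroup.coe_mul_of_right_le_normalizer_left K Q h] at this
  exact this

/-- An element of odd order of `K Q`, `Q` a normalizing `2`-group, lies in `K`. -/
theorem odd_mem_of_sup {K Q : Subgroup G} (h : Q ≤ Subgroup.normalizer (K : Set G)) (hQ : IsPGroup 2 Q)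
    {x : G} (hx : x ∈ K ⊔ Q) (ho : Odd (orderOf x)) : x ∈ K := by
  set L := K ⊔ Q
  haveI hn : (K.subgroupOf L).Normal :=
    Subgroup.normal_subgroupOf_of_le_normalizer (sup_le Subgroup.le_normalizer h)
  obtain ⟨k, hk, q, hq, rfl⟩ := (mem_sup_iff_mul h).1 hx
  obtain ⟨n, hn'⟩ := hQ ⟨q, hq⟩
  refine mem_of_pow_two_odd (n := n) ho ?_ (by rw [pow_orderOf_eq_one]; exact one_mem K)
  have e : (QuotientGroup.mk (⟨k * q, hx⟩ : ↥L) : ↥L ⧸ K.subgroupOf L) =
      QuotientGroup.mk ⟨q, Subgroup.mem_sup_right hq⟩ := by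
    rw [show (⟨k * q, hx⟩ : ↥L) = ⟨k, Subgroup.mem_sup_left hk⟩ * ⟨q, Subgroup.mem_sup_right hq⟩ from rfl,
      QuotientGroup.mk_mul, (QuotientGroup.eq_one_iff _).2 (show (⟨k, Subgroup.mem_sup_left hk⟩ : ↥L) ∈
        K.subgroupOf L from hk), one_mul]
  have h1 : (QuotientGroup.mk ((⟨k * q, hx⟩ : ↥L) ^ 2 ^ n) : ↥L ⧸ K.subgroupOf L) = 1 := by
    rw [QuotientGroup.mk_pow, e, ← QuotientGroup.mk_pow, QuotientGroup.eq_one_iff]
    show q ^ 2 ^ n ∈ K
    rw [show q ^ 2 ^ n = 1 from congrArg Subtype.val hn']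
    exact one_mem K
  exact (QuotientGroup.eq_one_iff (N := K.subgroupOf L) ((⟨k * q, hx⟩ : ↥L) ^ 2 ^ n)).1 h1

theorem closure_odd_le (K : Subgroup G) : Subgroup.closure {g : G | g ∈ K ∧ Odd (orderOf g)} ≤ K :=
  (Subgroup.closure_le _).2 fun _ hx => hx.1

theorem le_of_closure_odd {K H : Subgroup G} (hK : Subgroup.closure {g : G | g ∈ K ∧ Odd (orderOf g)} = K)
    (h : ∀ x ∈ K, Odd (orderOf x) → x ∈ H) : K ≤ H := by
  rw [← hK, Subgroup.closure_le]
  exact fun x hx => h x hx.1 hx.2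

/-! ### The `2`-core of a subgroup -/

theorem pCoreOf_le (K : Subgroup G) : pCoreOf 2 K ≤ K := Subgroup.map_subtype_le _

theorem isPGroup_pCoreOf [Fact (Nat.Prime 2)] (K : Subgroup G) : IsPGroup 2 (pCoreOf 2 K) :=
  (isPGroup_pCore 2 K).map _

theorem le_normalizer_pCoreOf (K : Subgroup G) : K ≤ Subgroup.normalizer (pCoreOf 2 K : Set G) := by
  haveI : (pCore 2 K).Normal := by unfold Cfsg.pCore; exact Subgroup.sSup_normal _ fun N hN => hN.1
  intro g hg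
  refine Subgroup.mem_normalizer_iff.2 fun x => ⟨?_, fun hx => ?_⟩
  · rintro ⟨⟨y, hy⟩, hy', rfl⟩
    exact ⟨⟨g, hg⟩ * ⟨y, hy⟩ * ⟨g, hg⟩⁻¹, (inferInstance : (pCore 2 K).Normal).conj_mem _ hy' _, rfl⟩
  · obtain ⟨⟨y, hy⟩, hy', he⟩ := hx
    refine ⟨⟨g, hg⟩⁻¹ * ⟨y, hy⟩ * ⟨g, hg⟩, ?_, ?_⟩
    · simpa using (inferInstance : (pCore 2 K).Normal).conj_mem _ hy' (⟨g, hg⟩⁻¹)
    · show g⁻¹ * y * g = x
      rw [show y = g * x * g⁻¹ from he]; group

theorem le_pCoreOf [Finite G] {K P : Subgroup G} (hP : P ≤ K) (hp : IsPGroup 2 P)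
    (hn : K ≤ Subgroup.normalizer (P : Set G)) : P ≤ pCoreOf 2 K := by
  haveI : (P.subgroupOf K).Normal := Subgroup.normal_subgroupOf_of_le_normalizer hn
  intro x hx
  exact ⟨⟨x, hP hx⟩, le_pCore (N := P.subgroupOf K) hp.comap_subtype hx, rfl⟩

theorem pCoreOf_cj [Finite G] [Fact (Nat.Prime 2)] (K : Subgroup G) (g : G) :
    cj (pCoreOf 2 K) g = pCoreOf 2 (cj K g) := by
  have key : ∀ (K : Subgroup G) (g : G), cj (pCoreOf 2 K) g ≤ pCoreOf 2 (cj K g) := fun K g =>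
    le_pCoreOf (cj_mono (pCoreOf_le K) g) (isPGroup_cj (isPGroup_pCoreOf K) g) (by
      rw [← cj_normalizer]; exact cj_mono (le_normalizer_pCoreOf K) g)
  refine le_antisymm (key K g) ?_
  have h := key (cj K g) g⁻¹
  rw [cj_cj_inv, cj_le_iff, inv_inv] at h
  exact h

theorem pCoreOf_le_sylIn [Finite G] [Fact (Nat.Prime 2)] {T L : Subgroup G} (h : SylIn 2 T L) :
    pCoreOf 2 L ≤ T := by
  obtain ⟨x, hx, hle⟩ := h.conj_le (isPGroup_pCoreOf L) (pCoreOf_le L)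
  rwa [cj_eq_self (le_normalizer_pCoreOf L hx)] at hle

theorem sylIn_of_isSylowTwoIn {T L : Subgroup G} (h : IsSylowTwoIn T L) : SylIn 2 T L :=
  ⟨h.1, h.2.1, fun hd => Nat.not_even_iff_odd.2 h.2.2 (even_iff_two_dvd.2 hd)⟩

theorem isSylowTwoIn_of_sylIn {T L : Subgroup G} (h : SylIn 2 T L) : IsSylowTwoIn T L :=
  ⟨h.le, h.isPGroup, Nat.not_even_iff_odd.1 fun he => h.not_dvd (even_iff_two_dvd.1 he)⟩

/-! ### Conjugation -/

theorem omegaCenterOf_cj (X : Subgroup G) (g : G) : cj (omegaCenterOf X) g = omegaCenterOf (cj X g) := by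
  rw [omegaCenterOf, omegaCenterOf, ← cj_centralizer, ← cj_inf]
  exact omegaOne_map (MulAut.conj g).toMonoidHom _ (MulAut.conj g).injective.injOn

theorem wOf_cj [Finite G] [Fact (Nat.Prime 2)] (K : Subgroup G) (g : G) : cj (wOf K) g = wOf (cj K g) := by
  rw [wOf, wOf, cj_commutator, omegaCenterOf_cj, pCoreOf_cj]

theorem thompson_cj [Finite G] (T : Subgroup G) (g : G) :
    cj (thompsonSubgroupOf 2 T) g = thompsonSubgroupOf 2 (cj T g) := by
  rw [← jElem_eq, ← jElem_eq]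
  refine le_antisymm (map_jElem_le T (MulAut.conj g)) ?_
  have h : cj (jElem 2 (cj T g)) g⁻¹ ≤ jElem 2 (cj (cj T g) g⁻¹) := map_jElem_le (cj T g) (MulAut.conj g⁻¹)
  rw [cj_cj_inv, cj_le_iff, inv_inv] at h
  exact h

theorem isSylowTwoIn_cj {S L : Subgroup G} (h : IsSylowTwoIn S L) (g : G) : IsSylowTwoIn (cj S g) (cj L g) :=
  ⟨cj_mono h.1 g, isPGroup_cj h.2.1 g, by rw [relIndex_cj]; exact h.2.2⟩

theorem component_cj [Finite G] [Fact (Nat.Prime 2)] {T K : Subgroup G} (h : IsJComponent T K) (g : G) :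
    IsJComponent (cj T g) (cj K g) := by
  obtain ⟨h1, h2, h3, h4, h5, h6⟩ := h
  refine ⟨?_, ?_, ?_, ?_, ?_, ?_⟩
  · conv_rhs => rw [← h1, cj, MonoidHom.map_closure]
    congr 1
    ext x
    constructor
    · rintro ⟨hx, ho⟩
      obtain ⟨y, hy, rfl⟩ := hx
      exact ⟨y, ⟨hy, by rwa [orderOf_injective _ (MulAut.conj g).injective] at ho⟩, rfl⟩
    · rintro ⟨y, ⟨hy, ho⟩, rfl⟩
      exact ⟨⟨y, hy, rfl⟩, by rwa [orderOf_injective _ (MulAut.conj g).injective]⟩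
  · rw [← thompson_cj, ← cj_commutator, h2]
  · rw [← pCoreOf_cj, relIndex_cj, h3]
  · intro S hS hJS
    rw [← thompson_cj] at hS hJS ⊢
    rw [← cj_sup] at hS
    have h' := h4 (cj S g⁻¹) (by simpa only [cj_cj_inv] using isSylowTwoIn_cj hS g⁻¹)
      (by rw [← cj_cj_inv (thompsonSubgroupOf 2 T) g]; exact cj_mono hJS _)
    rw [← h', thompson_cj, cj_inv_cj]
  · rw [← wOf_cj, card_cj, h5]
  · rw [← wOf_cj]
    rintro _ ⟨w, hw, rfl⟩
    rw [← map_mul, h6 w hw, map_one]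

theorem component_congr {T T' K : Subgroup G} (e : thompsonSubgroupOf 2 T = thompsonSubgroupOf 2 T')
    (h : IsJComponent T K) : IsJComponent T' K := by
  unfold IsJComponent at h ⊢
  rw [← e]; exact h

/-! ### The Thompson subgroup -/

variable [Finite G]

theorem mx_nonempty (T : Subgroup G) : (mx T).Nonempty := (replFamily_elementary 2).maxIn_nonempty T

theorem J_eq (T : Subgroup G) : thompsonSubgroupOf 2 T = sSup (mx T) := (jElem_eq T).symm

theorem mx_le_J {T A : Subgroup G} (h : A ∈ mx T) : A ≤ thompsonSubgroupOf 2 T := by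
  rw [J_eq]; exact le_sSup h

theorem J_le (T : Subgroup G) : thompsonSubgroupOf 2 T ≤ T := Subgroup.map_subtype_le _

theorem card_mx_eq {T A B : Subgroup G} (hA : A ∈ mx T) (hB : B ∈ mx T) : Nat.card A = Nat.card B :=
  le_antisymm (hB.2.2 A hA.1 hA.2.1) (hA.2.2 B hB.1 hB.2.1)

theorem maxOrder_eq {T A : Subgroup G} (hA : A ∈ mx T) : maxElemAbelianOrder T = Nat.card A := by
  have himg : (fun B : Subgroup ↥T => Nat.card ↥B) '' maxElementaryAbelianSubgroups 2 ↥T = {Nat.card A} := by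
    have he := image_maxElementary (p := 2) (H := T)
    refine Set.eq_singleton_iff_nonempty_unique_mem.2 ⟨maxElementary_nonempty.image _, ?_⟩
    rintro _ ⟨B, hB, rfl⟩
    have hB' : B.map T.subtype ∈ mx T := he.subset ⟨B, hB, rfl⟩
    show Nat.card ↥B = _
    rw [← Subgroup.card_map_of_injective T.subtype_injective, card_mx_eq hB' hA]
  rw [maxElemAbelianOrder, himg, csSup_singleton]

omit [Finite G] in
theorem mx_of_card {T H A B : Subgroup G} (hA : A ∈ mx T) (hB : El B) (hBH : B ≤ H)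
    (hmax : ∀ C ≤ H, El C → Nat.card C ≤ Nat.card A) (hc : Nat.card A ≤ Nat.card B) : B ∈ mx H :=
  ⟨hBH, hB, fun C hC hC' => (hmax C hC hC').trans hc⟩

/-- Every elementary subgroup of `H` is at most as large as those of a Sylow subgroup. -/
theorem card_le_of_sylIn [Fact (Nat.Prime 2)] {T H A C : Subgroup G} (hT : SylIn 2 T H) (hA : A ∈ mx T)
    (hC : El C) (hCH : C ≤ H) : Nat.card C ≤ Nat.card A := by
  obtain ⟨x, -, hx⟩ := hT.conj_le (isPGroup_elementary hC) hCH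
  rw [← card_cj C x]
  exact hA.2.2 _ hx ((replFamily_elementary 2).map_equiv hC (MulAut.conj x))

/-- A `2`-subgroup of `H` containing `J(T)` has Thompson subgroup `J(T)`. -/
theorem J_eq_of_sylIn [Fact (Nat.Prime 2)] {T H S : Subgroup G} (hT : SylIn 2 T H) (hS : IsPGroup 2 S)
    (hSH : S ≤ H) (hJ : thompsonSubgroupOf 2 T ≤ S) : thompsonSubgroupOf 2 S = thompsonSubgroupOf 2 T := by
  obtain ⟨A₀, hA₀⟩ := mx_nonempty T
  have h1 : mx T ⊆ mx S := fun A hA =>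
    ⟨(mx_le_J hA).trans hJ, hA.2.1, fun C hC hC' => card_le_of_sylIn hT hA hC' (hC.trans hSH)⟩
  have hle : thompsonSubgroupOf 2 T ≤ thompsonSubgroupOf 2 S := by
    rw [J_eq, J_eq]; exact sSup_le_sSup h1
  refine (Subgroup.eq_of_le_of_card_ge hle ?_).symm
  obtain ⟨x, hx, hxT⟩ := hT.conj_le hS hSH
  rw [← card_cj (thompsonSubgroupOf 2 S) x]
  refine Subgroup.card_le_of_le ?_
  rw [J_eq S, sSup_eq_iSup, cj, Subgroup.map_iSup]
  refine iSup_le fun A => ?_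
  rw [Subgroup.map_iSup]
  refine iSup_le fun hA => mx_le_J ⟨(cj_mono hA.1 x).trans hxT, (replFamily_elementary 2).map_equiv hA.2.1
    (MulAut.conj x), fun C hC hC' => ?_⟩
  show _ ≤ Nat.card ↥(cj A x)
  rw [card_cj]
  exact (card_le_of_sylIn hT hA₀ hC' (hC.trans hT.le)).trans (hA.2.2 A₀ (h1 hA₀).1 hA₀.2.1)

theorem mem_mx_of_commute {T A : Subgroup G} (hA : A ∈ mx T) {x : G} (hx : x ∈ T) (h2 : x ^ 2 = 1)
    (hc : ∀ a ∈ A, x * a = a * x) : x ∈ A :=
  mem_of_maxIn hA hx (isElementaryAbelian_closure_insert hA.2.1 hc h2)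

theorem J_ne_bot [Fact (Nat.Prime 2)] {T : Subgroup G} (hT : IsPGroup 2 T) (h1 : T ≠ ⊥) :
    thompsonSubgroupOf 2 T ≠ ⊥ := by
  rw [thompsonSubgroupOf, Ne, Subgroup.map_eq_bot_iff_of_injective _ T.subtype_injective]
  refine thompsonSubgroup_ne_bot ?_
  obtain ⟨k, hk⟩ := IsPGroup.iff_card.1 hT
  have : k ≠ 0 := by
    rintro rfl
    exact h1 (Subgroup.card_eq_one.1 (hk.trans (pow_zero 2)))
  rw [hk]; exact dvd_pow_self 2 this

/-- A `2`-group fixes a nontrivial element of a `2`-group it normalizes. -/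
theorem exists_fixed [Fact (Nat.Prime 2)] {A W : Subgroup G} (hA : IsPGroup 2 A) (hW : IsPGroup 2 W)
    (hW1 : W ≠ ⊥) (hn : A ≤ Subgroup.normalizer (W : Set G)) :
    ∃ w ∈ W, w ≠ 1 ∧ ∀ a ∈ A, a * w = w * a := by
  letI : MulAction ↥A ↥W := MulAction.compHom _ ((W.normalizerMonoidHom).comp (Subgroup.inclusion hn))
  obtain ⟨k, hk⟩ := IsPGroup.iff_card.1 hW
  have hk0 : k ≠ 0 := by
    rintro rfl
    exact hW1 (Subgroup.card_eq_one.1 (hk.trans (pow_zero 2)))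
  obtain ⟨w, hw, hne⟩ := hA.exists_fixed_point_of_prime_dvd_card_of_fixed_point ↥W (a := 1)
    (hk ▸ dvd_pow_self 2 hk0) (fun a => map_one ((W.normalizerMonoidHom) (Subgroup.inclusion hn a)))
  refine ⟨w, w.2, fun h => hne (Subtype.ext h.symm), fun a ha => ?_⟩
  have h := congrArg Subtype.val (hw ⟨a, ha⟩)
  exact mul_inv_eq_iff_eq_mul.1 h

end Cfsg.Agent.JComp
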