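import Cfsg.Agent.Lib.JComp.OneFour

/-!
# The component is normalized by `T`, and the centre of `J(T)`
-/

set_option autoImplicit false
set_option linter.style.haveILetI false

open Cfsg
open scoped commutatorElement

namespace Cfsg.Agent.JComp

open Cfsg.Agent.Fusion

universe u

variable {G : Type u} [Group G] [Finite G] [Fact (Nat.Prime 2)] {M T K : Subgroup G} (c : Ctx M T)
  (hK : IsJComponent T K) (hKM : ¬ K ≤ M) (h : Hy T (locOf T K))
include c hK hKM h

theorem Ctx.spec : T ≤ Subgroup.normalizer (K : Set G) ∧ Nat.card ↥(zOf T) ≤ 4 := by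
  obtain ⟨P, hP⟩ := c.pT.exists_le_sylow
  by_cases hTP : T = (P : Subgroup G)
  · have hS : SylIn 2 T ⊤ := hTP ▸ sylIn_top P
    have c' := c.switch hS hK h hKM
    have hKN := comp_not_norm c.pT hK
    by_cases hex : ∃ K', IsJComponent T K' ∧ locOf T K' ≠ locOf T K
    · obtain ⟨K', hK', hne⟩ := hex
      exact ⟨c'.norm_of_two hK hKN h hK' (comp_not_norm c.pT hK') hne,
        c'.zOf_card_le hK hKN hK' (comp_not_norm c.pT hK') hne⟩
    · push Not at hex
      have o : One T (locOf T K) := ⟨c', hS, (c.loc_spec hK hKM).1, hex, K, hK⟩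
      obtain ⟨h1, h2⟩ := o.conclusion hK
      exact ⟨h1, by omega⟩
  · obtain ⟨x, -, -, -, hKx, hKxM, hne⟩ := c.two_of_growth hK hKM h P.isPGroup' hP hTP
    exact ⟨c.norm_of_two hK hKM h hKx hKxM hne, c.zOf_card_le hK hKM hKx hKxM hne⟩

/-- `T` centralizes the centre of `J(T)`. -/
theorem Ctx.zOf_eq : omegaCenterOf T = zOf T := by
  obtain ⟨hn, h4⟩ := c.spec hK hKM h
  obtain ⟨h2, hsup⟩ := center_split c.pT hK
  refine le_antisymm (omega_le_zOf T) fun z hz => ?_
  have hline : ∀ X : Subgroup G, X ≤ zOf T → Nat.card X ≤ 2 → T ≤ Subgroup.normalizer (X : Set G) →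
      ∀ y ∈ X, ∀ t ∈ T, t * y = y * t := by
    intro X _ hX hXn y hy t ht
    rcases eq_or_ne y 1 with rfl | hy1
    · rw [mul_one, one_mul]
    have hc : Nat.card X = 2 := by
      have : 1 < Nat.card X := (Subgroup.one_lt_card_iff_ne_bot _).2 fun hb => hy1 (Subgroup.mem_bot.1 (hb ▸ hy))
      omega
    obtain ⟨a, -, -, hall⟩ := exists_gen hc
    refine mul_inv_eq_iff_eq_mul.1 ?_
    rcases hall _ ((Subgroup.mem_normalizer_iff.1 (hXn ht) y).1 hy) with e | e
    · exact absurd (conj_eq_one_iff.1 e) hy1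
    · rcases hall _ hy with e' | e'
      · exact absurd e' hy1
      · rw [e, e']
  have hfix : Nat.card ↥(fixZ T K) ≤ 2 := by
    have := (fixZ_spec c.pT hK).1
    omega
  have hTn1 : T ≤ Subgroup.normalizer (fixZ T K : Set G) := fun t ht => by
    rw [mem_normalizer_iff_cj, fixZ_conj (normalizer_le_J T (Subgroup.le_normalizer ht)), cj_eq_self (hn ht)]
  have hTn2 : T ≤ Subgroup.normalizer ((zOf T ⊓ wOf K : Subgroup G) : Set G) := fun t ht => by
    rw [mem_normalizer_iff_cj, cj_inf, cj_eq_self (omegaCenter_norm (normalizer_le_J T (Subgroup.le_normalizer ht))),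
      cj_eq_self (wOf_norm_of (hn ht))]
  have hle : zOf T ≤ Subgroup.centralizer (T : Set G) := by
    intro y hy
    refine (sup_le ?_ ?_ : _ ≤ Subgroup.centralizer (T : Set G)) (hsup.ge hy)
    · intro w hw
      refine Subgroup.mem_centralizer_iff.2 fun t ht => hline _ inf_le_left hfix hTn1 w ?_ t ht
      exact Subgroup.mem_inf.2 ⟨(Subgroup.mem_inf.1 hw).1, Subgroup.mem_centralizer_iff.2 fun g hg =>
        Subgroup.mem_centralizer_iff.1 (Subgroup.mem_inf.1 (Subgroup.mem_inf.1 hw).2).2 g (Subgroup.mem_sup_left hg)⟩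
    · exact fun w hw => Subgroup.mem_centralizer_iff.2 fun t ht => hline _ inf_le_left h2.le hTn2 w hw t ht
  exact mem_omegaCenter (J_le T (omegaCenterOf_le _ hz)) ((omegaCenter_el _).2 z hz) fun t ht =>
    Subgroup.mem_centralizer_iff.1 (hle hz) t ht

end Cfsg.Agent.JComp
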