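import Cfsg.Agent.Lib.JComp.Basic

/-!
# An abelian `2`-group with a single fixed involution
-/

set_option autoImplicit false

open Cfsg
open scoped commutatorElement

namespace Cfsg.Agent.JComp

open Cfsg.Agent.Fusion

universe u

variable {G : Type u} [Group G] [Finite G] [Fact (Nat.Prime 2)]

/-- An abelian `2`-group on an elementary `W` with at most one fixed involution has image of order at most `|W|/2`. -/
theorem half_bound {A W : Subgroup G} (hA : El A) (hW : El W) (hW1 : W ≠ ⊥)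
    (hn : A ≤ Subgroup.normalizer (W : Set G)) (hfix : Nat.card ↥(W ⊓ Subgroup.centralizer (A : Set G)) ≤ 2) :
    2 * Nat.card A ≤ Nat.card ↥(A ⊓ Subgroup.centralizer (W : Set G)) * Nat.card W := by
  classical
  obtain ⟨z, hz, hz1, hzA⟩ := exists_fixed (isPGroup_elementary hA) (isPGroup_elementary hW) hW1 hn
  letI : CommGroup ↥W := { (inferInstance : Group ↥W) with
    mul_comm := fun a b => Subtype.ext (Local.elemAb_commute hW a.2 b.2) }
  obtain ⟨χ₀, hχ₀⟩ := CommGroup.exists_apply_ne_one_of_hasEnoughRootsOfUnity ↥W ℂ (a := ⟨z, hz⟩)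
    (fun e => hz1 (congrArg Subtype.val e))
  haveI : Finite (↥W →* ℂˣ) := Nat.finite_of_card_ne_zero (by
    rw [CommGroup.card_monoidHom_of_hasEnoughRootsOfUnity ↥W ℂ]; exact Nat.card_pos.ne')
  set Xs := {χ : ↥W →* ℂˣ // χ ⟨z, hz⟩ = χ₀ ⟨z, hz⟩}
  have hXs : 2 * Nat.card Xs ≤ Nat.card W := by
    rw [← CommGroup.card_monoidHom_of_hasEnoughRootsOfUnity ↥W ℂ]
    have e : Nat.card (Xs ⊕ Xs) = 2 * Nat.card Xs := by rw [Nat.card_sum, two_mul]
    rw [← e]
    refine Nat.card_le_card_of_injective (Sum.elim (fun χ => χ.1) fun χ => χ.1 * χ₀) ?_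
    rintro (a | a) (b | b) h <;> simp only [Sum.elim_inl, Sum.elim_inr] at h
    · exact congrArg Sum.inl (Subtype.ext h)
    · exfalso
      have h1 : a.1 ⟨z, hz⟩ = (b.1 * χ₀) ⟨z, hz⟩ := by rw [h]
      rw [MonoidHom.mul_apply, a.2, b.2] at h1
      exact hχ₀ (mul_eq_left.1 h1.symm)
    · exfalso
      have h1 : (a.1 * χ₀) ⟨z, hz⟩ = b.1 ⟨z, hz⟩ := by rw [h]
      rw [MonoidHom.mul_apply, a.2, b.2] at h1
      exact hχ₀ (mul_eq_left.1 h1)
    · exact congrArg Sum.inr (Subtype.ext (mul_right_cancel h))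
  let act : ↥A → (↥W →* ↥W) := fun q => (W.normalizerMonoidHom (Subgroup.inclusion hn q)).toMonoidHom
  let f : ↥A → Xs := fun q => ⟨χ₀.comp (act q), by
    show χ₀ (act q ⟨z, hz⟩) = χ₀ ⟨z, hz⟩
    congr 1
    exact Subtype.ext (mul_inv_eq_iff_eq_mul.2 (hzA q q.2))⟩
  set K := A ⊓ Subgroup.centralizer (W : Set G)
  have hf : ∀ a b : ↥A, f a = f b → ((a : G))⁻¹ * b ∈ K := by
    intro a b hab
    have hc : ∀ w ∈ W, ∀ q : ↥A, (q : G) * w * (q : G)⁻¹ ∈ W := fun w hw q =>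
      (Subgroup.mem_normalizer_iff.1 (hn q.2) w).1 hw
    set d := (a : G)⁻¹ * b with hd
    have hdA : d ∈ A := mul_mem (inv_mem a.2) b.2
    refine ⟨hdA, Subgroup.mem_centralizer_iff.2 fun w hw => ?_⟩
    have hχ : ∀ w (hw : w ∈ W), χ₀ ⟨d * w * d⁻¹ * w⁻¹, mul_mem (hc w hw ⟨d, hdA⟩) (inv_mem hw)⟩ = 1 := by
      intro w hw
      have h1 : ∀ x : ↥W, χ₀ (act a x) = χ₀ (act b x) := fun x =>
        congrArg (fun χ : Xs => χ.1 x) hab
      have h2 := h1 ⟨(a : G)⁻¹ * w * a, by simpa using hc w hw a⁻¹⟩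
      have e1 : act a ⟨(a : G)⁻¹ * w * a, by simpa using hc w hw a⁻¹⟩ = ⟨w, hw⟩ := Subtype.ext (by
        show (a : G) * ((a : G)⁻¹ * w * a) * (a : G)⁻¹ = w
        group)
      have e2 : act b ⟨(a : G)⁻¹ * w * a, by simpa using hc w hw a⁻¹⟩ = ⟨d * w * d⁻¹, hc w hw ⟨d, hdA⟩⟩ :=
        Subtype.ext (by
          show (b : G) * ((a : G)⁻¹ * w * a) * (b : G)⁻¹ = d * w * d⁻¹
          rw [hd, show (a : G)⁻¹ * b = b * (a : G)⁻¹ from Local.elemAb_commute hA (inv_mem a.2) b.2]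
          group)
      rw [e1, e2] at h2
      rw [show (⟨d * w * d⁻¹ * w⁻¹, _⟩ : ↥W) = ⟨d * w * d⁻¹, hc w hw ⟨d, hdA⟩⟩ * ⟨w, hw⟩⁻¹ from rfl, map_mul,
        map_inv, ← h2, mul_inv_cancel]
    by_contra hne
    let S : Subgroup G := Subgroup.closure {y | ∃ w ∈ W, y = d * w * d⁻¹ * w⁻¹}
    have hSW : S ≤ W := (Subgroup.closure_le _).2 (by
      rintro _ ⟨w, hw, rfl⟩
      exact mul_mem (hc w hw ⟨d, hdA⟩) (inv_mem hw))
    have hSn : A ≤ Subgroup.normalizer (S : Set G) := fun q hq => by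
      refine mem_normalizer_of_cj_le ?_
      rw [Fusion.cj, MonoidHom.map_closure]
      refine Subgroup.closure_mono ?_
      rintro _ ⟨_, ⟨w, hw, rfl⟩, rfl⟩
      refine ⟨q * w * q⁻¹, hc w hw ⟨q, hq⟩, ?_⟩
      show q * (d * w * d⁻¹ * w⁻¹) * q⁻¹ = d * (q * w * q⁻¹) * d⁻¹ * (q * w * q⁻¹)⁻¹
      calc q * (d * w * d⁻¹ * w⁻¹) * q⁻¹ = (q * d) * w * (q * d)⁻¹ * (q * w * q⁻¹)⁻¹ := by group
        _ = (d * q) * w * (d * q)⁻¹ * (q * w * q⁻¹)⁻¹ := by rw [Local.elemAb_commute hA hq hdA]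
        _ = _ := by group
    have hS1 : S ≠ ⊥ := by
      intro hb
      refine hne ?_
      have h1 : d * w * d⁻¹ * w⁻¹ ∈ S := Subgroup.subset_closure ⟨w, hw, rfl⟩
      rw [hb, Subgroup.mem_bot] at h1
      exact (mul_inv_eq_iff_eq_mul.1 (mul_inv_eq_one.1 h1)).symm
    obtain ⟨y, hy, hy1, hyA⟩ := exists_fixed (isPGroup_elementary hA)
      ((isPGroup_elementary hW).to_le hSW) hS1 hSn
    have hyz : y = z := by
      by_contra hne'
      have h3 : 3 ≤ Nat.card ↥(W ⊓ Subgroup.centralizer (A : Set G)) := by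
        have hm : ∀ x, x ∈ W → (∀ q ∈ A, q * x = x * q) → x ∈ W ⊓ Subgroup.centralizer (A : Set G) :=
          fun x h1 h2 => ⟨h1, Subgroup.mem_centralizer_iff.2 h2⟩
        haveI := Fintype.ofFinite ↥(W ⊓ Subgroup.centralizer (A : Set G))
        rw [Nat.card_eq_fintype_card]
        refine le_trans (le_of_eq ?_) (Finset.card_le_univ
          ({⟨1, one_mem _⟩, ⟨z, hm z hz hzA⟩, ⟨y, hm y (hSW hy) hyA⟩} : Finset ↥(W ⊓ Subgroup.centralizer (A : Set G))))
        symm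
        rw [Finset.card_eq_three]
        exact ⟨_, _, _, fun e => hz1 (congrArg Subtype.val e).symm, fun e => hy1 (congrArg Subtype.val e).symm,
          fun e => hne' (congrArg Subtype.val e).symm, rfl⟩
      omega
    subst hyz
    refine hχ₀ ?_
    have hSker : S ≤ χ₀.ker.map W.subtype := (Subgroup.closure_le _).2 (by
      rintro _ ⟨w, hw, rfl⟩
      exact ⟨_, hχ w hw, rfl⟩)
    obtain ⟨⟨y', hy'⟩, hk, rfl⟩ := hSker hy
    exact hk
  have hcard : Nat.card A ≤ Nat.card Xs * Nat.card K := by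
    rw [← Nat.card_prod]
    haveI : Nonempty ↥A := ⟨1⟩
    refine Nat.card_le_card_of_injective (fun q => (f q, ⟨((Function.invFun f (f q) : ↥A) : G)⁻¹ * q,
      hf _ _ (Function.invFun_eq ⟨q, rfl⟩)⟩)) ?_
    intro a b hab
    simp only [Prod.mk.injEq, Subtype.mk.injEq] at hab
    obtain ⟨h1, h2⟩ := hab
    rw [h1] at h2
    exact Subtype.ext (mul_left_cancel h2)
  calc 2 * Nat.card A ≤ 2 * (Nat.card Xs * Nat.card K) := Nat.mul_le_mul_left _ hcard
    _ = Nat.card K * (2 * Nat.card Xs) := by ring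
    _ ≤ _ := Nat.mul_le_mul_left _ hXs

end Cfsg.Agent.JComp
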