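import Cfsg.Agent.Lib.JComp.Delta
import Cfsg.Agent.Lib.JComp.Half

/-!
# The bound on the four-group
-/

set_option autoImplicit false

open Cfsg
open scoped commutatorElement

namespace Cfsg.Agent.JComp

open Cfsg.Agent.Fusion

universe u

variable {G : Type u} [Group G]

theorem set_card_le [Finite G] {A B C : Subgroup G} (hA : A ≤ C) (hB : B ≤ C) :
    Nat.card A * Nat.card B ≤ Nat.card C * Nat.card ↥(A ⊓ B) := by
  rw [← Solv.card_mul_set_mul_card_inf]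
  refine Nat.mul_le_mul_right _ (Nat.card_mono (Set.toFinite _) ?_)
  rintro _ ⟨a, ha, b, hb, rfl⟩
  exact mul_mem (hA ha) (hB hb)

variable [Finite G] [Fact (Nat.Prime 2)]

/-- An almost maximal elementary group centralizing the inverting involution bounds `W_K` by four. -/
theorem card_wOf_four {T A A₀ K : Subgroup G} {r t : G} (d : KGen K r) (hA : A ∈ mx T) (hA₀ : El A₀)
    (hA₀T : A₀ ≤ T) (hsize : Nat.card A ≤ 2 * Nat.card A₀) (htA : ∀ q ∈ A₀, t * q = q * t) (ht2 : t ^ 2 = 1)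
    (htr : t * r * t⁻¹ = r⁻¹) (htK : t ∈ Subgroup.normalizer (K : Set G))
    (hqK : A₀ ≤ Subgroup.normalizer (K : Set G)) (hqr : ∀ q ∈ A₀, ⁅q, r⁆ ∈ pCoreOf 2 K)
    (hWT : wOf K ≤ T) (hne : wOf K ≠ ⊥) : Nat.card ↥(wOf K) = 4 := by
  set W := wOf K with hWdef
  have hWel : El W := wOf_el
  have hcj : ∀ {g}, g ∈ Subgroup.normalizer (K : Set G) → ∀ {w}, w ∈ W → g * w * g⁻¹ ∈ W := fun hg _ hw =>
    (Subgroup.mem_normalizer_iff.1 (wOf_norm_of hg) _).1 hw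
  have hrK : r ∈ Subgroup.normalizer (K : Set G) := Subgroup.le_normalizer d.mem
  set W₀ := W ⊓ Subgroup.centralizer (Subgroup.zpowers t : Set G)
  have hW₀ : ∀ {w}, w ∈ W₀ ↔ w ∈ W ∧ t * w * t⁻¹ = w := fun {w} => by
    constructor
    · rintro ⟨h1, h2⟩
      exact ⟨h1, by rw [Subgroup.mem_centralizer_iff.1 h2 t (Subgroup.mem_zpowers t), mul_inv_cancel_right]⟩
    · rintro ⟨h1, h2⟩
      exact ⟨h1, Subgroup.mem_centralizer_iff.2 (by
        rintro _ ⟨i, rfl⟩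
        exact ((show Commute t w from mul_inv_eq_iff_eq_mul.1 h2).zpow_left i).eq)⟩
  -- `W₀ × W₀` embeds in `W`
  have hinj : ∀ {a b a' b'}, a ∈ W₀ → b ∈ W₀ → a' ∈ W₀ → b' ∈ W₀ →
      a * (r * b * r⁻¹) = a' * (r * b' * r⁻¹) → a = a' ∧ b = b' := by
    intro a b a' b' ha hb ha' hb' e
    set c := b * b'⁻¹ with hcdef
    have hc : c ∈ W₀ := mul_mem hb (inv_mem hb')
    have hrc : r * c * r⁻¹ ∈ W₀ := by
      have : r * c * r⁻¹ = a⁻¹ * a' := by
        calc r * c * r⁻¹ = a⁻¹ * (a * (r * b * r⁻¹)) * (r * b' * r⁻¹)⁻¹ := by rw [hcdef]; group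
          _ = _ := by rw [e]; group
      rw [this]; exact mul_mem (inv_mem ha) ha'
    have htc := (hW₀.1 hc).2
    have h1 : r⁻¹ * c * r = r * c * r⁻¹ := by
      calc r⁻¹ * c * r = (t * r * t⁻¹) * (t * c * t⁻¹) * (t * r * t⁻¹)⁻¹ := by rw [htr, htc, inv_inv]
        _ = t * (r * c * r⁻¹) * t⁻¹ := by group
        _ = _ := (hW₀.1 hrc).2
    have h2 : r ^ 2 * c * (r ^ 2)⁻¹ = c := by
      calc r ^ 2 * c * (r ^ 2)⁻¹ = r * (r * c * r⁻¹) * r⁻¹ := by rw [pow_two]; group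
        _ = r * (r⁻¹ * c * r) * r⁻¹ := by rw [h1]
        _ = c := by group
    have h3 : r * c * r⁻¹ = c := by
      calc r * c * r⁻¹ = r * (r ^ 2 * c * (r ^ 2)⁻¹) * r⁻¹ := by rw [h2]
        _ = r ^ 3 * c * (r ^ 3)⁻¹ := by rw [show r ^ 3 = r * r ^ 2 from pow_succ' r 2, mul_inv_rev]; simp only [mul_assoc]
        _ = c := by rw [d.cube, one_mul, inv_one, mul_one]
    have hc1 : c = 1 := d.fpf (hW₀.1 hc).1 h3
    have hb_eq : b = b' := mul_inv_eq_one.1 hc1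
    subst hb_eq
    exact ⟨mul_right_cancel e, rfl⟩
  have hmap : ∀ {a b}, a ∈ W₀ → b ∈ W₀ → a * (r * b * r⁻¹) ∈ W := fun ha hb =>
    mul_mem (hW₀.1 ha).1 (hcj hrK (hW₀.1 hb).1)
  have hsq : Nat.card W ≤ Nat.card W₀ ^ 2 := by
    refine (Local.card_le_sq_card_fixed hWel (u := t) (fun e he => hcj htK he)
      (fun e _ => by rw [ht2, one_mul, mul_one])).trans (le_of_eq ?_)
    rw [show W ⊓ Subgroup.centralizer {t} = W₀ from ?_]
    show W ⊓ _ = W ⊓ _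
    rw [Subgroup.zpowers_eq_closure, Subgroup.centralizer_closure]
  have hsq' : Nat.card W₀ ^ 2 ≤ Nat.card W := by
    rw [pow_two, ← Nat.card_prod]
    refine Nat.card_le_card_of_injective (fun p => (⟨(p.1 : G) * (r * p.2 * r⁻¹), hmap p.1.2 p.2.2⟩ : ↥W)) ?_
    intro p q hpq
    obtain ⟨h1, h2⟩ := hinj p.1.2 p.2.2 q.1.2 q.2.2 (congrArg Subtype.val hpq)
    exact Prod.ext (Subtype.ext h1) (Subtype.ext h2)
  have hnA : A₀ ≤ Subgroup.normalizer (W₀ : Set G) := fun q hq => by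
    refine mem_normalizer_of_cj_le ?_
    rintro _ ⟨w, hw, rfl⟩
    show q * w * q⁻¹ ∈ W₀
    refine hW₀.2 ⟨hcj (hqK hq) (hW₀.1 hw).1, ?_⟩
    calc t * (q * w * q⁻¹) * t⁻¹ = (t * q) * w * (t * q)⁻¹ := by group
      _ = (q * t) * w * (q * t)⁻¹ := by rw [htA q hq]
      _ = q * (t * w * t⁻¹) * q⁻¹ := by group
      _ = _ := by rw [(hW₀.1 hw).2]
  -- `q` commutes with `r` on `W`
  have hqW : ∀ q ∈ A₀, ∀ w ∈ W, q * (r * w * r⁻¹) * q⁻¹ = r * (q * w * q⁻¹) * r⁻¹ := by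
    intro q hq w hw
    have hp := hqr q hq
    have hm : r * (q * w * q⁻¹) * r⁻¹ ∈ W := hcj hrK (hcj (hqK hq) hw)
    calc q * (r * w * r⁻¹) * q⁻¹ = ⁅q, r⁆ * (r * (q * w * q⁻¹) * r⁻¹) * ⁅q, r⁆⁻¹ := by
          simp only [commutatorElement_def]; group
      _ = _ := by rw [omegaCenter_comm (wOf_le_omega hm) hp, mul_inv_cancel_right]
  have hcent : ∀ {w}, w ∈ W₀ ⊓ Subgroup.centralizer (A₀ : Set G) → ∀ q ∈ A₀, q * w * q⁻¹ = w := fun hw q hq => by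
    rw [Subgroup.mem_centralizer_iff.1 (Subgroup.mem_inf.1 hw).2 q hq, mul_inv_cancel_right]
  set c := W₀ ⊓ Subgroup.centralizer (A₀ : Set G)
  have hfix2 : Nat.card c ^ 2 ≤ Nat.card ↥(W ⊓ Subgroup.centralizer (A₀ : Set G)) := by
    rw [pow_two, ← Nat.card_prod]
    refine Nat.card_le_card_of_injective (fun p => (⟨(p.1 : G) * (r * p.2 * r⁻¹),
      hmap p.1.2.1 p.2.2.1, Subgroup.mem_centralizer_iff.2 fun q hq => ?_⟩ :
        ↥(W ⊓ Subgroup.centralizer (A₀ : Set G)))) ?_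
    · have e : q * ((p.1 : G) * (r * p.2 * r⁻¹)) * q⁻¹ = (p.1 : G) * (r * p.2 * r⁻¹) := by
        calc _ = (q * p.1 * q⁻¹) * (q * (r * (p.2 : G) * r⁻¹) * q⁻¹) := by group
          _ = _ := by rw [hqW q hq _ (hW₀.1 p.2.2.1).1, hcent p.1.2 q hq, hcent p.2.2 q hq]
      exact mul_inv_eq_iff_eq_mul.1 e
    · intro p q hpq
      obtain ⟨h1, h2⟩ := hinj p.1.2.1 p.2.2.1 q.1.2.1 q.2.2.1 (congrArg Subtype.val hpq)
      exact Prod.ext (Subtype.ext h1) (Subtype.ext h2)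
  have hinf : A₀ ⊓ W ≤ c := fun x hx => by
    obtain ⟨hxA, hxW⟩ := Subgroup.mem_inf.1 hx
    exact ⟨hW₀.2 ⟨hxW, by rw [htA x hxA, mul_inv_cancel_right]⟩,
      Subgroup.mem_centralizer_iff.2 fun q hq => Local.elemAb_commute hA₀ hq hxA⟩
  have hA₀pos : 0 < Nat.card A₀ := Nat.card_pos
  have hcpos : 0 < Nat.card c := Nat.card_pos
  have hkey : ∀ B X : Subgroup G, B ≤ A₀ → X ≤ W → (∀ b ∈ B, ∀ x ∈ X, b * x = x * b) →
      Nat.card B * Nat.card X ≤ 2 * Nat.card A₀ * Nat.card c := by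
    intro B X hB hX hc
    refine (set_card_le (le_sup_left : B ≤ B ⊔ X) le_sup_right).trans (Nat.mul_le_mul ?_ ?_)
    · exact (hA.2.2 _ (sup_le (hB.trans hA₀T) (hX.trans hWT))
        (Local.elemAb_sup (Local.elemAb_mono hA₀ hB) (Local.elemAb_mono hWel hX) hc)).trans hsize
    · exact Subgroup.card_le_of_le ((inf_le_inf hB hX).trans hinf)
  have hc2 : Nat.card c ≤ 2 := by
    have h1 := hkey A₀ (W ⊓ Subgroup.centralizer (A₀ : Set G)) le_rfl inf_le_left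
      (fun b hb x hx => Subgroup.mem_centralizer_iff.1 (Subgroup.mem_inf.1 hx).2 b hb)
    have h2 : Nat.card A₀ * (Nat.card c ^ 2) ≤ Nat.card A₀ * (2 * Nat.card c) :=
      ((Nat.mul_le_mul_left _ hfix2).trans h1).trans (le_of_eq (by ring))
    have h3 := Nat.le_of_mul_le_mul_left h2 hA₀pos
    rw [pow_two] at h3
    exact Nat.le_of_mul_le_mul_right h3 hcpos
  have hW₀1 : W₀ ≠ ⊥ := fun hb => hne (Subgroup.card_eq_one.1 (by
    have := hsq; rw [hb, Subgroup.card_bot] at this; have := Nat.card_pos (α := ↥W); omega))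
  have hhalf := half_bound hA₀ (Local.elemAb_mono hWel inf_le_left) hW₀1 hnA hc2
  set K₀ := A₀ ⊓ Subgroup.centralizer (W₀ : Set G)
  have hdec : ∀ w ∈ W, ∃ a ∈ W₀, ∃ b ∈ W₀, a * (r * b * r⁻¹) = w := by
    intro w hw
    let φ : ↥W₀ × ↥W₀ → ↥W := fun p => ⟨(p.1 : G) * (r * p.2 * r⁻¹), hmap p.1.2 p.2.2⟩
    have hb : Function.Bijective φ := by
      rw [Nat.bijective_iff_injective_and_card]
      exact ⟨fun p q hpq => by
        obtain ⟨h1, h2⟩ := hinj p.1.2 p.2.2 q.1.2 q.2.2 (congrArg Subtype.val hpq)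
        exact Prod.ext (Subtype.ext h1) (Subtype.ext h2), by rw [Nat.card_prod, ← pow_two]; exact le_antisymm hsq' hsq⟩
    obtain ⟨p, hp⟩ := hb.2 ⟨w, hw⟩
    exact ⟨p.1, p.1.2, p.2, p.2.2, congrArg Subtype.val hp⟩
  have hK₀ : ∀ q ∈ K₀, ∀ w ∈ W, q * w = w * q := by
    intro q hq w hw
    obtain ⟨a, ha, b, hb, rfl⟩ := hdec w hw
    obtain ⟨hqA, hqc⟩ := Subgroup.mem_inf.1 hq
    have ea : q * a * q⁻¹ = a := by rw [← Subgroup.mem_centralizer_iff.1 hqc a ha, mul_inv_cancel_right]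
    have eb : q * b * q⁻¹ = b := by rw [← Subgroup.mem_centralizer_iff.1 hqc b hb, mul_inv_cancel_right]
    refine mul_inv_eq_iff_eq_mul.1 ?_
    calc q * (a * (r * b * r⁻¹)) * q⁻¹ = (q * a * q⁻¹) * (q * (r * b * r⁻¹) * q⁻¹) := by group
      _ = _ := by rw [hqW q hqA b (hW₀.1 hb).1, ea, eb]
  have h1 := hkey K₀ W inf_le_left le_rfl hK₀
  have hW4 : Nat.card W₀ ≤ 2 := by
    have h2 : 2 * Nat.card A₀ * (Nat.card W₀ ^ 2) ≤ 2 * Nat.card A₀ * (2 * Nat.card W₀) := by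
      calc 2 * Nat.card A₀ * (Nat.card W₀ ^ 2) ≤ (Nat.card K₀ * Nat.card W₀) * Nat.card W₀ ^ 2 :=
            Nat.mul_le_mul_right _ hhalf
        _ ≤ (Nat.card K₀ * Nat.card W) * Nat.card W₀ := by
          calc Nat.card K₀ * Nat.card W₀ * Nat.card W₀ ^ 2 = Nat.card K₀ * Nat.card W₀ ^ 2 * Nat.card W₀ := by ring
            _ ≤ _ := Nat.mul_le_mul_right _ (Nat.mul_le_mul_left _ hsq')
        _ ≤ (2 * Nat.card A₀ * 2) * Nat.card W₀ :=
          Nat.mul_le_mul_right _ (h1.trans (Nat.mul_le_mul_left _ hc2))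
        _ = _ := by ring
    have h3 := Nat.le_of_mul_le_mul_left h2 (by positivity)
    rw [pow_two] at h3
    exact Nat.le_of_mul_le_mul_right h3 Nat.card_pos
  have hW2 : 2 ≤ Nat.card W₀ := by
    have h0 : 0 < Nat.card W₀ := Nat.card_pos
    by_contra hlt
    exact hW₀1 (Subgroup.card_eq_one.1 (by omega))
  have : Nat.card W₀ = 2 := le_antisymm hW4 hW2
  rw [this] at hsq hsq'
  omega

end Cfsg.Agent.JComp
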