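import Cfsg.Agent.Lib.JComp.Delta
import Cfsg.Agent.Lib.JComp.Half
import Cfsg.Agent.Lib.JComp.Four
import Cfsg.Agent.Lib.Fusion.OffenderSL2

/-!
# The centre of `J(T)` under a component
-/

set_option autoImplicit false
set_option linter.style.haveILetI false

open Cfsg
open scoped commutatorElement

namespace Cfsg.Agent.JComp

open Cfsg.Agent.Fusion

universe u

variable {G : Type u} [Group G] [Finite G] [Fact (Nat.Prime 2)]

omit [Finite G] [Fact (Nat.Prime 2)] in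
theorem comm_left_closure' {C : Subgroup G} {S : Set G} (hS : ∀ s ∈ S, s ∈ Subgroup.normalizer (C : Set G))
    {y : G} (h : ∀ s ∈ S, ⁅s, y⁆ ∈ C) {x : G} (hx : x ∈ Subgroup.closure S) : ⁅x, y⁆ ∈ C := by
  suffices x ∈ Subgroup.normalizer (C : Set G) ∧ ⁅x, y⁆ ∈ C from this.2
  induction hx using Subgroup.closure_induction with
  | mem s hs => exact ⟨hS s hs, h s hs⟩
  | one => exact ⟨one_mem _, by rw [commutatorElement_one_left]; exact one_mem C⟩
  | mul a b _ _ iha ihb =>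
    refine ⟨mul_mem iha.1 ihb.1, ?_⟩
    rw [show ⁅a * b, y⁆ = a * ⁅b, y⁆ * a⁻¹ * ⁅a, y⁆ by simp only [commutatorElement_def]; group]
    exact mul_mem ((Subgroup.mem_normalizer_iff.1 iha.1 _).1 ihb.2) iha.2
  | inv a _ iha =>
    refine ⟨inv_mem iha.1, ?_⟩
    rw [show ⁅a⁻¹, y⁆ = a⁻¹ * ⁅a, y⁆⁻¹ * a⁻¹⁻¹ by simp only [commutatorElement_def]; group]
    exact (Subgroup.mem_normalizer_iff.1 (inv_mem iha.1) _).1 (inv_mem iha.2)

theorem exists_kgen {K : Subgroup G} (hgen : Subgroup.closure {g : G | g ∈ K ∧ Odd (orderOf g)} = K)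
    (hidx : (pCoreOf 2 K).relIndex K = 3) : ∃ k, KGen K k ∧ k ∉ pCoreOf 2 K := by
  haveI hPn : (pCore 2 K).Normal := by unfold Cfsg.pCore; exact Subgroup.sSup_normal _ fun N hN => hN.1
  set P := pCoreOf 2 K
  have hPsub : P.subgroupOf K = pCore 2 K := Subgroup.comap_map_eq_self_of_injective K.subtype_injective _
  obtain ⟨k, hkK, hko, hkP⟩ : ∃ k ∈ K, Odd (orderOf k) ∧ k ∉ P := by
    by_contra hno
    push Not at hno
    have : P.relIndex K = 1 := Subgroup.relIndex_eq_one.2 (le_of_closure_odd hgen hno)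
    omega
  have hk3 : k ^ 3 = 1 := by
    have h1 : (⟨k, hkK⟩ : ↥K) ^ (P.subgroupOf K).index ∈ pCore 2 K := by
      rw [hPsub]; exact Subgroup.pow_index_mem _ _
    rw [show (P.subgroupOf K).index = 3 from hidx] at h1
    obtain ⟨n, hn⟩ := isPGroup_pCoreOf K ⟨k ^ 3, ⟨⟨k, hkK⟩ ^ 3, h1, rfl⟩⟩
    exact eq_one_of_odd (n := n) (congrArg Subtype.val hn) (hko.of_dvd_nat (orderOf_pow_dvd 3))
  refine ⟨k, ⟨hkK, hk3, ?_⟩, hkP⟩
  have h1 : (P ⊔ Subgroup.zpowers k).relIndex K ∣ 3 := hidx ▸ Subgroup.relIndex_dvd_of_le_left K le_sup_left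
  rcases (Nat.dvd_prime Nat.prime_three).1 h1 with h1 | h1
  · exact Subgroup.relIndex_eq_one.1 h1
  · exfalso
    have hle : P ≤ P ⊔ Subgroup.zpowers k := le_sup_left
    have hsup : P ⊔ Subgroup.zpowers k ≤ K := sup_le (pCoreOf_le K) (Subgroup.zpowers_le.2 hkK)
    have h2 := Subgroup.relIndex_mul_relIndex P (P ⊔ Subgroup.zpowers k) K hle hsup
    rw [hidx, h1] at h2
    have h3 : P.relIndex (P ⊔ Subgroup.zpowers k) = 1 := by omega
    exact hkP (Subgroup.relIndex_eq_one.1 h3 (Subgroup.mem_sup_right (Subgroup.mem_zpowers k)))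

/-- The core of an overgroup normalizing `K` centralizes `W_K`. -/
theorem core_centralizes {M K : Subgroup G} {k : G} (d : KGen K k) (h4 : Nat.card ↥(wOf K) = 4) (hKM : K ≤ M)
    (hPK : pCoreOf 2 M ≤ Subgroup.normalizer (K : Set G)) :
    ∀ p ∈ pCoreOf 2 M, ∀ w ∈ wOf K, p * w = w * p := by
  set P := pCoreOf 2 M
  have hcomm : ∀ p ∈ P, ∀ g ∈ K, ⁅p, g⁆ ∈ pCoreOf 2 K := by
    intro p hp g hg
    refine le_pCoreOf (P := K ⊓ P) inf_le_left (isPGroup_pCoreOf M).to_inf_right (fun x hx => ?_)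
      ⟨(commutator_elem_mem hg (hPK hp)).2, (commutator_elem_mem hp (le_normalizer_pCoreOf M (hKM hg))).1⟩
    rw [mem_normalizer_iff_cj, cj_inf, cj_eq_self (Subgroup.le_normalizer hx),
      cj_eq_self (le_normalizer_pCoreOf M (hKM hx))]
  have hne : wOf K ≠ ⊥ := fun hb => by rw [hb, Subgroup.card_bot] at h4; omega
  obtain ⟨w, hw, hw1, hwP⟩ := exists_fixed (isPGroup_pCoreOf M) (isPGroup_elementary wOf_el) hne
    (fun p hp => wOf_norm_of (hPK hp))
  have hX : wOf K ⊓ Subgroup.centralizer (P : Set G) = wOf K := by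
    refine d.eq_wOf h4 inf_le_left (fun x hx => ?_) ⟨hw, Subgroup.mem_centralizer_iff.2 hwP⟩ hw1
    obtain ⟨hxW, hxP⟩ := Subgroup.mem_inf.1 hx
    have hxk : k * x * k⁻¹ ∈ wOf K := (Subgroup.mem_normalizer_iff.1 (wOf_norm d.mem) x).1 hxW
    refine ⟨hxk, Subgroup.mem_centralizer_iff.2 fun p hp => mul_inv_eq_iff_eq_mul.1 ?_⟩
    calc p * (k * x * k⁻¹) * p⁻¹ = ⁅p, k⁆ * (k * (p * x * p⁻¹) * k⁻¹) * ⁅p, k⁆⁻¹ := by
          simp only [commutatorElement_def]; group
      _ = ⁅p, k⁆ * (k * x * k⁻¹) * ⁅p, k⁆⁻¹ := by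
        rw [Subgroup.mem_centralizer_iff.1 hxP p hp, mul_inv_cancel_right]
      _ = _ := by rw [omegaCenter_comm (wOf_le_omega hxk) (hcomm p hp k d.mem), mul_inv_cancel_right]
  intro p hp w hw
  exact Subgroup.mem_centralizer_iff.1 (Subgroup.mem_inf.1 (hX.ge hw)).2 p hp

theorem center_split {T K : Subgroup G} (hT : IsPGroup 2 T) (hK : IsJComponent T K) :
    Nat.card ↥(omegaCenterOf (thompsonSubgroupOf 2 T) ⊓ wOf K) = 2 ∧
      (omegaCenterOf (thompsonSubgroupOf 2 T) ⊓ ((K ⊔ thompsonSubgroupOf 2 T) ⊓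
        Subgroup.centralizer ((K ⊔ thompsonSubgroupOf 2 T : Subgroup G) : Set G))) ⊔
        (omegaCenterOf (thompsonSubgroupOf 2 T) ⊓ wOf K) = omegaCenterOf (thompsonSubgroupOf 2 T) := by
  classical
  obtain ⟨hgen, hcomm, hidx, hsylow, h4, -⟩ := id hK
  obtain ⟨k, d, hkP⟩ := exists_kgen hgen hidx
  set J := thompsonSubgroupOf 2 T
  set Z₀ := omegaCenterOf J
  set W := wOf K
  set M := K ⊔ J with hMdef
  set O := pCoreOf 2 K
  set P := pCoreOf 2 M
  have hWel : El W := wOf_el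
  have hWne : W ≠ ⊥ := fun hb => by rw [hb, Subgroup.card_bot] at h4; omega
  have hJK : J ≤ Subgroup.normalizer (K : Set G) := by
    have h1 := Subgroup.normalizer_commutator_ge_right K J
    rwa [hcomm] at h1
  have hMK : M ≤ Subgroup.normalizer (K : Set G) := sup_le Subgroup.le_normalizer hJK
  have hMW : ∀ {g}, g ∈ M → ∀ {w}, w ∈ W → g * w * g⁻¹ ∈ W := fun hg _ hw =>
    (Subgroup.mem_normalizer_iff.1 (wOf_norm_of (hMK hg)) _).1 hw
  have hKM : K ≤ M := le_sup_left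
  have hJM : J ≤ M := le_sup_right
  have hOP : O ≤ P := le_pCoreOf ((pCoreOf_le K).trans hKM) (isPGroup_pCoreOf K) fun g hg => by
    rw [mem_normalizer_iff_cj, pCoreOf_cj, cj_eq_self (hMK hg)]
  obtain ⟨S, hS, hJS⟩ := exists_sylIn_ge (hT.to_le (J_le T)) hJM
  have hJeq : thompsonSubgroupOf 2 S = J := hsylow S (isSylowTwoIn_of_sylIn hS) hJS
  have hPS : P ≤ S := pCoreOf_le_sylIn hS
  have hWP : W ≤ P := (wOf_le_omega.trans (omegaCenterOf_le _)).trans hOP
  have hOW : ∀ p ∈ O, ∀ w ∈ W, p * w = w * p := fun p hp w hw => omegaCenter_comm (wOf_le_omega hw) hp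
  -- the fixed points of `J` on `W`
  have hnot : ¬ ∀ j ∈ J, ∀ w ∈ W, j * w = w * j := by
    intro hc
    refine hkP ?_
    have hKO : K ≤ O := by
      rw [← hcomm, Subgroup.commutator_le]
      intro g hg j hj
      have hcW : ∀ g ∈ K, ∀ w ∈ W, ⁅g, j⁆ * w * ⁅g, j⁆⁻¹ = w := by
        intro g hg w hw
        have hinv : j⁻¹ * w * j = w := by rw [mul_assoc, ← hc j hj w hw, inv_mul_cancel_left]
        have h1 : g⁻¹ * w * g ∈ W := by simpa using hMW (inv_mem (hKM hg)) hw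
        have hj' : j⁻¹ * (g⁻¹ * w * g) * j = g⁻¹ * w * g := by rw [mul_assoc, ← hc j hj _ h1, inv_mul_cancel_left]
        have h2 : j * (g⁻¹ * w * g) * j⁻¹ = g⁻¹ * w * g := by rw [hc j hj _ h1, mul_inv_cancel_right]
        calc ⁅g, j⁆ * w * ⁅g, j⁆⁻¹ = g * (j * (g⁻¹ * (j⁻¹ * w * j) * g) * j⁻¹) * g⁻¹ := by
              simp only [commutatorElement_def]; group
          _ = _ := by rw [hinv, h2]; group
      obtain ⟨p, hp, i, hi, he⟩ := d.split ((commutator_elem_mem hg (hJK hj)).1)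
      suffices i = 0 by rw [← he, this, pow_zero, mul_one]; exact hp
      by_contra hi0
      obtain ⟨w, hw, hw1⟩ := W.bot_or_exists_ne_one.resolve_left hWne
      refine hw1 (d.fpf hw ?_)
      have h1 : k ^ i * w * (k ^ i)⁻¹ = w := by
        have h2 := hcW g hg w hw
        rw [← he] at h2
        calc k ^ i * w * (k ^ i)⁻¹ = p⁻¹ * (p * k ^ i * w * (p * k ^ i)⁻¹) * p := by group
          _ = p⁻¹ * w * p := by rw [h2]
          _ = w := by rw [mul_assoc, ← hOW p hp w hw, inv_mul_cancel_left]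
      rcases (show i = 1 ∨ i = 2 by omega) with rfl | rfl
      · simpa using h1
      · calc k * w * k⁻¹ = k * (k ^ 2 * w * (k ^ 2)⁻¹) * k⁻¹ := by rw [h1]
          _ = k ^ 3 * w * (k ^ 3)⁻¹ := by
            rw [show k ^ 3 = k * k ^ 2 from pow_succ' k 2, mul_inv_rev]; simp only [mul_assoc]
          _ = w := by rw [d.cube, one_mul, inv_one, mul_one]
    exact hKO d.mem
  set W₀ := W ⊓ Subgroup.centralizer (J : Set G)
  have hW₀ne : W₀ ≠ W := fun e => hnot fun j hj w hw =>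
    Subgroup.mem_centralizer_iff.1 (Subgroup.mem_inf.1 (e.ge hw)).2 j hj
  obtain ⟨w₀, hw₀, hw₀1, hw₀J⟩ := exists_fixed (hT.to_le (J_le T)) (isPGroup_elementary hWel) hWne
    (fun j hj => wOf_norm_of (hJK hj))
  have hW₀2 : Nat.card W₀ = 2 := by
    have hdvd : Nat.card W₀ ∣ 2 ^ 2 := by
      have h1 := Subgroup.card_dvd_of_le (inf_le_left : W₀ ≤ W)
      rwa [h4] at h1
    obtain ⟨n, hn, e⟩ := (Nat.dvd_prime_pow Nat.prime_two).1 hdvd
    rcases (show n = 0 ∨ n = 1 ∨ n = 2 by omega) with rfl | rfl | rfl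
    · exfalso
      have h0 := Subgroup.card_eq_one.1 (e.trans (pow_zero 2))
      exact hw₀1 (Subgroup.mem_bot.1 (h0.le (Subgroup.mem_inf.2 ⟨hw₀, Subgroup.mem_centralizer_iff.2 hw₀J⟩)))
    · simpa using e
    · exact absurd (Subgroup.eq_of_le_of_card_ge (inf_le_left : W₀ ≤ W) (by rw [e, h4]; rfl)) hW₀ne
  have hmxJ : ∀ {A}, A ∈ mx S → A ≤ J := fun hA => (mx_le_J hA).trans hJeq.le
  have hWZ : W₀ ≤ Z₀ := by
    intro w hw
    obtain ⟨hwW, hwc⟩ := Subgroup.mem_inf.1 hw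
    obtain ⟨A, hA⟩ := mx_nonempty S
    have hwA : w ∈ A := mem_mx_of_commute hA (hPS (hWP hwW)) (hWel.2 w hwW) fun a ha =>
      (Subgroup.mem_centralizer_iff.1 hwc a (hmxJ hA ha)).symm
    exact mem_omegaCenter (hmxJ hA hwA) (hWel.2 w hwW) fun y hy => Subgroup.mem_centralizer_iff.1 hwc y hy
  have hZW : Z₀ ⊓ W = W₀ := by
    refine le_antisymm (fun w hw => ⟨(Subgroup.mem_inf.1 hw).2, Subgroup.mem_centralizer_iff.2 fun j hj =>
      omegaCenter_comm (Subgroup.mem_inf.1 hw).1 hj⟩) (le_inf hWZ inf_le_left)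
  refine ⟨by rw [hZW, hW₀2], le_antisymm (sup_le inf_le_left inf_le_left) fun z hz => ?_⟩
  -- now `z`
  have hzJ : z ∈ J := omegaCenterOf_le J hz
  have hzM : z ∈ M := hJM hzJ
  have hz2 : z ^ 2 = 1 := (omegaCenter_el J).2 z hz
  have hzA : ∀ {A}, A ∈ mx S → z ∈ A := fun {A} hA =>
    mem_mx_of_commute hA (hJS hzJ) hz2 fun a ha => (omegaCenter_comm hz (hmxJ hA ha)).symm
  have hA' : ∀ {A}, A ∈ mx S → (A ⊓ Subgroup.centralizer (W : Set G)) ⊔ W ∈ mx S := by
    intro A hA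
    set A' := (A ⊓ Subgroup.centralizer (W : Set G)) ⊔ W
    have hel : El A' := Local.elemAb_sup (Local.elemAb_mono hA.2.1 inf_le_left) hWel fun a ha w hw =>
      (Subgroup.mem_centralizer_iff.1 (Subgroup.mem_inf.1 ha).2 w hw).symm
    refine ⟨sup_le (inf_le_left.trans hA.1) (hWP.trans hPS), hel, fun C hC hC' => (hA.2.2 C hC hC').trans ?_⟩
    by_cases hAC : A ≤ Subgroup.centralizer (W : Set G)
    · exact Subgroup.card_le_of_le ((le_inf le_rfl hAC).trans le_sup_left)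
    have hAn : A ≤ Subgroup.normalizer (W : Set G) := fun a ha => wOf_norm_of (hJK (hmxJ hA ha))
    obtain ⟨w₁, hw₁, hw₁1, hw₁A⟩ := exists_fixed (isPGroup_elementary hA.2.1) (isPGroup_elementary hWel) hWne hAn
    obtain ⟨w₂, hw₂, hw₂n⟩ : ∃ w₂ ∈ W, w₂ ∉ Subgroup.zpowers w₁ := by
      by_contra hno
      push Not at hno
      refine hAC (fun a ha => Subgroup.mem_centralizer_iff.2 fun w hw => ?_)
      obtain ⟨i, rfl⟩ := hno w hw
      exact ((show Commute a w₁ from hw₁A a ha).zpow_right i).symm.eq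
    have hz1 : Subgroup.zpowers w₁ ≤ W := Subgroup.zpowers_le.2 hw₁
    have hcz : Nat.card ↥(Subgroup.zpowers w₁) = 2 := by
      rw [Nat.card_zpowers]; exact orderOf_eq_prime (hWel.2 w₁ hw₁) hw₁1
    have hWgen : W ≤ Subgroup.zpowers w₁ ⊔ Subgroup.zpowers w₂ := by
      have hle : Subgroup.zpowers w₁ ⊔ Subgroup.zpowers w₂ ≤ W := sup_le hz1 (Subgroup.zpowers_le.2 hw₂)
      have hlt : Subgroup.zpowers w₁ < Subgroup.zpowers w₁ ⊔ Subgroup.zpowers w₂ := lt_of_le_of_ne le_sup_left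
        fun e => hw₂n (e.ge (Subgroup.mem_sup_right (Subgroup.mem_zpowers w₂)))
      have h2 := mul_card_le_of_lt ((isPGroup_elementary hWel).to_le hle) hlt
      exact (Subgroup.eq_of_le_of_card_ge hle (by omega)).ge
    set A₀ := A ⊓ Subgroup.centralizer (W : Set G)
    have hfix : ∀ a ∈ A, a * w₂ * a⁻¹ = w₂ → a ∈ A₀ := fun a ha h2 => by
      refine ⟨ha, Subgroup.mem_centralizer_iff.2 fun w hw => ?_⟩
      have hs : Subgroup.zpowers w₁ ⊔ Subgroup.zpowers w₂ ≤ Subgroup.centralizer ({a} : Set G) :=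
        sup_le (Subgroup.zpowers_le.2 (Subgroup.mem_centralizer_singleton_iff.2 (hw₁A a ha).symm))
          (Subgroup.zpowers_le.2 (Subgroup.mem_centralizer_singleton_iff.2 (mul_inv_eq_iff_eq_mul.1 h2).symm))
      exact Subgroup.mem_centralizer_singleton_iff.1 (hs (hWgen hw))
    have hA2 : Nat.card A ≤ 2 * Nat.card A₀ := by
      let f : ↥A → Bool := fun a => decide ((a : G) * w₂ * (a : G)⁻¹ = w₂)
      have hthird : ∀ a : ↥A, (a : G) * w₂ * (a : G)⁻¹ ≠ w₂ → (a : G) * w₂ * (a : G)⁻¹ = w₁ * w₂ := by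
        intro a hne
        have hm : (a : G) * w₂ * (a : G)⁻¹ ∈ W := (Subgroup.mem_normalizer_iff.1 (hAn a.2) _).1 hw₂
        by_contra hne'
        haveI := Fintype.ofFinite ↥W
        have h1 : (a : G) * w₂ * (a : G)⁻¹ ≠ 1 := fun e =>
          hw₂n (by rw [conj_eq_one_iff.1 e]; exact one_mem _)
        have h2 : (a : G) * w₂ * (a : G)⁻¹ ≠ w₁ := fun e => by
          refine hw₂n ?_
          have : w₂ = (a : G)⁻¹ * w₁ * a := by rw [← e]; group
          rw [this, mul_assoc, ← hw₁A a a.2, inv_mul_cancel_left]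
          exact Subgroup.mem_zpowers w₁
        have h3 : ({⟨1, one_mem W⟩, ⟨w₁, hw₁⟩, ⟨w₂, hw₂⟩, ⟨w₁ * w₂, mul_mem hw₁ hw₂⟩,
            ⟨(a : G) * w₂ * (a : G)⁻¹, hm⟩} : Finset ↥W).card = 5 := by
          have n1 : w₂ ≠ 1 := fun e => hw₂n (by rw [e]; exact one_mem _)
          have n2 : w₂ ≠ w₁ := fun e => hw₂n (by rw [e]; exact Subgroup.mem_zpowers w₁)
          have n3 : w₁ * w₂ ≠ 1 := fun e => n2 ((eq_inv_of_mul_eq_one_right e).trans (El.inv_eq hWel hw₁))
          have n4 : w₁ * w₂ ≠ w₁ := fun e => n1 (mul_eq_left.1 e)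
          have n5 : w₁ * w₂ ≠ w₂ := fun e => hw₁1 (mul_eq_right.1 e)
          rw [Finset.card_insert_of_notMem, Finset.card_insert_of_notMem, Finset.card_insert_of_notMem,
            Finset.card_insert_of_notMem, Finset.card_singleton] <;>
            simp only [Finset.mem_insert, Finset.mem_singleton, Subtype.mk.injEq, not_or]
          · exact Ne.symm hne'
          · exact ⟨Ne.symm n5, Ne.symm hne⟩
          · exact ⟨Ne.symm n2, Ne.symm n4, Ne.symm h2⟩
          · exact ⟨Ne.symm hw₁1, Ne.symm n1, Ne.symm n3, Ne.symm h1⟩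
        have := Finset.card_le_univ ({⟨1, one_mem W⟩, ⟨w₁, hw₁⟩, ⟨w₂, hw₂⟩, ⟨w₁ * w₂, mul_mem hw₁ hw₂⟩,
            ⟨(a : G) * w₂ * (a : G)⁻¹, hm⟩} : Finset ↥W)
        rw [h3, ← Nat.card_eq_fintype_card, h4] at this
        omega
      haveI : Nonempty ↥A := ⟨1⟩
      have hdiff : ∀ a b : ↥A, f a = f b → (a : G)⁻¹ * b ∈ A₀ := by
        intro a b hab
        refine hfix _ (mul_mem (inv_mem a.2) b.2) ?_
        have e : (a : G) * w₂ * (a : G)⁻¹ = (b : G) * w₂ * (b : G)⁻¹ := by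
          by_cases h1 : (a : G) * w₂ * (a : G)⁻¹ = w₂
          · have h2 : (b : G) * w₂ * (b : G)⁻¹ = w₂ := by
              simpa [f, h1] using hab.symm
            rw [h1, h2]
          · have h2 : (b : G) * w₂ * (b : G)⁻¹ ≠ w₂ := by
              simpa [f, h1] using hab.symm
            rw [hthird a h1, hthird b h2]
        calc ((a : G)⁻¹ * b) * w₂ * ((a : G)⁻¹ * b)⁻¹ = (a : G)⁻¹ * ((b : G) * w₂ * (b : G)⁻¹) * a := by group
          _ = w₂ := by rw [← e]; group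
      calc Nat.card A ≤ Nat.card (Bool × ↥A₀) := Nat.card_le_card_of_injective
            (fun a => (f a, ⟨((Function.invFun f (f a) : ↥A) : G)⁻¹ * a, hdiff _ _ (Function.invFun_eq ⟨a, rfl⟩)⟩))
            (by
              intro a b hab
              simp only [Prod.mk.injEq, Subtype.mk.injEq] at hab
              obtain ⟨h1, h2⟩ := hab
              rw [h1] at h2
              exact Subtype.ext (mul_left_cancel h2))
        _ = _ := by rw [Nat.card_prod, Nat.card_eq_fintype_card, Fintype.card_bool]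
    have h5 : Nat.card ↥(A₀ ⊓ W) ≤ 2 := by
      rw [← hcz]
      refine Subgroup.card_le_of_le fun x hx => ?_
      by_contra hxn
      obtain ⟨hxA, hxW⟩ := Subgroup.mem_inf.1 hx
      refine hAC (fun a ha => Subgroup.mem_centralizer_iff.2 fun w hw => ?_)
      have hle : Subgroup.zpowers w₁ ⊔ Subgroup.zpowers x ≤ W := sup_le hz1 (Subgroup.zpowers_le.2 hxW)
      have hlt : Subgroup.zpowers w₁ < Subgroup.zpowers w₁ ⊔ Subgroup.zpowers x := lt_of_le_of_ne le_sup_left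
        fun e => hxn (e.ge (Subgroup.mem_sup_right (Subgroup.mem_zpowers x)))
      have h2 := mul_card_le_of_lt ((isPGroup_elementary hWel).to_le hle) hlt
      have hs : Subgroup.zpowers w₁ ⊔ Subgroup.zpowers x ≤ Subgroup.centralizer ({a} : Set G) :=
        sup_le (Subgroup.zpowers_le.2 (Subgroup.mem_centralizer_singleton_iff.2 (hw₁A a ha).symm))
          (Subgroup.zpowers_le.2 (Subgroup.mem_centralizer_singleton_iff.2
            (Local.elemAb_commute hA.2.1 (Subgroup.mem_inf.1 hxA).1 ha)))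
      exact Subgroup.mem_centralizer_singleton_iff.1 (hs ((Subgroup.eq_of_le_of_card_ge hle (by omega)).ge hw))
    have h6 := set_card_le (le_sup_left : A₀ ≤ A') (le_sup_right : W ≤ A')
    rw [h4] at h6
    have h7 : Nat.card A₀ * 4 ≤ Nat.card A' * 2 := h6.trans (Nat.mul_le_mul_left _ h5)
    omega
  have hzW : ∀ w ∈ W, z * w = w * z := by
    intro w hw
    obtain ⟨A, hA⟩ := mx_nonempty S
    have hle : (A ⊓ Subgroup.centralizer (W : Set G)) ⊔ W ≤ Subgroup.centralizer (W : Set G) :=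
      sup_le inf_le_right fun x hx => Subgroup.mem_centralizer_iff.2 fun y hy => Local.elemAb_commute hWel hy hx
    exact (Subgroup.mem_centralizer_iff.1 (hle (hzA (hA' hA))) w hw).symm
  -- elements of `S` centralizing `W` lie in the core
  have hD : S ⊓ Subgroup.centralizer (W : Set G) ≤ P := by
    set D := S ⊓ Subgroup.centralizer (W : Set G)
    refine le_pCoreOf (inf_le_left.trans hS.le) hS.isPGroup.to_inf_left ?_
    have hSn : S ≤ Subgroup.normalizer (D : Set G) := fun s hs => by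
      rw [mem_normalizer_iff_cj, cj_inf, cj_eq_self (Subgroup.le_normalizer hs), cj_centralizer,
        cj_eq_self (wOf_norm_of (hMK (hS.le hs)))]
    have hk : k ∈ Subgroup.normalizer (D : Set G) := by
      refine mem_normalizer_of_cj_le ?_
      rintro _ ⟨s, hs, rfl⟩
      show k * s * k⁻¹ ∈ D
      obtain ⟨hsS, hsc⟩ := Subgroup.mem_inf.1 hs
      have hkM : k ∈ M := hKM d.mem
      have hksW : ∀ w ∈ W, ⁅k, s⁆ * w * ⁅k, s⁆⁻¹ = w := by
        intro w hw
        have hs' : ∀ v ∈ W, s⁻¹ * v * s = v ∧ s * v * s⁻¹ = v := fun v hv => by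
          refine ⟨?_, ?_⟩
          · rw [mul_assoc, Subgroup.mem_centralizer_iff.1 hsc v hv, inv_mul_cancel_left]
          · rw [← Subgroup.mem_centralizer_iff.1 hsc v hv, mul_inv_cancel_right]
        have h1 : k⁻¹ * w * k ∈ W := by simpa using hMW (inv_mem hkM) hw
        calc ⁅k, s⁆ * w * ⁅k, s⁆⁻¹ = k * (s * (k⁻¹ * (s⁻¹ * w * s) * k) * s⁻¹) * k⁻¹ := by
              simp only [commutatorElement_def]; group
          _ = _ := by rw [(hs' w hw).1, (hs' _ h1).2]; group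
      have hksO : ⁅k, s⁆ ∈ O := by
        obtain ⟨p, hp, i, hi, he⟩ := d.split (commutator_elem_mem d.mem (hMK (hS.le hsS))).1
        suffices i = 0 by rw [← he, this, pow_zero, mul_one]; exact hp
        by_contra hi0
        obtain ⟨w, hw, hw1⟩ := W.bot_or_exists_ne_one.resolve_left hWne
        refine hw1 (d.fpf hw ?_)
        have h1 : k ^ i * w * (k ^ i)⁻¹ = w := by
          have h2 := hksW w hw
          rw [← he] at h2
          calc k ^ i * w * (k ^ i)⁻¹ = p⁻¹ * (p * k ^ i * w * (p * k ^ i)⁻¹) * p := by group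
            _ = p⁻¹ * w * p := by rw [h2]
            _ = w := by rw [mul_assoc, ← hOW p hp w hw, inv_mul_cancel_left]
        rcases (show i = 1 ∨ i = 2 by omega) with rfl | rfl
        · simpa using h1
        · calc k * w * k⁻¹ = k * (k ^ 2 * w * (k ^ 2)⁻¹) * k⁻¹ := by rw [h1]
            _ = k ^ 3 * w * (k ^ 3)⁻¹ := by
              rw [show k ^ 3 = k * k ^ 2 from pow_succ' k 2, mul_inv_rev]; simp only [mul_assoc]
            _ = w := by rw [d.cube, one_mul, inv_one, mul_one]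
      rw [show k * s * k⁻¹ = ⁅k, s⁆ * s by simp only [commutatorElement_def]; group]
      exact mul_mem ⟨hPS (hOP hksO), Subgroup.mem_centralizer_iff.2 fun w hw => (hOW _ hksO w hw).symm⟩ hs
    exact sup_le (d.le.trans (sup_le ((hOP.trans hPS).trans hSn) (Subgroup.zpowers_le.2 hk))) (hJS.trans hSn)
  have hA'P : ∀ {A}, A ∈ mx S → (A ⊓ Subgroup.centralizer (W : Set G)) ⊔ W ≤ P := fun hA =>
    sup_le ((inf_le_inf_right _ hA.1).trans hD) hWP
  have hmxP : mx P ⊆ mx S := fun B hB => ⟨hB.1.trans hPS, hB.2.1, fun C hC hC' => by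
    obtain ⟨A, hA⟩ := mx_nonempty S
    exact ((hA' hA).2.2 C hC hC').trans (hB.2.2 _ (hA'P hA) (hA' hA).2.1)⟩
  have hzy : ∀ y ∈ M, ∀ {A}, A ∈ mx S → ∀ a ∈ A, ⁅a, y * z * y⁻¹⁆ ∈ W := by
    intro y hy A hA a ha
    set A₀ := A ⊓ Subgroup.centralizer (W : Set G)
    have hB : A₀ ⊔ W ∈ mx P := ⟨hA'P hA, (hA' hA).2.1, fun C hC hC' => (hA' hA).2.2 C (hC.trans hPS) hC'⟩
    have hB' : cj (A₀ ⊔ W) y⁻¹ ∈ mx P := by
      refine ⟨(cj_mono hB.1 _).trans (cj_eq_self (le_normalizer_pCoreOf M (inv_mem hy))).le,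
        (replFamily_elementary 2).map_equiv hB.2.1 (MulAut.conj y⁻¹), fun C hC hC' => ?_⟩
      show _ ≤ Nat.card ↥(cj (A₀ ⊔ W) y⁻¹)
      rw [card_cj]; exact hB.2.2 C hC hC'
    have hm : y * z * y⁻¹ ∈ A₀ ⊔ W := by
      have h1 := hzA (hmxP hB')
      rw [mem_cj] at h1
      simpa using h1
    have hn : W ≤ Subgroup.normalizer (A₀ : Set G) := fun w hw => by
      refine Subgroup.mem_normalizer_iff.2 fun x => ?_
      constructor
      · intro hx
        rw [Subgroup.mem_centralizer_iff.1 (Subgroup.mem_inf.1 hx).2 w hw, mul_inv_cancel_right]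
        exact hx
      · intro hx
        have e : x = w⁻¹ * (w * x * w⁻¹) * w := by group
        rw [e, Subgroup.mem_centralizer_iff.1 (Subgroup.mem_inf.1 hx).2 w⁻¹ (inv_mem hw), inv_mul_cancel_right]
        exact hx
    obtain ⟨x, hx, w, hw, e⟩ := (mem_sup_iff_mul hn).1 hm
    rw [← e, show ⁅a, x * w⁆ = ⁅a, x⁆ * (x * ⁅a, w⁆ * x⁻¹) by simp only [commutatorElement_def]; group,
      commutatorElement_eq_one_iff_mul_comm.2 (Local.elemAb_commute hA.2.1 ha (Subgroup.mem_inf.1 hx).1), one_mul]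
    have hax : ⁅a, w⁆ ∈ W := (commutator_elem_mem hw (wOf_norm_of (hJK (hmxJ hA ha)))).2
    rwa [← Subgroup.mem_centralizer_iff.1 (Subgroup.mem_inf.1 hx).2 _ hax, mul_inv_cancel_right]
  have hMWn : M ≤ Subgroup.normalizer (W : Set G) := fun g hg => wOf_norm_of (hMK hg)
  set G₀ : Set G := {g | g ∈ M ∧ ⁅g, z⁆ ∈ W}
  have hconj : ∀ y ∈ M, ∀ j ∈ J, y * j * y⁻¹ ∈ Subgroup.closure G₀ := by
    intro y hy j hj
    have hle : J ≤ cj (Subgroup.closure G₀) y⁻¹ := by
      rw [← hJeq, J_eq]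
      refine sSup_le fun A hA a ha => ?_
      rw [mem_cj, inv_inv]
      refine Subgroup.subset_closure ⟨mul_mem (mul_mem hy (hJM (hmxJ hA ha))) (inv_mem hy), ?_⟩
      have h1 := hzy y⁻¹ (inv_mem hy) hA a ha
      rw [inv_inv] at h1
      rw [show ⁅y * a * y⁻¹, z⁆ = y * ⁅a, y⁻¹ * z * y⁆ * y⁻¹ by simp only [commutatorElement_def]; group]
      exact hMW hy h1
    have := hle hj
    rwa [mem_cj, inv_inv] at this
  have hKz : ∀ g ∈ K, ⁅g, z⁆ ∈ W := by
    intro g hg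
    refine comm_left_closure' (fun s hs => hMWn hs.1) (fun s hs => hs.2) ((?_ : K ≤ Subgroup.closure G₀) hg)
    rw [← hcomm, Subgroup.commutator_le]
    intro g hg j hj
    rw [commutatorElement_def]
    exact mul_mem (hconj g (hKM hg) j hj) (inv_mem (by simpa using hconj 1 (one_mem M) j hj))
  have hW₀val : ∀ {w}, w ∈ W₀ → w = 1 ∨ w = w₀ := by
    intro w hw
    have hs : Subgroup.zpowers w₀ = W₀ := eq_zpowers_of_mem hW₀2 ⟨hw₀, Subgroup.mem_centralizer_iff.2 hw₀J⟩ hw₀1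
    rw [← hs] at hw
    obtain ⟨i, rfl⟩ := hw
    rcases Int.even_or_odd i with ⟨m, rfl⟩ | ⟨m, rfl⟩
    · left
      show w₀ ^ (m + m) = 1
      rw [← two_mul, zpow_mul, show w₀ ^ (2 : ℤ) = 1 from by exact_mod_cast hWel.2 w₀ hw₀, one_zpow]
    · right
      show w₀ ^ (2 * m + 1) = w₀
      rw [zpow_add, zpow_mul, show w₀ ^ (2 : ℤ) = 1 from by exact_mod_cast hWel.2 w₀ hw₀, one_zpow, one_mul, zpow_one]
  have hfW₀ : ∀ x ∈ O, ⁅x, z⁆ ∈ W₀ := by
    intro x hx
    refine Subgroup.mem_inf.2 ⟨hKz x (pCoreOf_le K hx), Subgroup.mem_centralizer_iff.2 fun j hj => ?_⟩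
    refine mul_inv_eq_iff_eq_mul.1 ?_
    have hxN : x ∈ Subgroup.normalizer (J : Set G) := by
      rw [mem_normalizer_iff_cj, ← hJeq, thompson_cj, cj_eq_self_of_mem (hPS (hOP hx))]
    have hjz : j * z * j⁻¹ = z := by rw [omegaCenter_comm hz hj, mul_inv_cancel_right]
    have hj' : x⁻¹ * j * x * j⁻¹ ∈ J := mul_mem
      (by simpa using (Subgroup.mem_normalizer_iff.1 (inv_mem hxN) j).1 hj) (inv_mem hj)
    calc j * ⁅x, z⁆ * j⁻¹ = ⁅x * (x⁻¹ * j * x * j⁻¹), j * z * j⁻¹⁆ := by simp only [commutatorElement_def]; group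
      _ = ⁅x * (x⁻¹ * j * x * j⁻¹), z⁆ := by rw [hjz]
      _ = x * ((x⁻¹ * j * x * j⁻¹) * z * (x⁻¹ * j * x * j⁻¹)⁻¹) * x⁻¹ * z⁻¹ := by
        simp only [commutatorElement_def]; group
      _ = _ := by rw [omegaCenter_comm hz hj', mul_inv_cancel_right, commutatorElement_def]
  have hOz : ∀ x ∈ O, x * z = z * x := by
    intro x hx
    refine commutatorElement_eq_one_iff_mul_comm.1 ?_
    have hkx : k * x * k⁻¹ ∈ O := (Subgroup.mem_normalizer_iff.1 (le_normalizer_pCoreOf K d.mem) x).1 hx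
    have hw' : ⁅k⁻¹, z⁆ ∈ W := hKz _ (inv_mem d.mem)
    have hf := (Subgroup.mem_inf.1 (hfW₀ x hx)).1
    have e : ⁅k * x * k⁻¹, z⁆ = k * ⁅x, z⁆ * k⁻¹ := by
      calc ⁅k * x * k⁻¹, z⁆ = k * (x * ⁅k⁻¹, z⁆ * x⁻¹ * ⁅x, z⁆ * ⁅k⁻¹, z⁆⁻¹) * k⁻¹ := by
            simp only [commutatorElement_def]; group
        _ = _ := by rw [hOW x hx _ hw', mul_inv_cancel_right, Local.elemAb_commute hWel hw' hf, mul_inv_cancel_right]
    rcases hW₀val (hfW₀ x hx) with h1 | h1
    · exact h1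
    rcases hW₀val (hfW₀ _ hkx) with h2 | h2 <;> rw [e, h1] at h2
    · exact absurd (conj_eq_one_iff.1 h2) hw₀1
    · exact absurd (d.fpf hw₀ h2) hw₀1
  -- the central part
  have hkW : ∀ {u}, u ∈ W → k * u * k⁻¹ ∈ W := fun hu => hMW (hKM d.mem) hu
  let δ : ↥W → ↥W := fun u => ⟨u * (k * u * k⁻¹), mul_mem u.2 (hkW u.2)⟩
  have hδ : Function.Surjective δ := by
    refine Finite.surjective_of_injective fun u v huv => Subtype.ext ?_
    have e : (u : G) * (k * u * k⁻¹) = v * (k * v * k⁻¹) := congrArg Subtype.val huv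
    have huv' : (u : G) * v ∈ W := mul_mem u.2 v.2
    have h1 : k * ((u : G) * v) * k⁻¹ = (u : G) * v := by
      have h2 : k * (u : G) * k⁻¹ = (u : G) * (v * (k * v * k⁻¹)) := by
        rw [← e, ← mul_assoc, ← pow_two, hWel.2 u u.2, one_mul]
      calc k * ((u : G) * v) * k⁻¹ = (k * u * k⁻¹) * (k * v * k⁻¹) := by group
        _ = (u : G) * v * ((k * v * k⁻¹) * (k * v * k⁻¹)) := by rw [h2]; simp only [mul_assoc]
        _ = _ := by rw [← pow_two (k * (v : G) * k⁻¹), hWel.2 _ (hkW v.2), mul_one]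
    have h3 := d.fpf huv' h1
    rw [eq_inv_of_mul_eq_one_left h3, El.inv_eq hWel v.2]
  obtain ⟨⟨u, hu⟩, he⟩ := hδ ⟨⁅k, z⁆, hKz k d.mem⟩
  have he' : u * (k * u * k⁻¹) = ⁅k, z⁆ := congrArg Subtype.val he
  set c := z * u
  have hck : k * c = c * k := by
    refine mul_inv_eq_iff_eq_mul.1 ?_
    calc k * c * k⁻¹ = ⁅k, z⁆ * (z * (k * u * k⁻¹)) := by simp only [c, commutatorElement_def]; group
      _ = z * (⁅k, z⁆ * (k * u * k⁻¹)) := by rw [← mul_assoc, ← hzW _ (hKz k d.mem), mul_assoc]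
      _ = c := by rw [← he', mul_assoc u, ← pow_two (k * u * k⁻¹), hWel.2 _ (hkW hu), mul_one]
  have hcK : ∀ g ∈ K, g * c = c * g := by
    intro g hg
    obtain ⟨p, hp, i, -, rfl⟩ := d.split hg
    exact ((show Commute p c from ((show Commute p z from hOz p hp).mul_right (hOW p hp u hu))).mul_left
      ((show Commute k c from hck).pow_left i)).eq
  have huJ : u ∈ W₀ := by
    refine Subgroup.mem_inf.2 ⟨hu, Subgroup.mem_centralizer_iff.2 fun j hj => mul_inv_eq_iff_eq_mul.1 ?_⟩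
    have hju : j * u * j⁻¹ ∈ W := hMW (hJM hj) hu
    have hk' : j⁻¹ * k * j ∈ K := by simpa using (Subgroup.mem_normalizer_iff.1 (inv_mem (hJK hj)) k).1 d.mem
    have hc' : k * (j * c * j⁻¹) = (j * c * j⁻¹) * k := by
      calc k * (j * c * j⁻¹) = j * ((j⁻¹ * k * j) * c) * j⁻¹ := by group
        _ = j * (c * (j⁻¹ * k * j)) * j⁻¹ := by rw [hcK _ hk']
        _ = _ := by group
    have hjz : j * z * j⁻¹ = z := by rw [omegaCenter_comm hz hj, mul_inv_cancel_right]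
    have e1 : c⁻¹ * (j * c * j⁻¹) = u⁻¹ * (j * u * j⁻¹) := by
      calc c⁻¹ * (j * c * j⁻¹) = u⁻¹ * z⁻¹ * ((j * z * j⁻¹) * (j * u * j⁻¹)) := by simp only [c]; group
        _ = _ := by rw [hjz]; group
    have h1 : k * (u⁻¹ * (j * u * j⁻¹)) * k⁻¹ = u⁻¹ * (j * u * j⁻¹) := by
      rw [← e1]
      exact mul_inv_eq_iff_eq_mul.2
        ((show Commute k c⁻¹ from Commute.inv_right hck).mul_right hc').eq
    exact (inv_mul_eq_one.1 (d.fpf (mul_mem (inv_mem hu) hju) h1)).symm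
  have huZ : u ∈ Z₀ := hWZ huJ
  have hcZ : c ∈ Z₀ := mul_mem hz huZ
  have hcM : c ∈ M ⊓ Subgroup.centralizer (M : Set G) := by
    refine ⟨hJM (omegaCenterOf_le J hcZ), Subgroup.mem_centralizer_iff.2 fun g hg => ?_⟩
    exact (Subgroup.mem_centralizer_singleton_iff.1 ((sup_le
      (fun x hx => Subgroup.mem_centralizer_singleton_iff.2 (hcK x hx))
      (fun x hx => Subgroup.mem_centralizer_singleton_iff.2 (omegaCenter_comm hcZ hx)) :
      K ⊔ J ≤ Subgroup.centralizer {c}) hg))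
  rw [show z = c * u⁻¹ by simp [c]]
  exact mul_mem (Subgroup.mem_sup_left ⟨hcZ, hcM⟩) (Subgroup.mem_sup_right (inv_mem ⟨huZ, hu⟩))

end Cfsg.Agent.JComp
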