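import Cfsg.Agent.Lib.JComp.Setup

/-!
# An element of order three on an elementary abelian `2`-group
-/

set_option autoImplicit false

open Cfsg
open scoped commutatorElement

namespace Cfsg.Agent.JComp

open Cfsg.Agent.Fusion

universe u

variable {G : Type u} [Group G]

/-- The norm of `x` under `k`. -/
abbrev nm (k x : G) : G := x * (k * x * k⁻¹) * (k ^ 2 * x * (k ^ 2)⁻¹)

theorem El.inv_eq {U : Subgroup G} (hU : El U) {x : G} (hx : x ∈ U) : x⁻¹ = x :=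
  inv_eq_of_mul_eq_one_left (by rw [← pow_two]; exact hU.2 x hx)

theorem nm_mul {U : Subgroup G} (hU : El U) {k : G} (hk : k ∈ Subgroup.normalizer (U : Set G)) {x y : G}
    (hx : x ∈ U) (hy : y ∈ U) : nm k (x * y) = nm k x * nm k y := by
  have hm : ∀ {g : G}, g ∈ Subgroup.normalizer (U : Set G) → ∀ {z : G}, z ∈ U → g * z * g⁻¹ ∈ U := fun hg _ hz =>
    (Subgroup.mem_normalizer_iff.1 hg _).1 hz
  have h2 := pow_mem hk 2
  set a := k * x * k⁻¹ with ha
  set b := k * y * k⁻¹ with hb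
  set c := k ^ 2 * x * (k ^ 2)⁻¹ with hc
  set d := k ^ 2 * y * (k ^ 2)⁻¹ with hd
  have e1 : k * (x * y) * k⁻¹ = a * b := by rw [ha, hb]; group
  have e2 : k ^ 2 * (x * y) * (k ^ 2)⁻¹ = c * d := by rw [hc, hd]; group
  show x * y * (k * (x * y) * k⁻¹) * (k ^ 2 * (x * y) * (k ^ 2)⁻¹) = x * a * c * (y * b * d)
  rw [e1, e2]
  have cya : y * a = a * y := Local.elemAb_commute hU hy (hm hk hx)
  have cbc : y * b * c = c * (y * b) := Local.elemAb_commute hU (mul_mem hy (hm hk hy)) (hm h2 hx)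
  calc x * y * (a * b) * (c * d) = x * (y * a) * b * c * d := by group
    _ = x * a * (y * b * c) * d := by rw [cya]; group
    _ = x * a * c * (y * b * d) := by rw [cbc]; group

theorem nm_conj {U : Subgroup G} (hU : El U) {k : G} (hk : k ∈ Subgroup.normalizer (U : Set G)) (h3 : k ^ 3 = 1)
    {x : G} (hx : x ∈ U) : nm k (k * x * k⁻¹) = nm k x := by
  have hm : ∀ {g : G}, g ∈ Subgroup.normalizer (U : Set G) → g * x * g⁻¹ ∈ U := fun hg =>
    (Subgroup.mem_normalizer_iff.1 hg _).1 hx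
  have h2 := pow_mem hk 2
  have e1 : k * (k * x * k⁻¹) * k⁻¹ = k ^ 2 * x * (k ^ 2)⁻¹ := by rw [pow_two]; group
  have e2 : k ^ 2 * (k * x * k⁻¹) * (k ^ 2)⁻¹ = x := by
    calc k ^ 2 * (k * x * k⁻¹) * (k ^ 2)⁻¹ = k ^ 3 * x * (k ^ 3)⁻¹ := by group
      _ = x := by rw [h3, inv_one, one_mul, mul_one]
  show k * x * k⁻¹ * (k * (k * x * k⁻¹) * k⁻¹) * (k ^ 2 * (k * x * k⁻¹) * (k ^ 2)⁻¹) = _
  rw [e1, e2, Local.elemAb_commute hU (mul_mem (hm hk) (hm h2)) hx, ← mul_assoc]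

/-- A fixed element with trivial norm is trivial. -/
theorem eq_one_of_nm {U : Subgroup G} (hU : El U) {k x : G} (hx : x ∈ U) (hfix : k * x * k⁻¹ = x)
    (hn : nm k x = 1) : x = 1 := by
  have h2 : k ^ 2 * x * (k ^ 2)⁻¹ = x := by
    calc k ^ 2 * x * (k ^ 2)⁻¹ = k * (k * x * k⁻¹) * k⁻¹ := by rw [pow_two]; group
      _ = x := by rw [hfix, hfix]
  rw [nm, hfix, h2, ← pow_two, hU.2 x hx, one_mul] at hn
  exact hn

/-- Commutators with `k` have trivial norm. -/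
theorem nm_comm {U : Subgroup G} (hU : El U) {k : G} (hk : k ∈ Subgroup.normalizer (U : Set G)) (h3 : k ^ 3 = 1)
    {x : G} (hx : x ∈ U) (i : ℕ) : nm k ⁅x, k ^ i⁆ = 1 := by
  have hp : ∀ j : ℕ, k ^ j * x⁻¹ * (k ^ j)⁻¹ ∈ U := fun j =>
    (Subgroup.mem_normalizer_iff.1 (pow_mem hk j) _).1 (inv_mem hx)
  have hi : ∀ j : ℕ, nm k (k ^ j * x⁻¹ * (k ^ j)⁻¹) = nm k x⁻¹ := by
    intro j
    induction j with
    | zero => simp
    | succ j ih =>
      rw [← ih, ← nm_conj hU hk h3 (hp j)]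
      congr 1
      simp only [pow_succ', mul_inv_rev, mul_assoc]
  rw [commutatorElement_def, show x * k ^ i * x⁻¹ * (k ^ i)⁻¹ = x * (k ^ i * x⁻¹ * (k ^ i)⁻¹) by group,
    nm_mul hU hk hx (hp i), hi, ← nm_mul hU hk hx (inv_mem hx), mul_inv_cancel]
  simp [nm]

/-- A set of generators of `K` over its core. -/
structure KGen (K : Subgroup G) (k : G) : Prop where
  mem : k ∈ K
  cube : k ^ 3 = 1
  le : K ≤ pCoreOf 2 K ⊔ Subgroup.zpowers k

theorem exists_pow_of_zpow {k : G} (h3 : k ^ 3 = 1) {z : G} (hz : z ∈ Subgroup.zpowers k) :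
    ∃ i : ℕ, i < 3 ∧ k ^ i = z := by
  obtain ⟨j, rfl⟩ := hz
  refine ⟨(j % 3).toNat, by omega, ?_⟩
  have h : k ^ (3 : ℤ) = 1 := by rw [show (3 : ℤ) = ((3 : ℕ) : ℤ) from rfl, zpow_natCast, h3]
  rw [← zpow_natCast, Int.toNat_of_nonneg (Int.emod_nonneg j (by norm_num))]
  show k ^ (j % 3) = k ^ j
  conv_rhs => rw [← Int.emod_add_mul_ediv j 3, zpow_add, zpow_mul, h, one_zpow, mul_one]

theorem KGen.split {K : Subgroup G} {k : G} (d : KGen K k) {g : G} (hg : g ∈ K) :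
    ∃ p ∈ pCoreOf 2 K, ∃ i : ℕ, i < 3 ∧ p * k ^ i = g := by
  have hn : Subgroup.zpowers k ≤ Subgroup.normalizer (pCoreOf 2 K : Set G) :=
    (Subgroup.zpowers_le.2 d.mem).trans (le_normalizer_pCoreOf K)
  obtain ⟨p, hp, z, hz, rfl⟩ := (mem_sup_iff_mul hn).1 (d.le hg)
  obtain ⟨i, hi, rfl⟩ := exists_pow_of_zpow d.cube hz
  exact ⟨p, hp, i, hi, rfl⟩

theorem wOf_le_omega [Finite G] {K : Subgroup G} : wOf K ≤ omegaCenterOf (pCoreOf 2 K) :=
  Subgroup.commutator_le.2 fun _ hu _ hg =>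
    (commutator_elem_mem hu (omegaCenter_norm (le_normalizer_pCoreOf K hg))).1

theorem wOf_norm [Finite G] {K : Subgroup G} : K ≤ Subgroup.normalizer (wOf K : Set G) :=
  Subgroup.normalizer_commutator_ge_right _ _

theorem wOf_norm_of [Finite G] [Fact (Nat.Prime 2)] {K : Subgroup G} {g : G}
    (hg : g ∈ Subgroup.normalizer (K : Set G)) : g ∈ Subgroup.normalizer (wOf K : Set G) := by
  rw [mem_normalizer_iff_cj, wOf_cj, cj_eq_self hg]

theorem wOf_el [Finite G] {K : Subgroup G} : El (wOf K) := Local.elemAb_mono (omegaCenter_el _) wOf_le_omega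

/-- `W_K` has trivial norm under `k`. -/
theorem KGen.nm_wOf [Finite G] {K : Subgroup G} {k : G} (d : KGen K k) {w : G} (hw : w ∈ wOf K) : nm k w = 1 := by
  have hU := omegaCenter_el (pCoreOf 2 K)
  have hk := omegaCenter_norm (le_normalizer_pCoreOf K d.mem)
  have hgen : ∀ u ∈ omegaCenterOf (pCoreOf 2 K), ∀ g ∈ K, nm k ⁅u, g⁆ = 1 := by
    intro u hu g hg
    obtain ⟨p, hp, i, -, rfl⟩ := d.split hg
    have e : ⁅u, p * k ^ i⁆ = ⁅u, k ^ i⁆ := by
      have hv := (commutator_elem_mem hu (pow_mem hk i)).1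
      calc ⁅u, p * k ^ i⁆ = u * p * u⁻¹ * p⁻¹ * (p * ⁅u, k ^ i⁆ * p⁻¹) := by
            simp only [commutatorElement_def]; group
        _ = ⁅u, k ^ i⁆ := by
          rw [← omegaCenter_comm hu hp, mul_inv_cancel_right, mul_inv_cancel, one_mul, omegaCenter_comm hv hp,
            mul_inv_cancel_right]
    rw [e]; exact nm_comm hU hk d.cube hu i
  rw [wOf, Subgroup.commutator_def] at hw
  suffices w ∈ omegaCenterOf (pCoreOf 2 K) ∧ nm k w = 1 from this.2
  induction hw using Subgroup.closure_induction with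
  | mem x hx =>
    obtain ⟨u, hu, g, hg, rfl⟩ := hx
    exact ⟨(commutator_elem_mem hu (omegaCenter_norm (le_normalizer_pCoreOf K hg))).1, hgen u hu g hg⟩
  | one => exact ⟨one_mem _, by simp [nm]⟩
  | mul a b _ _ iha ihb => exact ⟨mul_mem iha.1 ihb.1, by rw [nm_mul hU hk iha.1 ihb.1, iha.2, ihb.2, one_mul]⟩
  | inv a _ iha => exact ⟨inv_mem iha.1, by rw [El.inv_eq hU iha.1, iha.2]⟩

/-- `k` fixes no nontrivial element of `W_K`. -/
theorem KGen.fpf [Finite G] {K : Subgroup G} {k : G} (d : KGen K k) {w : G} (hw : w ∈ wOf K)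
    (hfix : k * w * k⁻¹ = w) : w = 1 :=
  eq_one_of_nm wOf_el hw hfix (d.nm_wOf hw)

/-- An element of the centre of the core with trivial norm lies in `W_K`. -/
theorem KGen.mem_wOf [Finite G] {K : Subgroup G} {k : G} (d : KGen K k) {x : G}
    (hx : x ∈ omegaCenterOf (pCoreOf 2 K)) (hn : nm k x = 1) : x ∈ wOf K := by
  have hU := omegaCenter_el (pCoreOf 2 K)
  have h1 : ⁅x, k⁆ ∈ wOf K := Subgroup.commutator_mem_commutator hx d.mem
  have h2 : k ^ 2 * x * (k ^ 2)⁻¹ ∈ wOf K := by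
    have e : ⁅x, k⁆ = x * (k * x * k⁻¹) := by
      conv_lhs => rw [commutatorElement_def, El.inv_eq hU hx]
      simp only [mul_assoc]
    have hk2 : k ^ 2 * x * (k ^ 2)⁻¹ = (x * (k * x * k⁻¹))⁻¹ := eq_inv_of_mul_eq_one_right hn
    rw [hk2, ← e]; exact inv_mem h1
  exact (Subgroup.mem_normalizer_iff.1 (pow_mem (wOf_norm d.mem) 2) x).2 h2

/-- A nontrivial `k`-invariant subgroup of `W_K` is all of it. -/
theorem KGen.eq_wOf [Finite G] {K : Subgroup G} {k : G} (d : KGen K k) (h4 : Nat.card ↥(wOf K) = 4)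
    {X : Subgroup G} (hX : X ≤ wOf K) (hn : ∀ x ∈ X, k * x * k⁻¹ ∈ X) {x : G} (hx : x ∈ X) (hx1 : x ≠ 1) :
    X = wOf K := by
  refine Subgroup.eq_of_le_of_card_ge hX ?_
  have hdvd := Subgroup.card_dvd_of_le hX
  rw [h4] at hdvd ⊢
  by_contra hlt
  push Not at hlt
  have hcard : Nat.card X ∣ 2 := by
    obtain ⟨j, hj, e⟩ := (Nat.dvd_prime_pow Nat.prime_two (m := 2)).1 hdvd
    rw [e] at hlt ⊢
    rcases Nat.lt_or_ge j 2 with h | h
    · exact (pow_dvd_pow 2 (Nat.lt_succ_iff.1 h)).trans (pow_one 2).dvd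
    · rw [le_antisymm hj h] at hlt; norm_num at hlt
  have h2 : Nat.card X ≤ 2 := Nat.le_of_dvd two_pos hcard
  refine d.fpf (hX hx) ?_ |> hx1
  by_contra hne
  classical
  have h3 : ({⟨1, one_mem X⟩, ⟨x, hx⟩, ⟨k * x * k⁻¹, hn x hx⟩} : Finset ↥X).card = 3 := by
    rw [Finset.card_eq_three]
    refine ⟨_, _, _, fun e => hx1 (congrArg Subtype.val e).symm, fun e => hx1 ?_,
      fun e => hne (congrArg Subtype.val e).symm, rfl⟩
    exact conj_eq_one_iff.1 (congrArg Subtype.val e).symm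
  haveI := Fintype.ofFinite ↥X
  have := Finset.card_le_univ ({⟨1, one_mem X⟩, ⟨x, hx⟩, ⟨k * x * k⁻¹, hn x hx⟩} : Finset ↥X)
  rw [h3, ← Nat.card_eq_fintype_card] at this
  omega

end Cfsg.Agent.JComp
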