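import Cfsg.Agent.Lib.JComp.Square

/-!
# A pair of commuting four-groups has at most one bad line
-/

set_option autoImplicit false
set_option linter.style.haveILetI false

open Cfsg
open scoped commutatorElement Pointwise

namespace Cfsg.Agent.JComp

open Cfsg.Agent.Fusion

universe u

variable {G : Type u} [Group G] [Finite G] [Fact (Nat.Prime 2)] {M T : Subgroup G} (c : Ctx M T)
include c

/-- A second component in the same maximal subgroup centralizes the four-group. -/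
theorem Ctx.other_centralizes {K K' : Subgroup G} (s : Side M T K) (hK' : IsJComponent T K')
    (hle : K' ≤ locOf T K) (hne : K' ≠ K) : K' ≤ Subgroup.centralizer (wOf K : Set G) := by
  obtain ⟨F⟩ := s.hy.factors
  obtain ⟨k, E, d⟩ := component_in s.hy F s.hy rfl s.comp (c.loc_spec s.comp s.notM).2.1
  obtain ⟨k', E', d'⟩ := component_in s.hy F s.hy rfl hK' hle
  have hEne : E' ≠ E := fun e => hne (component_eq_fac s.hy F s.hy rfl hK' s.hy rfl s.comp d' (e ▸ d))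
  refine fun g hg => Subgroup.mem_centralizer_iff.2 fun w hw => ?_
  have hV : ⁅vOf (locOf T K), K⁆ ≤ vOf (locOf T K) := Subgroup.commutator_le.2 fun v hv x hx =>
    (commutator_elem_mem hv (Hy.L_norm_V _ ((c.loc_spec s.comp s.notM).2.1 hx))).1
  have hgW : g ∈ Subgroup.normalizer (wOf K : Set G) :=
    wOf_norm_of (d.normal (Subgroup.mem_sup_left (d'.leY hg)))
  have h1 : ⁅w, g⁆ ∈ ⁅vOf (locOf T K), E⁆ :=
    ((d.plane.trans (Subgroup.commutator_mono le_rfl d.le))) (commutator_elem_mem hw hgW).1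
  have h2 : ⁅w, g⁆ ∈ ⁅vOf (locOf T K), E'⁆ :=
    Subgroup.commutator_mem_commutator ((d.plane.trans hV) hw) (d'.le hg)
  exact commutatorElement_eq_one_iff_mul_comm.1 (Subgroup.mem_bot.1
    ((F.plane E d.mem E' d'.mem hEne.symm).le (Subgroup.mem_inf.2 ⟨h1, h2⟩)))

omit c in
/-- The Frattini argument in a maximal subgroup. -/
theorem Hy.frattini {L : Subgroup G} (h : Hy T L) {l : G} (hl : l ∈ L) :
    ∃ y ∈ yOf T L, y * l ∈ Subgroup.normalizer (thompsonSubgroupOf 2 T : Set G) := by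
  have hS := h.syl.inf_normal h.Y_le Hy.L_norm_Y
  obtain ⟨y, hy, hn⟩ := frattini_conj hS (H := L) Hy.L_norm_Y hl
  refine ⟨y, hy, ?_⟩
  have e : thompsonSubgroupOf 2 (T ⊓ yOf T L : Subgroup G) = thompsonSubgroupOf 2 T :=
    J_eq_of_sylIn h.syl h.pT.to_inf_left (inf_le_left.trans h.T_le) (le_inf (J_le T) Hy.J_le_Y)
  rw [← e]
  exact normalizer_le_J _ hn

/-- The centre of a Sylow subgroup above `T` lies in `Z₀`. -/
theorem Ctx.centralizer_zOf_le {K : Subgroup G} (s : Side M T K) :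
    locOf T K ⊓ Subgroup.centralizer (zOf T : Set G) ≤ Subgroup.normalizer (T : Set G) := by
  obtain ⟨P, hP⟩ := c.pT.exists_le_sylow
  have h := s.hy
  have hZle : omegaCenterOf (P : Subgroup G) ≤ zOf T := fun z hz => by
    have hzQ := h.centralizer_Q fun q hq => omegaCenter_comm hz (hP (h.Q_le_T hq))
    exact omega_le_zOf T (mem_omegaCenter (h.Q_le_T hzQ) ((omegaCenter_el _).2 z hz)
      fun t ht => omegaCenter_comm hz (hP ht))
  intro x hx
  obtain ⟨hxL, hxC⟩ := Subgroup.mem_inf.1 hx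
  have hxP : x ∈ Subgroup.normalizer ((P : Subgroup G) : Set G) :=
    c.amb.cen P (Subgroup.centralizer_le hZle hxC)
  have e : T = (P : Subgroup G) ⊓ locOf T K :=
    (h.syl.eq_of_le P.isPGroup'.to_inf_left (le_inf hP h.T_le) inf_le_right).symm
  rw [e, mem_normalizer_iff_cj, cj_inf, cj_eq_self hxP, cj_eq_self_of_mem hxL]

/-- `K T` induces every automorphism of `W_K` induced by the normalizer of `K`. -/
theorem Side.move_into {K : Subgroup G} (s : Side M T K) {l : G} (hlK : l ∈ Subgroup.normalizer (K : Set G)) :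
    ∃ p ∈ K ⊔ T, p⁻¹ * l ∈ Subgroup.centralizer (wOf K : Set G) := by
  obtain ⟨k, z, w, d, -, -, -, hzZ, hzW, hz1, hw, hwW, -, hw1, hwz, hfour, -, hswap, t, ht, htQ⟩ := s.frame c
  have hnW : ∀ {g}, g ∈ Subgroup.normalizer (K : Set G) → ∀ {x}, x ∈ wOf K → g * x * g⁻¹ ∈ wOf K :=
    fun hg x hx => (Subgroup.mem_normalizer_iff.1 (wOf_norm_of hg) x).1 hx
  -- an element of `K T` moving `z` like `l`
  obtain ⟨p, hp, hpz⟩ : ∃ p ∈ K ⊔ T, p * z * p⁻¹ = l * z * l⁻¹ := by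
    have hkm : k ∈ K ⊔ T := Subgroup.mem_sup_left d.mem
    rcases hfour _ (hnW hlK hzW) with e | e | e | e
    · exact absurd (conj_eq_one_iff.1 e) hz1
    · exact ⟨1, one_mem _, by rw [e, one_mul, inv_one, mul_one]⟩
    · exact ⟨k, hkm, hw.symm.trans e.symm⟩
    · refine ⟨t * k, mul_mem (Subgroup.mem_sup_right ht) hkm, ?_⟩
      rw [e, show t * k * z * (t * k)⁻¹ = t * (k * z * k⁻¹) * t⁻¹ by group, ← hw, hswap t ht htQ]
  have hpK : p ∈ Subgroup.normalizer (K : Set G) :=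
    (sup_le Subgroup.le_normalizer (s.norm c) : K ⊔ T ≤ _) hp
  have h0 : (p⁻¹ * l) * z * (p⁻¹ * l)⁻¹ = z := by
    calc (p⁻¹ * l) * z * (p⁻¹ * l)⁻¹ = p⁻¹ * (l * z * l⁻¹) * p := by group
      _ = z := by rw [← hpz]; group
  have htz : t * z * t⁻¹ = z := by rw [s.z_central c hzZ ht, mul_inv_cancel_right]
  obtain ⟨q, hq, hqz, hqw⟩ : ∃ q ∈ K ⊔ T, q * z * q⁻¹ = z ∧ q * w * q⁻¹ = (p⁻¹ * l) * w * (p⁻¹ * l)⁻¹ := by
    rcases hfour _ (hnW (mul_mem (inv_mem hpK) hlK) hwW) with e | e | e | e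
    · exact absurd (conj_eq_one_iff.1 e) hw1
    · exact absurd (mul_left_cancel (mul_right_cancel (e.trans h0.symm))) hwz
    · exact ⟨1, one_mem _, by simp, by rw [e]; simp⟩
    · exact ⟨t, Subgroup.mem_sup_right ht, htz, by rw [e, hswap t ht htQ]⟩
  set g := q⁻¹ * (p⁻¹ * l) with hg
  have hgz : g * z * g⁻¹ = z := by
    calc g * z * g⁻¹ = q⁻¹ * ((p⁻¹ * l) * z * (p⁻¹ * l)⁻¹) * q := by simp only [g]; group
      _ = q⁻¹ * (q * z * q⁻¹) * q := by rw [h0, hqz]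
      _ = z := by group
  have hgw : g * w * g⁻¹ = w := by
    calc g * w * g⁻¹ = q⁻¹ * ((p⁻¹ * l) * w * (p⁻¹ * l)⁻¹) * q := by simp only [g]; group
      _ = w := by rw [← hqw]; group
  have hgC : g ∈ Subgroup.centralizer (wOf K : Set G) := by
    refine Subgroup.mem_centralizer_iff.2 fun x hx => ?_
    have h1 : Commute g z := mul_inv_eq_iff_eq_mul.1 hgz
    have h2 : Commute g w := mul_inv_eq_iff_eq_mul.1 hgw
    rcases hfour x hx with rfl | rfl | rfl | rfl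
    · rw [one_mul, mul_one]
    · exact h1.eq.symm
    · exact h2.eq.symm
    · exact (h1.mul_right h2).eq.symm
  exact ⟨p * q, mul_mem hp hq, by rwa [mul_inv_rev, mul_assoc]⟩

variable {K₁ K₂ : Subgroup G} (s₁ : Side M T K₁) (s₂ : Side M T K₂) (hne : locOf T K₂ ≠ locOf T K₁)
include s₁ s₂ hne

theorem Ctx.unique_comp (h₂ : Bad T K₂ K₁) {K : Subgroup G} (s : Side M T K) (hloc : locOf T K = locOf T K₂) :
    K = K₂ := by
  by_contra hKne
  obtain ⟨z, hzZ, hzW, hz1, hzK⟩ := h₂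
  have hcen := c.other_centralizes s₂ s.comp ((c.loc_spec s.comp s.notM).2.1.trans hloc.le) hKne
  have hz' : z ∈ fixZ T K := Subgroup.mem_inf.2 ⟨hzZ, Subgroup.mem_centralizer_iff.2 fun g hg =>
    (Subgroup.mem_centralizer_iff.1 (hcen hg) z hzW).symm⟩
  exact hz1 (Subgroup.mem_bot.1 (c.fixZ_inf s₁.comp s₁.notM s.comp s.notM (hloc ▸ hne) ▸
    Subgroup.mem_inf.2 ⟨Subgroup.mem_inf.2 ⟨hzZ, hzK⟩, hz'⟩))

theorem Ctx.loc_norm (h₂ : Bad T K₂ K₁) : locOf T K₂ ≤ Subgroup.normalizer (K₂ : Set G) := by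
  intro l hl
  obtain ⟨y, hy, hn⟩ := s₂.hy.frattini hl
  obtain ⟨F⟩ := s₂.hy.factors
  obtain ⟨k, E, d⟩ := component_in s₂.hy F s₂.hy rfl s₂.comp (c.loc_spec s₂.comp s₂.notM).2.1
  have hyK : y ∈ Subgroup.normalizer (K₂ : Set G) := d.normal (Subgroup.mem_sup_left hy)
  have hnL : cj (locOf T K₂) (y * l) = locOf T K₂ :=
    cj_eq_self_of_mem (mul_mem (s₂.hy.Y_le hy) hl)
  have hloc : locOf T (cj K₂ (y * l)) = locOf T K₂ := (c.loc_conj s₂.comp s₂.notM hn).symm.trans hnL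
  have s : Side M T (cj K₂ (y * l)) :=
    ⟨component_conj s₂.comp hn, c.conj_not_le s₂.notM hn, by rw [hloc]; exact s₂.hy⟩
  have e : y * l ∈ Subgroup.normalizer (K₂ : Set G) := mem_normalizer_iff_cj.2 (c.unique_comp s₁ s₂ hne h₂ s hloc)
  simpa using mul_mem (inv_mem hyK) e

/-- The centralizer of `W₂` fixes the centre of `J(T)`. -/
theorem Ctx.centralizer_W (h₁ : Bad T K₁ K₂) (h₂ : Bad T K₂ K₁) :
    Subgroup.centralizer (wOf K₂ : Set G) ≤
      locOf T K₁ ⊓ Subgroup.normalizer (T : Set G) ⊓ Subgroup.normalizer (wOf K₁ : Set G) := by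
  have hn₁ := c.loc_norm s₂ s₁ hne.symm h₁
  have hn₂ := c.loc_norm s₁ s₂ hne h₂
  obtain ⟨z₁, hz₁Z, hz₁W, hz₁1, hz₁K⟩ := h₁
  obtain ⟨z₂, hz₂Z, hz₂W, hz₂1, hz₂K⟩ := h₂
  intro g hg
  have hgL₁ : g ∈ locOf T K₁ := s₁.centralizer_fix c (Subgroup.mem_inf.2 ⟨hz₂Z, hz₂K⟩) hz₂1
    (Subgroup.mem_centralizer_singleton_iff.2 (Subgroup.mem_centralizer_iff.1 hg z₂ hz₂W).symm)
  have hgW₁ : g ∈ Subgroup.normalizer (wOf K₁ : Set G) := wOf_norm_of (hn₁ hgL₁)
  have hgK₂ : g ∈ Subgroup.normalizer (K₂ : Set G) :=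
    hn₂ (c.norm_W_le s₂.comp s₂.notM (Subgroup.centralizer_le_normalizer _ hg))
  have hgz : g * z₁ * g⁻¹ = z₁ := by
    by_contra hgz
    have hW : g * z₁ * g⁻¹ ∈ wOf K₁ := (Subgroup.mem_normalizer_iff.1 hgW₁ z₁).1 hz₁W
    have hgz1 : g * z₁ * g⁻¹ ≠ 1 := fun e => hz₁1 (conj_eq_one_iff.1 e)
    refine c.no_common s₁.comp s₁.notM s₂.comp s₂.notM hne (component_twoLocal s₁.comp) (component_norm_W s₁.comp)
      (le_trans (fun k hk => Subgroup.mem_centralizer_iff.2 fun x hx => ?_) (Subgroup.centralizer_le_normalizer _))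
    have h1 : Commute k z₁ := Subgroup.mem_centralizer_iff.1 hz₁K k hk
    have h2 : Commute k (g * z₁ * g⁻¹) := by
      have hk' : g⁻¹ * k * g ∈ K₂ := by simpa using (Subgroup.mem_normalizer_iff.1 (inv_mem hgK₂) k).1 hk
      show k * (g * z₁ * g⁻¹) = g * z₁ * g⁻¹ * k
      calc k * (g * z₁ * g⁻¹) = g * ((g⁻¹ * k * g) * z₁) * g⁻¹ := by group
        _ = g * (z₁ * (g⁻¹ * k * g)) * g⁻¹ := by rw [Subgroup.mem_centralizer_iff.1 hz₁K _ hk']
        _ = _ := by group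
    rcases four_cases wOf_el s₁.comp.2.2.2.2.1 hz₁W hW hz₁1 hgz1 (Ne.symm hgz) x hx with rfl | rfl | rfl | rfl
    · rw [one_mul, mul_one]
    · exact h1.eq.symm
    · exact h2.eq.symm
    · exact (h1.mul_right h2).eq.symm
  have hgC : g ∈ Subgroup.centralizer (zOf T : Set G) := by
    refine Subgroup.mem_centralizer_iff.2 fun x hx => ?_
    have h1 : Commute g z₁ := mul_inv_eq_iff_eq_mul.1 hgz
    have h2 : Commute g z₂ := (Subgroup.mem_centralizer_iff.1 hg z₂ hz₂W).symm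
    have hzz : z₁ ≠ z₂ := fun e => s₁.line_not_fix c hz₁W hz₁1 (e ▸ hz₂K)
    have hcard : Nat.card ↥(zOf T) = 4 := by
      have h1 := (c.spec s₂.comp s₂.notM s₂.hy).2
      have h2 := (fixZ_spec c.pT s₂.comp).1
      have : 1 < Nat.card ↥(fixZ T K₂) := (Subgroup.one_lt_card_iff_ne_bot _).2 fun hb =>
        hz₁1 (Subgroup.mem_bot.1 (hb ▸ Subgroup.mem_inf.2 ⟨hz₁Z, hz₁K⟩))
      omega
    rcases four_cases (omegaCenter_el _) hcard hz₁Z hz₂Z hz₁1 hz₂1 hzz x hx with rfl | rfl | rfl | rfl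
    · rw [one_mul, mul_one]
    · exact h1.eq.symm
    · exact h2.eq.symm
    · exact (h1.mul_right h2).eq.symm
  exact ⟨⟨hgL₁, c.centralizer_zOf_le s₁ ⟨hgL₁, hgC⟩⟩, hgW₁⟩

theorem Ctx.invol_mem (h₁ : Bad T K₁ K₂) (h₂ : Bad T K₂ K₁) {v : G} (hv2 : v ^ 2 = 1)
    (hv : ∀ y ∈ wOf K₂, Commute v y) : v ∈ T := by
  obtain ⟨⟨hvL, hvN⟩, -⟩ := c.centralizer_W s₁ s₂ hne h₁ h₂
    (Subgroup.mem_centralizer_iff.2 fun y hy => (hv y hy).eq.symm)
  have hp : IsPGroup 2 ↥(Subgroup.zpowers v) := fun x => ⟨1, by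
    obtain ⟨n, hn⟩ := Subgroup.mem_zpowers_iff.1 x.2
    refine Subtype.ext ?_
    show (x : G) ^ 2 ^ 1 = 1
    rw [pow_one, ← hn, ← zpow_natCast (v ^ n), ← zpow_mul, mul_comm, zpow_mul, zpow_natCast, hv2, one_zpow]⟩
  have e := s₁.hy.syl.eq_of_le (hp.to_sup_of_normal_right' c.pT (Subgroup.zpowers_le.2 hvN)) le_sup_right
    (sup_le (Subgroup.zpowers_le.2 hvL) s₁.hy.T_le)
  exact e ▸ Subgroup.mem_sup_left (Subgroup.mem_zpowers v)

/-- Conjugates of `W₁` under the maximal subgroup of `K₂` centralize it. -/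
theorem Ctx.loc_commute (hc : wOf K₁ ≤ qOf T K₂) (h₁ : Bad T K₁ K₂) (h₂ : Bad T K₂ K₁) {l : G}
    (hl : l ∈ locOf T K₂) {x y : G} (hx : x ∈ wOf K₁) (hy : y ∈ wOf K₁) : Commute (l * x * l⁻¹) y := by
  have hn₂ := c.loc_norm s₁ s₂ hne h₂
  obtain ⟨p, hp, hgC⟩ := s₂.move_into c (hn₂ hl)
  set g := p⁻¹ * l with hg
  have hgx := (Subgroup.mem_normalizer_iff.1 (c.centralizer_W s₁ s₂ hne h₁ h₂ hgC).2 x).1 hx
  have hl' : l * x * l⁻¹ = p * (g * x * g⁻¹) * p⁻¹ := by simp only [g]; group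
  rw [hl']
  exact c.conj_commute s₁ s₂ hne hc h₁ h₂ hp hgx hy

omit hne s₁ s₂ in
theorem Ctx.pair_swap {K K' : Subgroup G} (s : Side M T K) (s' : Side M T K')
    (hne : locOf T K' ≠ locOf T K) (h : Bad T K K') (h' : Bad T K' K) {γ z z' : G}
    (hz : z ∈ fixZ T K') (hz1 : z ≠ 1) (hz' : z' ∈ fixZ T K) (hz'W : z' ∈ wOf K') (hz'1 : z' ≠ 1)
    (hzW : z ∈ wOf K) (hγ : γ * z' * γ⁻¹ = z) :
    ∃ l ∈ locOf T K', ∀ x ∈ wOf K', ∃ y ∈ wOf K, γ * x * γ⁻¹ = l * y * l⁻¹ := by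
  have hmax := isMaximalTwoLocal_cj (c.loc_spec s.comp s.notM).1 γ
  -- the conjugate of the maximal subgroup
  have hL : cj (locOf T K) γ = locOf T K' := by
    refine c.eq_loc s'.comp s'.notM hmax fun g hg => mem_cj.2 (s.centralizer_fix c hz' hz'1 ?_)
    have hgz : g * z = z * g := by
      have : K' ⊔ thompsonSubgroupOf 2 T ≤ Subgroup.centralizer {z} := sup_le
        (fun k hk => Subgroup.mem_centralizer_singleton_iff.2
          (Subgroup.mem_centralizer_iff.1 (Subgroup.mem_inf.1 hz).2 k hk))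
        (fun j hj => Subgroup.mem_centralizer_singleton_iff.2 (omegaCenter_comm (Subgroup.mem_inf.1 hz).1 hj))
      exact Subgroup.mem_centralizer_singleton_iff.1 (this hg)
    refine Subgroup.mem_centralizer_singleton_iff.2 ?_
    have hz'e : z' = γ⁻¹ * z * γ := by rw [← hγ]; group
    calc γ⁻¹ * g * γ * z' = γ⁻¹ * (g * z) * γ := by rw [hz'e]; group
      _ = γ⁻¹ * (z * g) * γ := by rw [hgz]
      _ = z' * (γ⁻¹ * g * γ) := by rw [hz'e]; group
  have hS : SylIn 2 (cj T γ) (locOf T K') := hL ▸ s.hy.syl.cj γ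
  obtain ⟨l, hl, hlT⟩ := hS.conj_eq s'.hy.syl
  rw [cj_cj] at hlT
  set ν := l * γ
  have hν : ν ∈ Subgroup.normalizer (T : Set G) := mem_normalizer_iff_cj.2 hlT
  have hνJ := normalizer_le_J T hν
  have sν := s.conj c hν
  have hlocν : locOf T (cj K ν) = locOf T K' := by
    rw [← c.loc_conj s.comp s.notM hνJ]
    show cj (locOf T K) (l * γ) = _
    rw [← cj_cj, hL, cj_eq_self_of_mem hl]
  have hKν : cj K ν = K' := c.unique_comp s s' hne h' sν hlocν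
  have hf : ν * z' * ν⁻¹ ∈ fixZ T K' := hKν ▸ fixZ_conj hνJ K ▸ conj_mem_cj hz'
  have hνz' : ν * z' * ν⁻¹ = z := s'.fix_eq c hf (fun e => hz'1 (conj_eq_one_iff.1 e)) hz hz1
  have hνz : ν * z * ν⁻¹ = z' :=
    s'.line_eq c ((Subgroup.mem_normalizer_iff.1 (omegaCenter_norm hνJ) z).1 (Subgroup.mem_inf.1 hz).1)
      (hKν ▸ wOf_cj K ν ▸ conj_mem_cj hzW) (fun e => hz1 (conj_eq_one_iff.1 e)) (Subgroup.mem_inf.1 hz').1 hz'W hz'1
  have sν' := s'.conj c hν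
  have hf' : z' ∈ fixZ T (cj K' ν) := hνz ▸ fixZ_conj hνJ K' ▸ conj_mem_cj hz
  have hKν' : cj K' ν = K := by
    refine c.unique_comp s' s hne.symm h sν' ?_
    by_contra hne'
    exact hz'1 (Subgroup.mem_bot.1 (c.fixZ_inf s.comp s.notM sν'.comp sν'.notM hne' ▸
      Subgroup.mem_inf.2 ⟨hz', hf'⟩))
  refine ⟨l⁻¹, inv_mem hl, fun x hx => ⟨ν * x * ν⁻¹, hKν' ▸ wOf_cj K' ν ▸ conj_mem_cj hx, ?_⟩⟩
  simp only [ν]; group

/-- No pair has two bad lines. -/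
theorem Ctx.not_double_bad (hc : wOf K₁ ≤ qOf T K₂) : ¬ (Bad T K₁ K₂ ∧ Bad T K₂ K₁) := by
  rintro ⟨h₁, h₂⟩
  set S : Set G := ((K₁ ⊔ T : Subgroup G) : Set G) ∪ ((K₂ ⊔ T : Subgroup G) : Set G) with hSdef
  let Pair : Subgroup G → Subgroup G → Prop := fun K K' => (K = K₁ ∧ K' = K₂) ∨ (K = K₂ ∧ K' = K₁)
  have hpair : ∀ {K K'}, Pair K K' → Side M T K ∧ Side M T K' ∧ locOf T K' ≠ locOf T K ∧ Bad T K K' ∧
      Bad T K' K ∧ wOf K ≤ qOf T K' ∧ Pair K' K ∧ (∀ g ∈ S, g ∈ K ⊔ T ∨ g ∈ K' ⊔ T) := by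
    rintro K K' (⟨rfl, rfl⟩ | ⟨rfl, rfl⟩)
    · exact ⟨s₁, s₂, hne, h₁, h₂, hc, Or.inr ⟨rfl, rfl⟩, fun g hg => hg⟩
    · exact ⟨s₂, s₁, hne.symm, h₂, h₁, c.comm_symm s₁ s₂ hc, Or.inl ⟨rfl, rfl⟩, fun g hg => hg.symm⟩
  have hnorm : ∀ {K}, Side M T K → K ⊔ T ≤ Subgroup.normalizer (wOf K : Set G) := fun s g hg =>
    wOf_norm_of ((sup_le Subgroup.le_normalizer (s.norm c) : _ ⊔ T ≤ _) hg)
  -- conjugates commute
  have key : ∀ n, ∀ γ ∈ S ^ n, ∀ K K' L L', Pair K K' → Pair L L' →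
      ∀ x ∈ wOf L, ∀ y ∈ wOf K, Commute (γ * x * γ⁻¹) y := by
    intro n
    induction n with
    | zero =>
      intro γ hγ K K' L L' hK hL x hx y hy
      rw [pow_zero, Set.mem_one] at hγ
      subst hγ
      rw [one_mul, inv_one, mul_one]
      obtain ⟨s, s', -, -, -, hc', -, -⟩ := hpair hK
      rcases hK with ⟨rfl, rfl⟩ | ⟨rfl, rfl⟩ <;> rcases hL with ⟨rfl, rfl⟩ | ⟨rfl, rfl⟩
      all_goals first
        | exact Local.elemAb_commute wOf_el hx hy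
        | exact Subgroup.mem_centralizer_iff.1 (Subgroup.mem_inf.1 (hc' hy)).2 x hx
    | succ n ih =>
      intro γ hγ K K' L L' hK hL x hx y hy
      obtain ⟨sK, sK', hneK, hbK, hbK', hcK, hK', hSK⟩ := hpair hK
      obtain ⟨sL, sL', hneL, hbL, hbL', hcL, hL', hSL⟩ := hpair hL
      -- first and last factors
      have hγ₁ := hγ
      rw [pow_succ'] at hγ₁
      obtain ⟨g, hg, h, hh, hgh⟩ := Set.mem_mul.1 hγ₁
      have hγ₂ := hγ
      rw [pow_succ] at hγ₂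
      obtain ⟨h', hh', g', hg', hgh'⟩ := Set.mem_mul.1 hγ₂
      have first : ∀ {N N'}, Pair N N' → g ∈ N ⊔ T → ∀ y ∈ wOf N, Commute (γ * x * γ⁻¹) y := by
        intro N N' hN hgN y hy
        have hy' : g⁻¹ * y * g ∈ wOf N := by
          simpa using (Subgroup.mem_normalizer_iff.1 (hnorm (hpair hN).1 (inv_mem hgN)) y).1 hy
        have h0 := (ih h hh N N' L L' hN hL x hx _ hy').eq
        show γ * x * γ⁻¹ * y = y * (γ * x * γ⁻¹)
        rw [← hgh]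
        calc g * h * x * (g * h)⁻¹ * y = g * ((h * x * h⁻¹) * (g⁻¹ * y * g)) * g⁻¹ := by group
          _ = g * ((g⁻¹ * y * g) * (h * x * h⁻¹)) * g⁻¹ := by rw [h0]
          _ = _ := by group
      have last : ∀ {N N'}, Pair N N' → g' ∈ N ⊔ T → ∀ x ∈ wOf N, Commute (γ * x * γ⁻¹) y := by
        intro N N' hN hgN x hx
        have := ih h' hh' K K' N N' hK hN _ ((Subgroup.mem_normalizer_iff.1 (hnorm (hpair hN).1 hgN) x).1 hx) y hy
        rw [← hgh']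
        have e : h' * g' * x * (h' * g')⁻¹ = h' * (g' * x * g'⁻¹) * h'⁻¹ := by group
        rw [e]; exact this
      rcases hSK g hg with hgK | hgK
      · exact first hK hgK y hy
      rcases hSL g' hg' with hgL | hgL
      · exact last hL hgL x hx
      -- both neighbours commute
      have hxT : γ * x * γ⁻¹ ∈ T := c.invol_mem sK sK' hneK hbK hbK'
        (by rw [conj_pow, wOf_el.2 x hx, mul_one, mul_inv_cancel]) (first hK' hgK)
      have hyT : γ⁻¹ * y * γ ∈ T := by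
        refine c.invol_mem sL sL' hneL hbL hbL'
          (by rw [show γ⁻¹ * y * γ = γ⁻¹ * y * γ⁻¹⁻¹ by rw [inv_inv], conj_pow, wOf_el.2 y hy, mul_one,
            mul_inv_cancel]) fun v hv => ?_
        have h0 := (last hL' hgL v hv).eq
        show γ⁻¹ * y * γ * v = v * (γ⁻¹ * y * γ)
        calc γ⁻¹ * y * γ * v = γ⁻¹ * (y * (γ * v * γ⁻¹)) * γ := by group
          _ = γ⁻¹ * ((γ * v * γ⁻¹) * y) * γ := by rw [h0]
          _ = _ := by group
      obtain ⟨-, zK, wK, -, -, -, -, hzKZ, hzKW, hzK1, -, -, -, -, -, hfK, -, hswK, -⟩ := sK.frame c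
      obtain ⟨-, zL, wL, -, -, -, -, hzLZ, hzLW, hzL1, -, -, -, -, -, hfL, -, hswL, -⟩ := sL.frame c
      by_contra hnc
      set v := γ * x * γ⁻¹ with hv
      set y' := γ⁻¹ * y * γ with hy'def
      have hvQ : v ∉ qOf T K := fun h => hnc (Subgroup.mem_centralizer_iff.1 (Subgroup.mem_inf.1 h).2 y hy).symm
      have hvy : v * y * v⁻¹ = zK * y := by
        have hvz : v * zK * v⁻¹ = zK := by rw [sK.z_central c hzKZ hxT, mul_inv_cancel_right]
        rcases hfK y hy with e | e | e | e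
        · exact absurd (by rw [e]; exact Commute.one_right v) hnc
        · exact absurd (by rw [e]; exact sK.z_central c hzKZ hxT) hnc
        · rw [e]; exact hswK v hxT hvQ
        · rw [e, ← conj_mul, hvz, hswK v hxT hvQ]
      have hz : γ⁻¹ * zK * γ = x * (y' * x⁻¹ * y'⁻¹) := by
        have e : zK = v * y * v⁻¹ * y⁻¹ := by rw [hvy, mul_inv_cancel_right]
        rw [e]; simp only [v, y']; group
      have hz1 : γ⁻¹ * zK * γ ≠ 1 := by
        intro e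
        refine hzK1 ?_
        calc zK = γ * (γ⁻¹ * zK * γ) * γ⁻¹ := by group
          _ = 1 := by rw [e, mul_one, mul_inv_cancel]
      have hzeq : γ⁻¹ * zK * γ = zL := by
        have hyW : y' * x⁻¹ * y'⁻¹ ∈ wOf L :=
          (Subgroup.mem_normalizer_iff.1 (hnorm sL (Subgroup.mem_sup_right hyT)) x⁻¹).1 (inv_mem hx)
        rw [El.inv_eq wOf_el hx] at hz hyW
        have hxx : ∀ {u}, u ∈ wOf L → u * u = 1 := fun hu => by rw [← pow_two]; exact wOf_el.2 _ hu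
        by_cases hq : y' ∈ qOf T L
        · rw [← Subgroup.mem_centralizer_iff.1 (Subgroup.mem_inf.1 hq).2 x hx, mul_inv_cancel_right, hxx hx] at hz
          exact absurd hz hz1
        have hyz : y' * zL * y'⁻¹ = zL := by rw [sL.z_central c hzLZ hyT, mul_inv_cancel_right]
        rcases hfL x hx with e | e | e | e
        · rw [e, mul_one, mul_inv_cancel, mul_one] at hz; exact absurd hz hz1
        · rw [e, hyz, hxx hzLW] at hz; exact absurd hz hz1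
        · rw [hz, e, hswL y' hyT hq]
          have hwW : wL ∈ wOf L := e ▸ hx
          rw [← mul_assoc, Local.elemAb_commute wOf_el hwW hzLW, mul_assoc, hxx hwW, mul_one]
        · rw [hz, e, ← conj_mul, hyz, hswL y' hyT hq, ← mul_assoc zL zL, hxx hzLW, one_mul]
          have hwW : wL ∈ wOf L := by
            have hm := mul_mem hzLW (e ▸ hx)
            rwa [← mul_assoc, hxx hzLW, one_mul] at hm
          rw [mul_assoc, hxx hwW, mul_one]
      have hγz : γ * zL * γ⁻¹ = zK := by rw [← hzeq]; group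
      obtain ⟨z, hzZ, hzW, hz1', hzC⟩ := hbK
      obtain rfl : z = zK := sK.line_eq c hzZ hzW hz1' hzKZ hzKW hzK1
      have hzfix : z ∈ fixZ T K' := Subgroup.mem_inf.2 ⟨hzZ, hzC⟩
      have hKL : (K = L ∧ K' = L') ∨ (K = L' ∧ K' = L) := by
        rcases hK with ⟨rfl, rfl⟩ | ⟨rfl, rfl⟩ <;> rcases hL with ⟨rfl, rfl⟩ | ⟨rfl, rfl⟩
        exacts [Or.inl ⟨rfl, rfl⟩, Or.inr ⟨rfl, rfl⟩, Or.inr ⟨rfl, rfl⟩, Or.inl ⟨rfl, rfl⟩]
      rcases hKL with ⟨rfl, rfl⟩ | ⟨rfl, rfl⟩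
      · obtain rfl : z = zL := sK.line_eq c hzZ hzW hz1' hzLZ hzLW hzL1
        exact hnc (c.loc_commute sK sK' hneK hcK ⟨z, hzZ, hzW, hz1', hzC⟩ hbK' (sK'.centralizer_fix c hzfix hz1'
          (Subgroup.mem_centralizer_singleton_iff.2 (mul_inv_eq_iff_eq_mul.1 hγz))) hx hy)
      · obtain ⟨z₂, hz₂Z, hz₂W, hz₂1, hz₂C⟩ := hbK'
        obtain rfl : z₂ = zL := sL.line_eq c hz₂Z hz₂W hz₂1 hzLZ hzLW hzL1
        obtain ⟨l, hl, hW⟩ := c.pair_swap sK sL hneK ⟨z, hzZ, hzW, hz1', hzC⟩ ⟨z₂, hz₂Z, hz₂W, hz₂1, hz₂C⟩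
          hzfix hz1' (Subgroup.mem_inf.2 ⟨hz₂Z, hz₂C⟩) hz₂W hz₂1 hzW hγz
        obtain ⟨u, hu, e⟩ := hW x hx
        refine hnc ?_
        rw [show v = l * u * l⁻¹ from e]
        exact c.loc_commute sK sL hneK hcK ⟨z, hzZ, hzW, hz1', hzC⟩ ⟨z₂, hz₂Z, hz₂W, hz₂1, hz₂C⟩ hl hu hy
  -- the elementary group generated by all conjugates
  set U : Set G := {u | ∃ n, ∃ γ ∈ S ^ n, ∃ K K', Pair K K' ∧ ∃ x ∈ wOf K, u = γ * x * γ⁻¹}
  set N := Subgroup.closure U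
  have hSinv : S⁻¹ = S := by
    rw [hSdef, Set.union_inv, inv_coe_set, inv_coe_set]
  have hNel : El N := by
    refine Local.elemAb_closure _ ?_ ?_
    · rintro _ ⟨n, γ, hγ, K, K', hK, x, hx, rfl⟩ _ ⟨m, δ, hδ, L, L', hL, y, hy, rfl⟩
      have hδ' : δ⁻¹ ∈ S ^ m := by
        have h := Set.inv_mem_inv.2 hδ
        rwa [← inv_pow, hSinv] at h
      have hmem : δ⁻¹ * γ ∈ S ^ (m + n) := pow_add S m n ▸ Set.mul_mem_mul hδ' hγ
      have h0 := (key _ _ hmem L L' K K' hL hK x hx y hy).eq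
      calc γ * x * γ⁻¹ * (δ * y * δ⁻¹) = δ * ((δ⁻¹ * γ * x * (δ⁻¹ * γ)⁻¹) * y) * δ⁻¹ := by group
        _ = δ * (y * (δ⁻¹ * γ * x * (δ⁻¹ * γ)⁻¹)) * δ⁻¹ := by rw [h0]
        _ = _ := by group
    · rintro _ ⟨n, γ, -, K, K', -, x, hx, rfl⟩
      rw [conj_pow, wOf_el.2 x hx, mul_one, mul_inv_cancel]
  have hW₁ : wOf K₁ ≤ N := fun x hx => Subgroup.subset_closure
    ⟨0, 1, by rw [pow_zero]; exact Set.mem_one.2 rfl, K₁, K₂, Or.inl ⟨rfl, rfl⟩, x, hx, by simp⟩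
  have hnN : ∀ g ∈ S, g ∈ Subgroup.normalizer (N : Set G) := by
    intro g hg
    refine mem_normalizer_of_cj_le ?_
    rw [cj, MonoidHom.map_closure]
    refine (Subgroup.closure_le _).2 ?_
    rintro _ ⟨_, ⟨n, γ, hγ, K, K', hK, x, hx, rfl⟩, rfl⟩
    refine Subgroup.subset_closure ⟨n + 1, g * γ, pow_succ' S n ▸ Set.mul_mem_mul hg hγ, K, K', hK, x, hx, ?_⟩
    show g * (γ * x * γ⁻¹) * g⁻¹ = _
    group
  exact c.no_common s₁.comp s₁.notM s₂.comp s₂.notM hne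
    ⟨N, isPGroup_elementary hNel, fun hb => wOf_ne_bot s₁.comp (le_bot_iff.1 (hb ▸ hW₁)), rfl⟩
    ((sup_le_sup_left (J_le T) _).trans fun g hg => hnN g (Or.inl hg))
    fun g hg => hnN g (Or.inr (Subgroup.mem_sup_left hg))

end Cfsg.Agent.JComp
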