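import Cfsg.Agent.Lib.JComp.Struct
import Cfsg.Agent.Lib.JComp.Four

/-!
# Components exist in the factors meeting the Thompson subgroup
-/

set_option autoImplicit false
set_option linter.style.haveILetI false

open Cfsg
open scoped commutatorElement Pointwise

namespace Cfsg.Agent.JComp

open Cfsg.Agent.Fusion

universe u

variable {G : Type u} [Group G] [Finite G] [Fact (Nat.Prime 2)] {T L : Subgroup G} (h : Hy T L) (F : Factors T L)
include h F

/-- Each factor meeting a best offender gives a component. -/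
theorem exists_component {A : Subgroup G} (hA : A ∈ mx T) {E : Subgroup G} (hE : E ∈ F.fac) {t : G}
    (ht : t ∈ A ⊓ E) (htC : t ∉ cOf L) :
    ∃ K, IsJComponent T K ∧ K ≤ L ∧ E ≤ cOf L ⊔ K ⊔ Subgroup.zpowers t ∧ K ≤ E := by
  obtain ⟨htA, htE⟩ := Subgroup.mem_inf.1 ht
  set Q := pCoreOf 2 L with hQ
  set J := thompsonSubgroupOf 2 T
  have ht2 : t ^ 2 = 1 := hA.2.1.2 t htA
  have ht1 : t⁻¹ = t := inv_eq_of_mul_eq_one_left (by rw [← pow_two]; exact ht2)
  have htT : t ∈ T := hA.1 htA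
  have htJ : t ∈ J := mx_le_J hA htA
  have htY : t ∈ yOf T L := Hy.J_le_Y htJ
  have ht2C : t ^ 2 ∈ cOf L := by rw [ht2]; exact one_mem _
  obtain ⟨y, hy, huE, hu3, huC⟩ := F.exists_three E hE t htE ht2C htC
  set u := y * t * y⁻¹ * t with hu
  have huY : u ∈ yOf T L := mul_mem (mul_mem (mul_mem hy htY) (inv_mem hy)) htY
  have htu : t * u * t⁻¹ = u⁻¹ := by
    calc t * u * t⁻¹ = t * y * t * y⁻¹ := by rw [hu]; group
      _ = t⁻¹ * y * t⁻¹ * y⁻¹ := by rw [ht1]
      _ = u⁻¹ := by rw [hu]; group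
  obtain ⟨n, o, -, -, hro⟩ := exists_parts u
  set r := u ^ 2 ^ n with hr
  have hrE : r ∈ E := pow_mem huE _
  have hrY : r ∈ yOf T L := pow_mem huY _
  have hrL : r ∈ L := h.Y_le hrY
  have hrC : r ∉ cOf L := fun hc => huC (mem_of_pow_two_odd (n := n) (o := 3) (by decide) hc hu3)
  have htr : t * r * t⁻¹ = r⁻¹ := by rw [hr, ← conj_pow, htu, inv_pow]
  have hr3C : r ^ 3 ∈ cOf L := by rw [hr, ← pow_mul, mul_comm, pow_mul]; exact pow_mem hu3 _
  have hr3 : r ^ 3 = 1 := by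
    set c := r ^ 3 with hc
    have hco : Odd (orderOf c) := hro.of_dvd_nat (orderOf_pow_dvd 3)
    have h1 : c * c ∈ Q := by
      have h2 := h.cent hr3C htY
      have e : ⁅c, t⁆ = c * c := by
        rw [commutatorElement_def, mul_assoc c t, mul_assoc c,
          show t * c⁻¹ * t⁻¹ = c from by
            rw [hc, ← inv_pow, ← conj_pow, show t * r⁻¹ * t⁻¹ = r by
              rw [show t * r⁻¹ * t⁻¹ = (t * r * t⁻¹)⁻¹ by group, htr, inv_inv]]]
      rwa [e] at h2
    obtain ⟨m, hm⟩ := isPGroup_pCoreOf L ⟨_, h1⟩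
    refine eq_one_of_odd (n := m + 1) ?_ hco
    rw [pow_succ', pow_mul, pow_two]
    exact congrArg Subtype.val hm
  have hr1 : r ≠ 1 := fun e => hrC (e ▸ one_mem _)
  set R := Q ⊔ Subgroup.zpowers r with hR
  have hrR : r ∈ R := Subgroup.mem_sup_right (Subgroup.mem_zpowers r)
  have hn := norm_of_three h F hE hrE hrY hr3 hrC htE ht2C htC (by rw [htr]; exact inv_mem hrR)
  have hRL : R ≤ L := sup_le (pCoreOf_le L) (Subgroup.zpowers_le.2 hrL)
  set K := Subgroup.closure {g : G | g ∈ R ∧ Odd (orderOf g)} with hKdef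
  have hKR : K ≤ R := closure_odd_le R
  have hKL : K ≤ L := hKR.trans hRL
  have hnK : yOf T L ⊔ cOf L ≤ Subgroup.normalizer (K : Set G) := fun x hx => by
    refine mem_normalizer_of_cj_le ?_
    rw [hKdef, Fusion.cj, MonoidHom.map_closure]
    refine Subgroup.closure_mono ?_
    rintro _ ⟨g, ⟨hg, ho⟩, rfl⟩
    exact ⟨(Subgroup.mem_normalizer_iff.1 (hn hx) g).1 hg, by rwa [orderOf_injective _ (MulAut.conj x).injective]⟩
  have hrK : r ∈ K := Subgroup.subset_closure ⟨hrR, hro⟩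
  have hKgen : Subgroup.closure {g : G | g ∈ K ∧ Odd (orderOf g)} = K := by
    refine le_antisymm (closure_odd_le K) ?_
    conv_lhs => rw [hKdef]
    exact Subgroup.closure_mono fun g hg => ⟨Subgroup.subset_closure hg, hg.2⟩
  have hQK : Q ≤ Subgroup.normalizer (K : Set G) := (Hy.Q_le_C L).trans (le_sup_right.trans hnK)
  -- the core of `K`
  have hzn : Subgroup.zpowers r ≤ Subgroup.normalizer (Q : Set G) :=
    (Subgroup.zpowers_le.2 hrL).trans (le_normalizer_pCoreOf L)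
  have hsplit : ∀ x ∈ K, ∃ q ∈ K ⊓ Q, ∃ z ∈ Subgroup.zpowers r, q * z = x := fun x hx => by
    obtain ⟨q, hq, z, hz, rfl⟩ := (mem_sup_iff_mul hzn).1 (hKR hx)
    exact ⟨q, ⟨(Subgroup.mul_mem_cancel_right _ (Subgroup.zpowers_le.2 hrK hz)).1 hx, hq⟩, z, hz, rfl⟩
  have hP : pCoreOf 2 K = K ⊓ Q := by
    refine le_antisymm (fun x hx => ?_) (le_pCoreOf inf_le_left ((isPGroup_pCoreOf L).to_le inf_le_right)
      fun g hg => ?_)
    · refine Subgroup.mem_inf.2 ⟨pCoreOf_le K hx, ?_⟩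
      obtain ⟨q, hq, z, hz, e⟩ := hsplit x (pCoreOf_le K hx)
      have hp : IsPGroup 2 ↥(pCoreOf 2 K ⊔ Q) := (isPGroup_pCoreOf K).to_sup_of_normal_right' (isPGroup_pCoreOf L)
        ((pCoreOf_le K).trans (hKL.trans (le_normalizer_pCoreOf L)))
      have hzm : z ∈ pCoreOf 2 K ⊔ Q := by
        rw [show z = q⁻¹ * x by rw [← e]; group]
        exact mul_mem (inv_mem (Subgroup.mem_sup_right (Subgroup.mem_inf.1 hq).2)) (Subgroup.mem_sup_left hx)
      obtain ⟨m, hm⟩ := hp ⟨z, hzm⟩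
      have hz1 : z = 1 := eq_one_of_odd (n := m) (congrArg Subtype.val hm)
        (hro.of_dvd_nat (orderOf_dvd_of_mem_zpowers hz))
      rw [← e, hz1, mul_one]; exact (Subgroup.mem_inf.1 hq).2
    · rw [mem_normalizer_iff_cj, cj_inf, cj_eq_self (Subgroup.le_normalizer hg),
        cj_eq_self (le_normalizer_pCoreOf L (hKL hg))]
  have hd : KGen K r := ⟨hrK, hr3, fun x hx => by
    obtain ⟨q, hq, z, hz, rfl⟩ := hsplit x hx
    exact mul_mem (Subgroup.mem_sup_left (hP ▸ hq)) (Subgroup.mem_sup_right hz)⟩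
  have hidx : (pCoreOf 2 K).relIndex K = 3 := by
    rw [hP]
    have h3 : Nat.card ↥(Subgroup.zpowers r) = 3 := by
      haveI : Fact (Nat.Prime 3) := ⟨Nat.prime_three⟩
      rw [Nat.card_zpowers]; exact orderOf_eq_prime hr3 hr1
    have hbot : (K ⊓ Q) ⊓ Subgroup.zpowers r = ⊥ := eq_bot_iff.2 fun z hz => by
      obtain ⟨h1, h2⟩ := Subgroup.mem_inf.1 hz
      obtain ⟨m, hm⟩ := isPGroup_pCoreOf L ⟨z, (Subgroup.mem_inf.1 h1).2⟩
      exact Subgroup.mem_bot.2 (eq_one_of_odd (n := m) (congrArg Subtype.val hm)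
        (hro.of_dvd_nat (orderOf_dvd_of_mem_zpowers h2)))
    have hcard := Solv.card_mul_set_mul_card_inf (K ⊓ Q) (Subgroup.zpowers r)
    rw [hbot, Subgroup.card_bot, mul_one, h3] at hcard
    have hset : ((K ⊓ Q : Subgroup G) : Set G) * (Subgroup.zpowers r : Set G) = (K : Set G) := by
      ext x
      constructor
      · rintro ⟨a, ha, b, hb, rfl⟩
        exact mul_mem (Subgroup.mem_inf.1 ha).1 (Subgroup.zpowers_le.2 hrK hb)
      · intro hx
        obtain ⟨q, hq, z, hz, e⟩ := hsplit x hx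
        exact ⟨q, hq, z, hz, e⟩
    rw [hset] at hcard
    have h4 := card_mul_relIndex_of_le (inf_le_left : K ⊓ Q ≤ K)
    exact Nat.eq_of_mul_eq_mul_left Nat.card_pos (h4.trans hcard)
  have htK : t ∈ Subgroup.normalizer (K : Set G) := hnK (Subgroup.mem_sup_left htY)
  have hJK : J ≤ Subgroup.normalizer (K : Set G) := Hy.J_le_Y.trans (le_sup_left.trans hnK)
  -- `K = [K, J]`
  have hcomm : ⁅K, J⁆ = K := by
    have hle : ⁅K, J⁆ ≤ K := Subgroup.commutator_le.2 fun g hg j hj => (commutator_elem_mem hg (hJK hj)).1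
    refine le_antisymm hle ?_
    have hr2 : r ^ 2 ∈ ⁅K, J⁆ := by
      have e : ⁅r, t⁆ = r ^ 2 := by
        rw [commutatorElement_def, mul_assoc r t, mul_assoc r, show t * r⁻¹ * t⁻¹ = r by
          rw [show t * r⁻¹ * t⁻¹ = (t * r * t⁻¹)⁻¹ by group, htr, inv_inv], pow_two]
      rw [← e]; exact Subgroup.commutator_mem_commutator hrK htJ
    have hrc : r ∈ ⁅K, J⁆ := by
      have : r = (r ^ 2) ^ 2 := by rw [← pow_mul, show 2 * 2 = 3 + 1 from rfl, pow_succ, hr3, one_mul]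
      rw [this]; exact pow_mem hr2 2
    refine le_of_closure_odd hKgen fun x hx ho => ?_
    have hPn : pCoreOf 2 K ≤ Subgroup.normalizer ((⁅K, J⁆ : Subgroup G) : Set G) :=
      (pCoreOf_le K).trans (Subgroup.normalizer_commutator_ge_left K J)
    refine odd_mem_of_sup hPn (isPGroup_pCoreOf K) ?_ ho
    exact (hd.le.trans (sup_le le_sup_right ((Subgroup.zpowers_le.2 hrc).trans le_sup_left))) hx
  -- the four-group
  set V := vOf L
  set A₀ := (A ⊓ cOf L) ⊔ (V ⊓ Subgroup.centralizer (Subgroup.zpowers t : Set G))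
  have hAV : ∀ a ∈ A ⊓ cOf L, ∀ v ∈ V ⊓ Subgroup.centralizer (Subgroup.zpowers t : Set G), a * v = v * a :=
    fun a ha v hv => (Subgroup.mem_centralizer_iff.1 (Subgroup.mem_inf.1 (Subgroup.mem_inf.1 ha).2).2 v
      (Subgroup.mem_inf.1 hv).1).symm
  have hA₀ : El A₀ := Local.elemAb_sup (Local.elemAb_mono hA.2.1 inf_le_left)
    (Local.elemAb_mono (omegaCenter_el _) inf_le_left) hAV
  have hA₀Q : A₀ ≤ Q := sup_le ((inf_le_inf_right _ hA.1).trans h.inf_C_le_Q)
    (inf_le_left.trans (omegaCenterOf_le _))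
  have htA₀ : ∀ q ∈ A₀, t * q = q * t := by
    intro q hq
    refine (Subgroup.mem_centralizer_singleton_iff.1 ((?_ : A₀ ≤ Subgroup.centralizer {t}) hq)).symm
    refine sup_le (fun a ha => Subgroup.mem_centralizer_singleton_iff.2
      (Local.elemAb_commute hA.2.1 (Subgroup.mem_inf.1 ha).1 htA))
      (fun v hv => Subgroup.mem_centralizer_singleton_iff.2
        (Subgroup.mem_centralizer_iff.1 (Subgroup.mem_inf.1 hv).2 t (Subgroup.mem_zpowers t)).symm)
  have hsize : Nat.card A ≤ 2 * Nat.card A₀ := by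
    have h1 := set_card_le (le_sup_left : A ⊓ cOf L ≤ A₀)
      (le_sup_right : V ⊓ Subgroup.centralizer (Subgroup.zpowers t : Set G) ≤ A₀)
    have h2 : (A ⊓ cOf L) ⊓ (V ⊓ Subgroup.centralizer (Subgroup.zpowers t : Set G)) ≤
        V ⊓ Subgroup.centralizer (A : Set G) := fun x hx => by
      obtain ⟨hx1, hx2⟩ := Subgroup.mem_inf.1 hx
      exact ⟨(Subgroup.mem_inf.1 hx2).1, Subgroup.mem_centralizer_iff.2 fun a ha =>
        Local.elemAb_commute hA.2.1 ha (Subgroup.mem_inf.1 hx1).1⟩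
    have h3 := F.measure A (h.mx_sub hA)
    rw [← F.invol E hE t htE ht2C htC] at h3
    refine Nat.le_of_mul_le_mul_right ?_ (Nat.card_pos (α := ↥(V ⊓ Subgroup.centralizer (A : Set G))))
    calc Nat.card A * Nat.card ↥(V ⊓ Subgroup.centralizer (A : Set G)) =
        2 * (Nat.card ↥(A ⊓ cOf L) * Nat.card ↥(V ⊓ Subgroup.centralizer (Subgroup.zpowers t : Set G))) := by
          rw [h3]; ring
      _ ≤ 2 * (Nat.card A₀ * Nat.card ↥(V ⊓ Subgroup.centralizer (A : Set G))) :=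
          Nat.mul_le_mul_left _ (h1.trans (Nat.mul_le_mul_left _ (Subgroup.card_le_of_le h2)))
      _ = _ := by ring
  have hWQ : wOf K ≤ Q := (wOf_le_omega.trans (omegaCenterOf_le _)).trans (hP.le.trans inf_le_right)
  have hqr : ∀ q ∈ A₀, ⁅q, r⁆ ∈ pCoreOf 2 K := fun q hq => by
    rw [hP]
    exact ⟨(commutator_elem_mem hrK (hQK (hA₀Q hq))).2,
      (commutator_elem_mem (hA₀Q hq) (le_normalizer_pCoreOf L hrL)).1⟩
  have hne : wOf K ≠ ⊥ := by
    intro hb
    refine hrC ⟨hrL, Subgroup.mem_centralizer_iff.2 fun v hv => commutatorElement_eq_one_iff_mul_comm.1 ?_⟩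
    have h1 : ⁅v, r⁆ ∈ V := (commutator_elem_mem hv (Hy.L_norm_V L hrL)).1
    have h2 : ⁅v, r⁆ ∈ pCoreOf 2 K := hP ▸ ⟨(commutator_elem_mem hrK (hQK (omegaCenterOf_le _ hv))).2,
      omegaCenterOf_le _ h1⟩
    have hnm := nm_comm (omegaCenter_el _) (Hy.L_norm_V L hrL) hr3 hv 1
    rw [pow_one] at hnm
    have h3 := hd.mem_wOf (mem_omegaCenter h2 ((omegaCenter_el _).2 _ h1)
      fun y hy => omegaCenter_comm h1 (hP.le hy).2) hnm
    rwa [hb, Subgroup.mem_bot] at h3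
  have h4 : Nat.card ↥(wOf K) = 4 := card_wOf_four hd hA hA₀ (hA₀Q.trans h.Q_le_T) hsize htA₀ ht2 htr htK
    (hA₀Q.trans hQK) hqr (hWQ.trans h.Q_le_T) hne
  refine ⟨K, ⟨hKgen, hcomm, hidx, ?_, h4, fun w hw => ?_⟩, hKL, ?_, hKR.trans (sup_le
    ((Hy.Q_le_C L).trans (F.C_le E hE)) (Subgroup.zpowers_le.2 hrE))⟩
  · intro S hS hJS
    exact J_eq_of_sylIn h.syl hS.2.1 (hS.1.trans (sup_le hKL h.J_le_L)) hJS
  · rw [← pow_two]; exact wOf_el.2 w hw
  · refine (F.span E hE r hrE t htE hr3C hrC ht2C htC).trans (sup_le_sup_right (sup_le_sup_left ?_ _) _)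
    exact Subgroup.zpowers_le.2 hrK

/-- A component for a conjugate of `T` is a component for `T`. -/
theorem component_base {a : G} (ha : a ∈ L) {K : Subgroup G} (hK : IsJComponent (cj T a) K) (hKL : K ≤ L) :
    IsJComponent T K := by
  obtain ⟨k, E, d⟩ := component_in h F (h.cj ha) (yOf_cj ha) hK hKL
  obtain ⟨A, hA, t, ht, htC⟩ : ∃ A ∈ mx T, ∃ t ∈ A ⊓ E, t ∉ cOf L := by
    by_contra hno
    push Not at hno
    obtain ⟨s, hsE, hs2, hsC⟩ := d.tor
    obtain ⟨y, hy, -, -, hyC⟩ := F.exists_three E d.mem s hsE hs2 hsC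
    have hnC : ∀ {x : G}, x ∈ L → x ∈ Subgroup.normalizer (cOf L : Set G) := fun hx => Hy.L_norm_C L hx
    have hEL : E ≤ L := (F.le E d.mem).trans (sup_le h.Y_le inf_le_left)
    have hJ : ∀ j ∈ thompsonSubgroupOf 2 T, ∀ e ∈ E, ⁅e, j⁆ ∈ cOf L := by
      intro j hj e he
      let S : Set G := {x | x ∈ L ∧ ⁅e, x⁆ ∈ cOf L}
      refine comm_right_closure (S := S) (fun s hs => hnC hs.1) (fun s hs => hs.2) ?_
      refine (show thompsonSubgroupOf 2 T ≤ Subgroup.closure S from ?_) hj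
      rw [J_eq]
      refine sSup_le fun A hA => (F.split A (h.mx_sub hA)).trans (sup_le (fun c hc => Subgroup.subset_closure
        ⟨hc.1, (commutator_elem_mem hc (hnC (hEL he))).2⟩) (iSup₂_le fun E' hE' x hx => Subgroup.subset_closure
        ⟨h.T_le (hA.1 (Subgroup.mem_inf.1 hx).1), ?_⟩))
      rcases eq_or_ne E E' with rfl | hne
      · exact (commutator_elem_mem (hno A hA x hx) (hnC (hEL he))).2
      · exact F.comm E d.mem E' hE' hne e he x (Subgroup.mem_inf.1 hx).2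
    have hY : ∀ e ∈ E, ⁅e, y⁆ ∈ cOf L := by
      intro e he
      let S : Set G := {x | x ∈ L ∧ ⁅e, x⁆ ∈ cOf L}
      refine comm_right_closure (S := S) (fun s hs => hnC hs.1) (fun s hs => hs.2) ?_
      refine (show yOf T L ≤ Subgroup.closure S from h.Y_eq.trans (iSup_le fun z => ?_)) hy
      rintro _ ⟨j, hj, rfl⟩
      refine Subgroup.subset_closure ⟨h.Y_le (mul_mem (mul_mem z.2 (Hy.J_le_Y hj)) (inv_mem z.2)), ?_⟩
      show ⁅e, (z : G) * j * (z : G)⁻¹⁆ ∈ cOf L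
      have he' : (z : G)⁻¹ * e * z ∈ E := by
        simpa using (Subgroup.mem_normalizer_iff.1 (inv_mem (F.norm E d.mem z.2)) e).1 he
      rw [show ⁅e, (z : G) * j * (z : G)⁻¹⁆ = z * ⁅(z : G)⁻¹ * e * z, j⁆ * (z : G)⁻¹ by
        simp only [commutatorElement_def]; group]
      exact (Subgroup.mem_normalizer_iff.1 (hnC (h.Y_le z.2)) _).1 (hJ j hj _ he')
    refine hyC ?_
    rw [show y * s * y⁻¹ * s = ⁅s, y⁆⁻¹ * s ^ 2 by simp only [commutatorElement_def, pow_two]; group]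
    exact mul_mem (inv_mem (hY s hsE)) hs2
  obtain ⟨K', hK', hKL', -, hK'E⟩ := exists_component h F hA d.mem ht htC
  obtain ⟨k', E', d'⟩ := component_in h F h rfl hK' hKL'
  obtain rfl := d'.fac_unique F hK' d.mem hK'E
  rwa [component_eq_fac h F (h.cj ha) (yOf_cj ha) hK h rfl hK' d d']

end Cfsg.Agent.JComp
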