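import Cfsg.Agent.Lib.JComp.Setup
import Cfsg.Agent.Lib.Fusion.ActModel
import Cfsg.Agent.Lib.Fusion.OffenderFixed
import Cfsg.Agent.Lib.Lead.ProjLine
import Cfsg.Agent.Lib.Char.ItoConverse

/-!
# The factors generated by the Thompson subgroup
-/

set_option autoImplicit false
set_option linter.style.haveILetI false

open Cfsg
open scoped commutatorElement

namespace Cfsg.Agent.JComp

open Cfsg.Agent.Fusion

universe u

variable {G : Type u} [Group G]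

/-- What the action of `L` on `Ω₁(Z(O₂(L)))` says inside `G`. -/
structure Factors (T L : Subgroup G) where
  /-- The preimages of the factors. -/
  fac : Set (Subgroup G)
  C_le : ∀ E ∈ fac, cOf L ≤ E
  le : ∀ E ∈ fac, E ≤ yOf T L ⊔ cOf L
  norm : ∀ E ∈ fac, yOf T L ≤ Subgroup.normalizer (E : Set G)
  comm : ∀ E ∈ fac, ∀ F ∈ fac, E ≠ F → ∀ e ∈ E, ∀ g ∈ F, ⁅e, g⁆ ∈ cOf L
  plane : ∀ E ∈ fac, ∀ F ∈ fac, E ≠ F → ⁅vOf L, E⁆ ⊓ ⁅vOf L, F⁆ = ⊥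
  gen : ∀ E ∈ fac, E ≤ cOf L ⊔ Subgroup.closure {y | y ∈ E ∧ y ∈ yOf T L ∧ ∃ n : ℕ, y ^ 2 ^ n = 1}
  split : ∀ A ∈ mx L, A ≤ cOf L ⊔ ⨆ (E : Subgroup G) (_ : E ∈ fac), A ⊓ E
  measure : ∀ A ∈ mx L, Nat.card A * Nat.card ↥(vOf L ⊓ Subgroup.centralizer (A : Set G)) =
      Nat.card ↥(A ⊓ cOf L) * Nat.card ↥(vOf L)
  invol : ∀ E ∈ fac, ∀ t ∈ E, t ^ 2 ∈ cOf L → t ∉ cOf L →
    2 * Nat.card ↥(vOf L ⊓ Subgroup.centralizer (Subgroup.zpowers t : Set G)) = Nat.card ↥(vOf L)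
  three_unique : ∀ E ∈ fac, ∀ r ∈ E, ∀ r' ∈ E, r ^ 3 ∈ cOf L → r' ^ 3 ∈ cOf L → r ∉ cOf L →
    r' ∈ cOf L ⊔ Subgroup.zpowers r
  span : ∀ E ∈ fac, ∀ r ∈ E, ∀ t ∈ E, r ^ 3 ∈ cOf L → r ∉ cOf L → t ^ 2 ∈ cOf L → t ∉ cOf L →
    E ≤ cOf L ⊔ Subgroup.zpowers r ⊔ Subgroup.zpowers t
  exists_three : ∀ E ∈ fac, ∀ t ∈ E, t ^ 2 ∈ cOf L → t ∉ cOf L →
    ∃ y ∈ yOf T L, y * t * y⁻¹ * t ∈ E ∧ (y * t * y⁻¹ * t) ^ 3 ∈ cOf L ∧ y * t * y⁻¹ * t ∉ cOf L
  two_core : ∀ K : Subgroup G, K ≤ yOf T L → Subgroup.closure {g : G | g ∈ K ∧ Odd (orderOf g)} = K →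
    ∀ x ∈ K, ∀ n : ℕ, x ^ 2 ^ n = 1 → x ∈ cOf L

theorem perm3_unique : ∀ r r' : Equiv.Perm (Fin 3), r ^ 3 = 1 → r' ^ 3 = 1 → r ≠ 1 →
    r' = 1 ∨ r' = r ∨ r' = r ^ 2 := by decide

set_option maxRecDepth 20000 in
theorem perm3_span : ∀ r t g : Equiv.Perm (Fin 3), r ^ 3 = 1 → r ≠ 1 → t ^ 2 = 1 → t ≠ 1 →
    g = 1 ∨ g = r ∨ g = r ^ 2 ∨ g = t ∨ g = r * t ∨ g = r ^ 2 * t := by decide +kernel

theorem perm3_three : ∀ t : Equiv.Perm (Fin 3), t ^ 2 = 1 → t ≠ 1 →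
    ∃ e : Equiv.Perm (Fin 3), (e * t * e⁻¹ * t) ^ 3 = 1 ∧ e * t * e⁻¹ * t ≠ 1 := by decide +kernel

theorem perm3_conj : ∀ s t : Equiv.Perm (Fin 3), s ^ 2 = 1 → s ≠ 1 → t ^ 2 = 1 → t ≠ 1 →
    ∃ e : Equiv.Perm (Fin 3), e * s * e⁻¹ = t := by decide +kernel

variable [Finite G]

instance vNormal (L : Subgroup G) : ((vOf L).subgroupOf L).Normal :=
  Subgroup.normal_subgroupOf_of_le_normalizer (Hy.L_norm_V L)

/-- The map to the model. -/
abbrev model (L : Subgroup G) : ↥L →* ActModel.Ω ((vOf L).subgroupOf L) := ActModel.proj _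

/-- The preimage in `G` of a subgroup of the model. -/
abbrev pre (L : Subgroup G) (E : Subgroup (ActModel.Ω ((vOf L).subgroupOf L))) : Subgroup G :=
  (E.comap (model L)).map L.subtype

theorem mem_pre {L : Subgroup G} {E : Subgroup (ActModel.Ω ((vOf L).subgroupOf L))} {x : G} :
    x ∈ pre L E ↔ ∃ hx : x ∈ L, model L ⟨x, hx⟩ ∈ E :=
  ⟨fun ⟨⟨y, hy⟩, he, e⟩ => e ▸ ⟨hy, he⟩, fun ⟨hx, he⟩ => ⟨⟨x, hx⟩, he, rfl⟩⟩

theorem model_eq_one {L : Subgroup G} (hV : vOf L ≤ L) {x : G} (hx : x ∈ L) :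
    model L ⟨x, hx⟩ = 1 ↔ x ∈ cOf L := by
  rw [ActModel.proj_eq_one, Subgroup.mem_centralizer_iff, Subgroup.mem_inf, Subgroup.mem_centralizer_iff]
  constructor
  · exact fun h => ⟨hx, fun v hv => congrArg Subtype.val (h ⟨v, hV hv⟩ hv)⟩
  · exact fun h v hv => Subtype.ext (h.2 v hv)

theorem card_fixL {L X : Subgroup G} (hV : vOf L ≤ L) (hX : X ≤ L) :
    Nat.card ↥((vOf L).subgroupOf L ⊓ Subgroup.centralizer (X.subgroupOf L : Set ↥L)) =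
      Nat.card ↥(vOf L ⊓ Subgroup.centralizer (X : Set G)) := by
  rw [← Subgroup.card_map_of_injective L.subtype_injective]
  congr 2
  ext w
  constructor
  · rintro ⟨⟨w, hw⟩, hm, rfl⟩
    obtain ⟨h1, h2⟩ := Subgroup.mem_inf.1 hm
    exact Subgroup.mem_inf.2 ⟨h1, Subgroup.mem_centralizer_iff.2 fun x hx =>
      congrArg Subtype.val (Subgroup.mem_centralizer_iff.1 h2 ⟨x, hX hx⟩ hx)⟩
  · intro hw
    obtain ⟨h1, h2⟩ := Subgroup.mem_inf.1 hw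
    exact ⟨⟨w, hV h1⟩, Subgroup.mem_inf.2 ⟨h1, Subgroup.mem_centralizer_iff.2 fun x hx =>
      Subtype.ext (Subgroup.mem_centralizer_iff.1 h2 (x : G) hx)⟩, rfl⟩

theorem El_subgroupOf {L A : Subgroup G} (hA : El A) : El (A.subgroupOf L) :=
  ⟨⟨⟨fun a b => Subtype.ext (Subtype.ext (Local.elemAb_commute hA a.2 b.2))⟩⟩,
    fun a ha => Subtype.ext (hA.2 a ha)⟩

variable [Fact (Nat.Prime 2)] {T L : Subgroup G} (h : Hy T L)
include h

theorem Hy.V_le_L : vOf L ≤ L := h.V_le_T.trans h.T_le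

theorem Hy.off_map {A : Subgroup G} (hA : A ∈ mx L) :
    IsBestOffenderOn 2 (ActModel.incl ((vOf L).subgroupOf L)).range ((A.subgroupOf L).map (model L)) := by
  have hV : El ((vOf L).subgroupOf L) := El_subgroupOf (omegaCenter_el _)
  refine ActModel.offender _ (isBestOffender_of_maxElementary _ hV ⟨El_subgroupOf hA.2.1, fun B hB => ?_⟩)
  rw [Nat.card_congr (Subgroup.subgroupOfEquivOfLe hA.1).toEquiv, ← Subgroup.card_map_of_injective L.subtype_injective]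
  refine hA.2.2 _ (Subgroup.map_subtype_le _) ⟨⟨⟨?_⟩⟩, ?_⟩
  · rintro ⟨_, a, ha, rfl⟩ ⟨_, b, hb, rfl⟩
    exact Subtype.ext (congrArg L.subtype (Local.elemAb_commute hB ha hb))
  · rintro _ ⟨a, ha, rfl⟩
    exact congrArg Subtype.val (hB.2 a ha)

/-- The standing hypotheses hold for every normal subgroup of `L`. -/
theorem Hy.ctxOn (D : Subgroup ↥L) [D.Normal] :
    OffCtx 2 (ActModel.incl ((vOf L).subgroupOf L)).range (D.map (model L)) := by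
  set V' := (vOf L).subgroupOf L with hV'
  have hV : El V' := El_subgroupOf (omegaCenter_el _)
  have hsep : IsPSolvable 2 ↥L := Char.isPSolvable_of_isSolvable Nat.prime_two _ rfl h.solvable
  have hO : pCore 2 (↥L ⧸ Subgroup.centralizer (V' : Set ↥L)) = ⊥ := by
    rw [LocalEven.Red.pCore_quotient_bot_iff]
    intro M hM hp
    haveI := hM
    haveI : (Subgroup.centralizer (V' : Set ↥L)).Normal := Subgroup.normal_centralizer
    have hmem : ∀ x : ↥L, x ∈ Subgroup.centralizer (V' : Set ↥L) ↔ (x : G) ∈ cOf L := fun x => by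
      rw [← ActModel.proj_eq_one V', ← model_eq_one h.V_le_L x.2]
    have hle := h.core_mod (D := (M ⊔ Subgroup.centralizer (V' : Set ↥L)).map L.subtype) ?_
      (Subgroup.map_subtype_le _) ?_ ?_
    · intro x hx
      exact (hmem x).2 (hle ⟨x, Subgroup.mem_sup_left hx, rfl⟩)
    · exact fun c hc => ⟨⟨c, hc.1⟩, Subgroup.mem_sup_right ((hmem ⟨c, hc.1⟩).2 hc), rfl⟩
    · intro l hl
      refine mem_normalizer_of_cj_le ?_
      rintro _ ⟨_, ⟨x, hx, rfl⟩, rfl⟩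
      exact ⟨⟨l, hl⟩ * x * ⟨l, hl⟩⁻¹, (inferInstance : (M ⊔ Subgroup.centralizer (V' : Set ↥L)).Normal).conj_mem
        x hx _, rfl⟩
    · rintro _ ⟨x, hx, rfl⟩
      obtain ⟨m, hm, c, hc, rfl⟩ := Subgroup.mem_sup_of_normal_right.1 hx
      obtain ⟨k, hk⟩ := hp m hm
      refine ⟨k, (hmem ((m * c) ^ 2 ^ k)).1 ((QuotientGroup.eq_one_iff _).1 ?_)⟩
      rw [QuotientGroup.mk_pow, QuotientGroup.mk_mul, (QuotientGroup.eq_one_iff c).2 hc, mul_one,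
        ← QuotientGroup.mk_pow]
      exact (QuotientGroup.eq_one_iff _).2 hk
  exact ActModel.ctx V' hsep hV hO D

theorem Hy.offGen : OffGen 2 (ActModel.incl ((vOf L).subgroupOf L)).range
    (((yOf T L).subgroupOf L).map (model L)) := by
  set V' := (vOf L).subgroupOf L with hV'
  haveI hY : ((yOf T L).subgroupOf L).Normal := Subgroup.normal_subgroupOf_of_le_normalizer Hy.L_norm_Y
  have hV : El V' := El_subgroupOf (omegaCenter_el _)
  refine ⟨h.ctxOn _, le_antisymm ?_ (iSup_le fun A => A.2.1), fun hb => h.not_J_le_C ?_⟩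
  · set S := ⨆ A : {A // A ≤ ((yOf T L).subgroupOf L).map (model L) ∧
      IsBestOffenderOn 2 (ActModel.incl V').range A}, (A : Subgroup (ActModel.Ω V'))
    have key : yOf T L ≤ pre L S := iSup_le fun l => by
      rw [J_eq, sSup_eq_iSup, cj, Subgroup.map_iSup]
      refine iSup_le fun A => ?_
      rw [Subgroup.map_iSup]
      refine iSup_le fun hA => ?_
      have hA' : cj A (l : G) ∈ mx L := by
        have h1 := h.mx_sub hA
        refine ⟨(cj_mono h1.1 _).trans (cj_eq_self_of_mem l.2).le,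
          (replFamily_elementary 2).map_equiv h1.2.1 (MulAut.conj (l : G)), fun C hC hC' => ?_⟩
        show _ ≤ Nat.card ↥(cj A (l : G))
        rw [card_cj]; exact h1.2.2 C hC hC'
      intro x hx
      refine mem_pre.2 ⟨hA'.1 hx, ?_⟩
      have hle : ((cj A (l : G)).subgroupOf L).map (model L) ≤ S :=
        le_iSup_of_le (ι := {B // B ≤ ((yOf T L).subgroupOf L).map (model L) ∧
          IsBestOffenderOn 2 (ActModel.incl V').range B})
          ⟨_, Subgroup.map_mono fun a ha => h.mx_le_Y hA' ha, h.off_map hA'⟩ le_rfl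
      exact hle ⟨_, hx, rfl⟩
    rintro _ ⟨⟨x, hx⟩, hxy, rfl⟩
    obtain ⟨_, hxS⟩ := mem_pre.1 (key hxy)
    exact hxS
  · intro x hx
    refine (model_eq_one h.V_le_L (h.J_le_L hx)).1 ?_
    rw [← Subgroup.mem_bot, ← hb]
    exact ⟨⟨x, h.J_le_L hx⟩, Hy.J_le_Y hx, rfl⟩

/-- The factors. -/
theorem Hy.factors : Nonempty (Factors T L) := by
  classical
  set V' := (vOf L).subgroupOf L with hV'
  set f := model L with hf
  set Vb := (ActModel.incl V').range with hVb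
  set H := ((yOf T L).subgroupOf L).map f with hH
  have g : OffGen 2 Vb H := h.offGen
  haveI hYn : ((yOf T L).subgroupOf L).Normal := Subgroup.normal_subgroupOf_of_le_normalizer Hy.L_norm_Y
  have hVL := h.V_le_L
  have hone : ∀ {x : G} (hx : x ∈ L), f ⟨x, hx⟩ = 1 ↔ x ∈ cOf L := fun hx => model_eq_one hVL hx
  have hinH : ∀ {x : G} (hx : x ∈ L), x ∈ yOf T L → f ⟨x, hx⟩ ∈ H := fun hx hy => ⟨_, hy, rfl⟩
  have hlift : ∀ {w}, w ∈ H → ∃ y, ∃ hy : y ∈ yOf T L, f ⟨y, h.Y_le hy⟩ = w := by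
    rintro w ⟨⟨y, hyL⟩, hy, rfl⟩
    exact ⟨y, hy, rfl⟩
  have hiso : ∀ E, IsFactor 2 Vb H E → Nonempty (↥E ≃* Equiv.Perm (Fin 3)) := fun E hE => by
    obtain ⟨σ⟩ := hE.exists_iso
    obtain ⟨τ⟩ := Lead.ProjLine.sl22 (F := ZMod 2) (ZMod.card 2)
    exact ⟨σ.trans τ⟩
  -- every offender is made of pieces in the factors
  have hpieces : ∀ A ∈ mx L, ∀ B ≤ (A.subgroupOf L).map f, IsBestOffenderOn 2 Vb B → Nat.card B = 2 →
      ∃ E, IsFactor 2 Vb H E ∧ B ≤ E := by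
    intro A hA B hB hBo hBc
    have hBH : B ≤ H := hB.trans (Subgroup.map_mono fun a ha => h.mx_le_Y hA ha)
    obtain ⟨x, P⟩ := g.ctx.exists_pair (g.tgrp hBH hBo hBc) hBH
    exact ⟨_, ⟨B, x, P, rfl⟩, le_sup_left⟩
  refine ⟨⟨pre L '' {E | IsFactor 2 Vb H E}, ?_, ?_, ?_, ?_, ?_, ?_, ?_, ?_, ?_, ?_, ?_, ?_, ?_⟩⟩
  · rintro _ ⟨E, hE, rfl⟩ c hc
    exact mem_pre.2 ⟨hc.1, by rw [(hone hc.1).2 hc]; exact one_mem E⟩
  · rintro _ ⟨E, hE, rfl⟩ x hx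
    obtain ⟨hxL, hxE⟩ := mem_pre.1 hx
    obtain ⟨y, hy, hye⟩ := hlift (hE.le hxE)
    rw [show x = y * (y⁻¹ * x) by group]
    refine mul_mem (Subgroup.mem_sup_left hy) (Subgroup.mem_sup_right ((hone (mul_mem (inv_mem (h.Y_le hy)) hxL)).1 ?_))
    rw [show (⟨y⁻¹ * x, _⟩ : ↥L) = ⟨y, h.Y_le hy⟩⁻¹ * ⟨x, hxL⟩ from rfl, map_mul, map_inv, hye, inv_mul_cancel]
  · rintro _ ⟨E, hE, rfl⟩ y hy
    refine mem_normalizer_of_cj_le ?_
    rintro _ ⟨x, hx, rfl⟩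
    obtain ⟨hxL, hxE⟩ := mem_pre.1 hx
    refine mem_pre.2 ⟨mul_mem (mul_mem (h.Y_le hy) hxL) (inv_mem (h.Y_le hy)), ?_⟩
    show f (⟨y, h.Y_le hy⟩ * ⟨x, hxL⟩ * ⟨y, h.Y_le hy⟩⁻¹) ∈ E
    rw [map_mul, map_mul, map_inv]
    exact (Subgroup.mem_normalizer_iff.1 (hE.le_normalizer g (hinH (h.Y_le hy) hy)) _).1 hxE
  · rintro _ ⟨E, hE, rfl⟩ _ ⟨F, hF, rfl⟩ hne e he x hx
    obtain ⟨heL, heE⟩ := mem_pre.1 he
    obtain ⟨hxL, hxF⟩ := mem_pre.1 hx
    refine (hone (mul_mem (mul_mem (mul_mem heL hxL) (inv_mem heL)) (inv_mem hxL))).1 ?_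
    show f ⁅(⟨e, heL⟩ : ↥L), ⟨x, hxL⟩⁆ = 1
    rw [map_commutatorElement, commutatorElement_eq_one_iff_mul_comm]
    exact hE.comm_coFactor g heE (hE.le_coFactor hF (fun e' => hne (congrArg _ e'.symm)) hxF)
  · rintro _ ⟨E, hE, rfl⟩ _ ⟨F, hF, rfl⟩ hne
    have hpl : ∀ E : Subgroup (ActModel.Ω V'), ⁅vOf L, pre L E⁆ ≤
        (((⁅Vb, E⁆).comap (ActModel.incl V')).map V'.subtype).map L.subtype := fun E => by
      rw [Subgroup.commutator_le]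
      intro v hv e he
      obtain ⟨heL, heE⟩ := mem_pre.1 he
      have hm : (⁅(⟨v, hVL hv⟩ : ↥L), ⟨e, heL⟩⁆ : ↥L) ∈ V' :=
        (commutator_elem_mem hv (Hy.L_norm_V L heL)).1
      refine ⟨⁅(⟨v, hVL hv⟩ : ↥L), ⟨e, heL⟩⁆, ⟨⟨_, hm⟩, ?_, rfl⟩, rfl⟩
      show ActModel.incl V' ⟨_, hm⟩ ∈ ⁅Vb, E⁆
      have e1 : ActModel.incl V' ⟨_, hm⟩ = ⁅ActModel.incl V' ⟨⟨v, hVL hv⟩, hv⟩, f ⟨e, heL⟩⁆ := by
        have key : ∀ a b : ActModel.Ω V', ⁅a, b⁆ = a * (b * a⁻¹ * b⁻¹) := fun a b => by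
          simp only [commutatorElement_def, mul_assoc]
        rw [key, ← map_inv (ActModel.incl V'), ActModel.act, ← map_mul]
        congr 1
        apply Subtype.ext
        simp only [commutatorElement_def, Subgroup.coe_mul, Subgroup.coe_inv, mul_assoc]
      rw [e1]
      exact Subgroup.commutator_mem_commutator ⟨_, rfl⟩ heE
    refine eq_bot_iff.2 fun w hw => ?_
    obtain ⟨hw1, hw2⟩ := Subgroup.mem_inf.1 hw
    obtain ⟨_, ⟨v₁, h1, rfl⟩, e1⟩ := hpl E hw1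
    obtain ⟨_, ⟨v₂, h2, rfl⟩, e2⟩ := hpl F hw2
    have he : v₁ = v₂ := Subtype.ext (Subtype.ext (e1.trans e2.symm))
    have hb : ActModel.incl V' v₁ ∈ ⁅Vb, E⁆ ⊓ Subgroup.centralizer (E : Set (ActModel.Ω V')) :=
      ⟨h1, (hE.plane_le_fix g hF (fun e' => hne (congrArg _ e'.symm)) (he ▸ h2)).2⟩
    rw [hE.plane_inf, Subgroup.mem_bot] at hb
    rw [Subgroup.mem_bot, ← e1, SemidirectProduct.inl_injective (hb.trans (map_one _).symm)]
    rfl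
  · rintro _ ⟨E, hE, rfl⟩
    set S := Subgroup.closure {y | y ∈ pre L E ∧ y ∈ yOf T L ∧ ∃ n : ℕ, y ^ 2 ^ n = 1}
    have hSL : cOf L ⊔ S ≤ L := sup_le inf_le_left ((Subgroup.closure_le _).2 fun y hy => h.Y_le hy.2.1)
    obtain ⟨B, x, P, hEB⟩ := hE
    have hinv : ∀ b ∈ E, b ^ 2 = 1 → b ∈ ((cOf L ⊔ S).subgroupOf L).map f := by
      intro b hb hb2
      obtain ⟨y, hy, hye⟩ := hlift ((hEB ▸ P.sup_le_H) hb)
      obtain ⟨k, m, hm, hkm⟩ := Nat.exists_eq_pow_mul_and_not_dvd (orderOf_pos y).ne' 2 (by norm_num)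
      have hfm : f ⟨y ^ m, pow_mem (h.Y_le hy) m⟩ = b := by
        rw [show (⟨y ^ m, _⟩ : ↥L) = ⟨y, h.Y_le hy⟩ ^ m from rfl, map_pow, hye]
        obtain ⟨j, rfl⟩ := Nat.odd_iff.2 (Nat.two_dvd_ne_zero.1 hm)
        rw [pow_succ, pow_mul, hb2, one_pow, one_mul]
      refine ⟨⟨y ^ m, pow_mem (h.Y_le hy) m⟩, Subgroup.mem_sup_right (Subgroup.subset_closure
        ⟨mem_pre.2 ⟨pow_mem (h.Y_le hy) m, ?_⟩, pow_mem hy m, k, ?_⟩), hfm⟩
      · exact (show f ⟨y ^ m, pow_mem (h.Y_le hy) m⟩ ∈ E by rw [hfm]; exact hb)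
      · show (y ^ m) ^ 2 ^ k = 1
        rw [← pow_mul, mul_comm, ← hkm, pow_orderOf_eq_one]
    have hle : E ≤ ((cOf L ⊔ S).subgroupOf L).map f := by
      conv_lhs => rw [hEB]
      refine sup_le (fun b hb => hinv b (hEB ▸ Subgroup.mem_sup_left hb) (P.tg.pow_eq hb))
        (fun b hb => hinv b (hEB ▸ Subgroup.mem_sup_right hb) (P.tgB.pow_eq hb))
    intro e he
    obtain ⟨heL, heE⟩ := mem_pre.1 he
    obtain ⟨⟨s, hsL⟩, hs, hse⟩ := hle heE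
    rw [show e = s * (s⁻¹ * e) by group]
    refine mul_mem hs (Subgroup.mem_sup_left ((hone (mul_mem (inv_mem hsL) heL)).1 ?_))
    rw [show (⟨s⁻¹ * e, _⟩ : ↥L) = ⟨s, hsL⟩⁻¹ * ⟨e, heL⟩ from rfl, map_mul, map_inv, hse, inv_mul_cancel]
  · intro A hA a ha
    set S := cOf L ⊔ ⨆ (E : Subgroup G) (_ : E ∈ pre L '' {E | IsFactor 2 Vb H E}), A ⊓ E
    have hle : (A.subgroupOf L).map f ≤ (S.subgroupOf L).map f := by
      refine (g.ctx.eq_iSup_minimal (Subgroup.map_mono fun a ha => h.mx_le_Y hA ha) (h.off_map hA)).le.trans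
        (sSup_le fun B hB => ?_)
      obtain ⟨E, hE, hBE⟩ := hpieces A hA B hB.1 hB.2.1 hB.2.2
      intro b hb
      obtain ⟨⟨a', ha'L⟩, ha', rfl⟩ := hB.1 hb
      refine ⟨⟨a', ha'L⟩, Subgroup.mem_sup_right ?_, rfl⟩
      exact Subgroup.mem_iSup_of_mem (pre L E) (Subgroup.mem_iSup_of_mem ⟨E, hE, rfl⟩
        ⟨ha', mem_pre.2 ⟨ha'L, hBE hb⟩⟩)
    obtain ⟨⟨s, hsL⟩, hs, hse⟩ := hle ⟨⟨a, hA.1 ha⟩, ha, rfl⟩
    rw [show a = s * (s⁻¹ * a) by group]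
    refine mul_mem hs (Subgroup.mem_sup_left ((hone (mul_mem (inv_mem hsL) (hA.1 ha))).1 ?_))
    rw [show (⟨s⁻¹ * a, _⟩ : ↥L) = ⟨s, hsL⟩⁻¹ * ⟨a, hA.1 ha⟩ from rfl, map_mul, map_inv, hse, inv_mul_cancel]
  · intro A hA
    have hAH : (A.subgroupOf L).map f ≤ H := Subgroup.map_mono fun a ha => h.mx_le_Y hA ha
    have hm := g.ctx.measure_eq hAH (h.off_map hA)
    rw [offMeasure, ActModel.card_fix, ActModel.card_incl, card_fixL hVL hA.1,
      Nat.card_congr (Subgroup.subgroupOfEquivOfLe hVL).toEquiv] at hm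
    have hc : Nat.card ↥((A.subgroupOf L) ⊓ Subgroup.centralizer (V' : Set ↥L)) = Nat.card ↥(A ⊓ cOf L) := by
      rw [← Subgroup.card_map_of_injective L.subtype_injective]
      congr 2
      ext x
      constructor
      · rintro ⟨⟨x, hxL⟩, hx, rfl⟩
        exact ⟨hx.1, (hone hxL).1 ((ActModel.proj_eq_one V').2 hx.2)⟩
      · rintro ⟨hxA, hxC⟩
        exact ⟨⟨x, hxC.1⟩, ⟨hxA, (ActModel.proj_eq_one V').1 ((hone hxC.1).2 hxC)⟩, rfl⟩
    have hcm := ActModel.card_map V' (A.subgroupOf L)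
    rw [hc, Nat.card_congr (Subgroup.subgroupOfEquivOfLe hA.1).toEquiv] at hcm
    calc _ = Nat.card ↥((A.subgroupOf L).map f) * Nat.card ↥(A ⊓ cOf L) *
          Nat.card ↥(vOf L ⊓ Subgroup.centralizer (A : Set G)) := by rw [hcm]
      _ = Nat.card ↥(A ⊓ cOf L) * (Nat.card ↥((A.subgroupOf L).map f) *
          Nat.card ↥(vOf L ⊓ Subgroup.centralizer (A : Set G))) := by ring
      _ = _ := by rw [hm]
  · rintro _ ⟨E, hE, rfl⟩ t ht h2 htC
    obtain ⟨htL, htE⟩ := mem_pre.1 ht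
    obtain ⟨σ⟩ := hiso E hE
    obtain ⟨B, x, P, hEB⟩ := id hE
    obtain ⟨b, hb, hb1⟩ := B.bot_or_exists_ne_one.resolve_left fun hb => by
      have := P.tg.card; rw [hb, Subgroup.card_bot] at this; omega
    have hbE : b ∈ E := hEB ▸ Subgroup.mem_sup_left hb
    have ht2 : σ ⟨_, htE⟩ ^ 2 = 1 := by
      rw [← map_pow, show (⟨f ⟨t, htL⟩, htE⟩ : ↥E) ^ 2 = 1 from Subtype.ext (by
        show f ⟨t, htL⟩ ^ 2 = 1
        rw [← map_pow]; exact (hone (pow_mem htL 2)).2 h2), map_one]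
    obtain ⟨e, he⟩ := perm3_conj (σ ⟨b, hbE⟩) _
      (by rw [← map_pow, show (⟨b, hbE⟩ : ↥E) ^ 2 = 1 from Subtype.ext (P.tg.pow_eq hb), map_one])
      (fun he => hb1 (congrArg Subtype.val (σ.injective (he.trans (map_one σ).symm)))) ht2
      (fun he => htC ((hone htL).1 (congrArg Subtype.val (σ.injective (he.trans (map_one σ).symm)))))
    obtain ⟨e₀, rfl⟩ := σ.surjective e
    rw [← map_inv, ← map_mul, ← map_mul, σ.injective.eq_iff] at he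
    have he' : (e₀ : ActModel.Ω V') * b * (e₀ : ActModel.Ω V')⁻¹ = f ⟨t, htL⟩ := congrArg Subtype.val he
    have hBz : cjS (e₀ : ActModel.Ω V') B = ((Subgroup.zpowers t).subgroupOf L).map f := by
      rw [show (Subgroup.zpowers t).subgroupOf L = Subgroup.zpowers (⟨t, htL⟩ : ↥L) from ?_,
        MonoidHom.map_zpowers, ← eq_zpowers_of_mem P.tg.card hb hb1, cjS, MonoidHom.map_zpowers]
      · exact congrArg _ he'
      · rw [Subgroup.subgroupOf, ← Subgroup.comap_map_eq_self_of_injective L.subtype_injective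
          (Subgroup.zpowers (⟨t, htL⟩ : ↥L)), MonoidHom.map_zpowers]
        rfl
    have hm := (P.tg.conj (g.ctx.norm (hE.le e₀.2))).idx
    rw [show B.map (MulAut.conj (e₀ : ActModel.Ω V')).toMonoidHom = _ from hBz] at hm
    have h3 := card_mul_relIndex_of_le (inf_le_left :
      Vb ⊓ Subgroup.centralizer (((Subgroup.zpowers t).subgroupOf L).map f : Set (ActModel.Ω V')) ≤ Vb)
    rw [hm, ActModel.card_fix, ActModel.card_incl, card_fixL hVL (Subgroup.zpowers_le.2 htL),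
      Nat.card_congr (Subgroup.subgroupOfEquivOfLe hVL).toEquiv, mul_comm] at h3
    exact h3
  · rintro _ ⟨E, hE, rfl⟩ r hr r' hr' h3 h3' hrC
    obtain ⟨hrL, hrE⟩ := mem_pre.1 hr
    obtain ⟨hrL', hrE'⟩ := mem_pre.1 hr'
    obtain ⟨σ⟩ := hiso E hE
    have hp : ∀ {x : G} (hx : x ∈ L) (hxE : f ⟨x, hx⟩ ∈ E), x ^ 3 ∈ cOf L → σ ⟨_, hxE⟩ ^ 3 = 1 := by
      intro x hx hxE hx3
      rw [← map_pow, show (⟨f ⟨x, hx⟩, hxE⟩ : ↥E) ^ 3 = 1 from Subtype.ext (by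
        show f ⟨x, hx⟩ ^ 3 = 1
        rw [← map_pow]; exact (hone (pow_mem hx 3)).2 hx3), map_one]
    have hn : σ ⟨_, hrE⟩ ≠ 1 := fun he => hrC ((hone hrL).1
      (congrArg Subtype.val (σ.injective (he.trans (map_one σ).symm))))
    have hcl : ∀ (i : ℕ), σ ⟨_, hrE'⟩ = σ ⟨_, hrE⟩ ^ i → r' ∈ cOf L ⊔ Subgroup.zpowers r := by
      intro i he
      rw [← map_pow] at he
      have h1 : f ⟨r', hrL'⟩ = f ⟨r, hrL⟩ ^ i := congrArg Subtype.val (σ.injective he)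
      rw [show r' = (r' * (r ^ i)⁻¹) * r ^ i by group]
      refine mul_mem (Subgroup.mem_sup_left ((hone (mul_mem hrL' (inv_mem (pow_mem hrL i)))).1 ?_))
        (Subgroup.mem_sup_right (pow_mem (Subgroup.mem_zpowers r) i))
      rw [show (⟨r' * (r ^ i)⁻¹, _⟩ : ↥L) = ⟨r', hrL'⟩ * (⟨r, hrL⟩ ^ i)⁻¹ from rfl, map_mul, map_inv,
        map_pow, h1, mul_inv_cancel]
    rcases perm3_unique _ _ (hp hrL hrE h3) (hp hrL' hrE' h3') hn with e | e | e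
    · exact hcl 0 (e.trans (pow_zero _).symm)
    · exact hcl 1 (e.trans (pow_one _).symm)
    · exact hcl 2 e
  · rintro _ ⟨E, hE, rfl⟩ r hr t ht h3 hrC h2 htC x hx
    obtain ⟨hrL, hrE⟩ := mem_pre.1 hr
    obtain ⟨htL, htE⟩ := mem_pre.1 ht
    obtain ⟨hxL, hxE⟩ := mem_pre.1 hx
    obtain ⟨σ⟩ := hiso E hE
    have hp : ∀ {x : G} (hx : x ∈ L) (hxE : f ⟨x, hx⟩ ∈ E) (n : ℕ), x ^ n ∈ cOf L → σ ⟨_, hxE⟩ ^ n = 1 := by
      intro x hx hxE n hxn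
      rw [← map_pow, show (⟨f ⟨x, hx⟩, hxE⟩ : ↥E) ^ n = 1 from Subtype.ext (by
        show f ⟨x, hx⟩ ^ n = 1
        rw [← map_pow]; exact (hone (pow_mem hx n)).2 hxn), map_one]
    have hn : ∀ {x : G} (hx : x ∈ L) (hxE : f ⟨x, hx⟩ ∈ E), x ∉ cOf L → σ ⟨_, hxE⟩ ≠ 1 := fun hx hxE hxC he =>
      hxC ((hone hx).1 (congrArg Subtype.val (σ.injective (he.trans (map_one σ).symm))))
    set W := cOf L ⊔ Subgroup.zpowers r ⊔ Subgroup.zpowers t
    have hrW : r ∈ W := Subgroup.mem_sup_left (Subgroup.mem_sup_right (Subgroup.mem_zpowers r))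
    have htW : t ∈ W := Subgroup.mem_sup_right (Subgroup.mem_zpowers t)
    have hcl : ∀ (i j : ℕ), σ ⟨_, hxE⟩ = σ ⟨_, hrE⟩ ^ i * σ ⟨_, htE⟩ ^ j → x ∈ W := by
      intro i j he
      rw [← map_pow, ← map_pow, ← map_mul] at he
      have h1 : f ⟨x, hxL⟩ = f ⟨r, hrL⟩ ^ i * f ⟨t, htL⟩ ^ j := congrArg Subtype.val (σ.injective he)
      rw [show x = (x * (r ^ i * t ^ j)⁻¹) * (r ^ i * t ^ j) by group]
      refine mul_mem (Subgroup.mem_sup_left (Subgroup.mem_sup_left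
        ((hone (mul_mem hxL (inv_mem (mul_mem (pow_mem hrL i) (pow_mem htL j))))).1 ?_)))
        (mul_mem (pow_mem hrW i) (pow_mem htW j))
      rw [show (⟨x * (r ^ i * t ^ j)⁻¹, _⟩ : ↥L) = ⟨x, hxL⟩ * (⟨r, hrL⟩ ^ i * ⟨t, htL⟩ ^ j)⁻¹ from rfl,
        map_mul, map_inv, map_mul, map_pow, map_pow, h1, mul_inv_cancel]
    rcases perm3_span _ _ (σ ⟨_, hxE⟩) (hp hrL hrE 3 h3) (hn hrL hrE hrC) (hp htL htE 2 h2) (hn htL htE htC)
      with e | e | e | e | e | e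
    · exact hcl 0 0 (by rw [pow_zero, pow_zero, mul_one]; exact e)
    · exact hcl 1 0 (by rw [pow_one, pow_zero, mul_one]; exact e)
    · exact hcl 2 0 (by rw [pow_zero, mul_one]; exact e)
    · exact hcl 0 1 (by rw [pow_zero, pow_one, one_mul]; exact e)
    · exact hcl 1 1 (by rw [pow_one, pow_one]; exact e)
    · exact hcl 2 1 (by rw [pow_one]; exact e)
  · rintro _ ⟨E, hE, rfl⟩ t ht h2 htC
    obtain ⟨htL, htE⟩ := mem_pre.1 ht
    obtain ⟨σ⟩ := hiso E hE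
    have ht2 : σ ⟨_, htE⟩ ^ 2 = 1 := by
      rw [← map_pow, show (⟨f ⟨t, htL⟩, htE⟩ : ↥E) ^ 2 = 1 from Subtype.ext (by
        show f ⟨t, htL⟩ ^ 2 = 1
        rw [← map_pow]; exact (hone (pow_mem htL 2)).2 h2), map_one]
    obtain ⟨e, he3, he1⟩ := perm3_three _ ht2 fun he => htC ((hone htL).1
      (congrArg Subtype.val (σ.injective (he.trans (map_one σ).symm))))
    obtain ⟨e₀, rfl⟩ := σ.surjective e
    rw [← map_inv, ← map_mul, ← map_mul, ← map_mul] at he3 he1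
    rw [← map_pow] at he3
    obtain ⟨y, hy, hye⟩ := hlift (hE.le e₀.2)
    have hu : y * t * y⁻¹ * t ∈ L := mul_mem (mul_mem (mul_mem (h.Y_le hy) htL) (inv_mem (h.Y_le hy))) htL
    have hfu : f ⟨y * t * y⁻¹ * t, hu⟩ = ((e₀ * ⟨_, htE⟩ * e₀⁻¹ * ⟨_, htE⟩ : ↥E) : ActModel.Ω V') := by
      rw [show (⟨y * t * y⁻¹ * t, hu⟩ : ↥L) = ⟨y, h.Y_le hy⟩ * ⟨t, htL⟩ * ⟨y, h.Y_le hy⟩⁻¹ * ⟨t, htL⟩ from rfl,
        map_mul, map_mul, map_mul, map_inv, hye]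
      rfl
    refine ⟨y, hy, mem_pre.2 ⟨hu, hfu ▸ SetLike.coe_mem _⟩, (hone (pow_mem hu 3)).1 ?_, fun hc => he1 ?_⟩
    · rw [show (⟨(y * t * y⁻¹ * t) ^ 3, _⟩ : ↥L) = ⟨_, hu⟩ ^ 3 from rfl, map_pow, hfu, ← SubmonoidClass.coe_pow,
        σ.injective (he3.trans (map_one σ).symm)]
      rfl
    · rw [show (e₀ * ⟨_, htE⟩ * e₀⁻¹ * ⟨_, htE⟩ : ↥E) = 1 from Subtype.ext (hfu ▸ (hone hu).2 hc), map_one]
  · intro K hKY hK x hx n hn
    -- modulo the odd core the image is elementary abelian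
    set R := pPrimeCore 2 ↥H
    set q := QuotientGroup.mk' R
    set S : Set (↥H ⧸ R) := {z | ∃ E, IsFactor 2 Vb H E ∧ ∃ a : ↥H, (a : ActModel.Ω V') ∈ E ∧ q a = z}
    have hEA : ∀ {A x}, (P : TPair 2 Vb H A x) → ∀ a : ↥H, (a : ActModel.Ω V') ∈ A ⊔ cjS x A →
        ∃ b : ↥H, (b : ActModel.Ω V') ∈ A ∧ q a = q b := by
      intro A x P a ha
      obtain ⟨b, hb, r, ⟨r₀, hr₀, rfl⟩, he⟩ := mem_sup_core P.le (P.sup_le_AR ha)
      refine ⟨⟨b, P.le hb⟩, hb, ?_⟩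
      rw [show a = ⟨b, P.le hb⟩ * r₀ from Subtype.ext he.symm, map_mul,
        show q r₀ = 1 from (QuotientGroup.eq_one_iff _).2 hr₀, mul_one]
    have hS : El (Subgroup.closure S) := by
      refine Local.elemAb_closure _ ?_ ?_
      · rintro _ ⟨E, hE, a, ha, rfl⟩ _ ⟨F, hF, b, hb, rfl⟩
        rcases eq_or_ne E F with rfl | hne
        · obtain ⟨A, x, P, rfl⟩ := hE
          obtain ⟨a', ha', ea⟩ := hEA P a ha
          obtain ⟨b', hb', eb⟩ := hEA P b hb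
          rw [ea, eb, ← map_mul, ← map_mul]
          congr 1
          apply Subtype.ext
          obtain ⟨c, hc, hc1⟩ := A.bot_or_exists_ne_one.resolve_left fun hb => by
            have := P.tg.card; rw [hb, Subgroup.card_bot] at this; omega
          have hz := eq_zpowers_of_mem P.tg.card hc hc1
          rw [← hz] at ha' hb'
          obtain ⟨i, hi⟩ := ha'
          obtain ⟨j, hj⟩ := hb'
          show (a' : ActModel.Ω V') * b' = b' * a'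
          rw [← hi, ← hj, ← zpow_add, ← zpow_add, add_comm]
        · rw [← map_mul, ← map_mul]
          congr 1
          exact Subtype.ext (hE.comm_coFactor g ha (hE.le_coFactor hF hne.symm hb))
      · rintro _ ⟨E, hE, a, ha, rfl⟩
        obtain ⟨A, x, P, rfl⟩ := hE
        obtain ⟨a', ha', ea⟩ := hEA P a ha
        rw [ea, ← map_pow, show a' ^ 2 = 1 from Subtype.ext (P.tg.pow_eq ha'), map_one]
    have hsq : ∀ a : ↥H, q a ^ 2 = 1 := by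
      intro a
      refine hS.2 _ ?_
      have hsup : (⨆ (F : Subgroup (ActModel.Ω V')) (_ : IsFactor 2 Vb H F), F) ≤
          ((Subgroup.closure S).comap q).map H.subtype :=
        iSup₂_le fun F hF z hz => ⟨⟨z, hF.le hz⟩, Subgroup.subset_closure ⟨F, hF, ⟨z, hF.le hz⟩, hz, rfl⟩, rfl⟩
      obtain ⟨a', ha', e⟩ := hsup (g.le_iSup_factor a.2)
      rw [show a = a' from Subtype.ext e.symm]
      exact ha'
    have hodd : ∀ y ∈ K, Odd (orderOf y) → ∀ hyL : y ∈ L, f ⟨y, hyL⟩ ∈ coreIn 2 H := by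
      intro y hy ho hyL
      refine ⟨⟨_, hinH hyL (hKY hy)⟩, (QuotientGroup.eq_one_iff _).1 (eq_one_of_odd (n := 1) (hsq _) ?_), rfl⟩
      refine ho.of_dvd_nat ((orderOf_map_dvd q _).trans ?_)
      rw [Subgroup.orderOf_mk]
      exact (orderOf_map_dvd f _).trans (Subgroup.orderOf_mk y hyL).dvd
    have hKR : K ≤ pre L (coreIn 2 H) := le_of_closure_odd hK fun y hy ho =>
      mem_pre.2 ⟨h.Y_le (hKY hy), hodd y hy ho _⟩
    obtain ⟨hxL, hxR⟩ := mem_pre.1 (hKR hx)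
    refine (hone hxL).1 ?_
    have hord : (orderOf (f ⟨x, hxL⟩)).Coprime (2 ^ n) :=
      Nat.Coprime.pow_right n (coreIn_coprime.coprime_dvd_left (Subgroup.orderOf_dvd_natCard _ hxR))
    refine orderOf_eq_one_iff.1 (Nat.eq_one_of_dvd_coprimes hord dvd_rfl ?_)
    refine orderOf_dvd_of_pow_eq_one ?_
    rw [← map_pow, show (⟨x, hxL⟩ : ↥L) ^ 2 ^ n = 1 from Subtype.ext hn, map_one]

end Cfsg.Agent.JComp
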