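import Cfsg.Agent.Lib.JComp.Lines

/-!
# Every element of `Ω₁(Z(O₂(L)))` is centralized by a conjugate of `J(T)`
-/

set_option autoImplicit false
set_option linter.style.haveILetI false

open Cfsg
open scoped commutatorElement

namespace Cfsg.Agent.JComp

open Cfsg.Agent.Fusion

universe u

variable {G : Type u} [Group G]

theorem pow_mul_mem {C : Subgroup G} {κ y : G} (hκ : κ ∈ C) (hy : y ∈ Subgroup.normalizer (C : Set G)) :
    ∀ n : ℕ, (κ * y) ^ n * (y ^ n)⁻¹ ∈ C := by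
  intro n
  induction n with
  | zero => simp
  | succ n ih =>
    rw [show (κ * y) ^ (n + 1) * (y ^ (n + 1))⁻¹ = κ * (y * ((κ * y) ^ n * (y ^ n)⁻¹) * y⁻¹) by
      rw [pow_succ', pow_succ' y]; group]
    exact mul_mem hκ ((Subgroup.mem_normalizer_iff.1 hy _).1 ih)

variable [Finite G] [Fact (Nat.Prime 2)] {T L : Subgroup G} (h : Hy T L) (F : Factors T L)
include h F

/-- The elements of `J(T)` in the factor of a component agree modulo the kernel. -/
theorem coincide {K : Subgroup G} {k : G} {E : Subgroup G} (d : CompIn T L F K k E) {t : G} (htT : t ∈ T)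
    (htE : t ∈ E) (ht2 : t ^ 2 = 1) (htC : t ∉ cOf L) (htK : t ∈ Subgroup.normalizer (K : Set G)) {t' : G}
    (htT' : t' ∈ T) (htE' : t' ∈ E) : t' ∈ cOf L ⊔ Subgroup.zpowers t := by
  have htL := h.T_le htT
  have hKL : K ≤ L := d.leY.trans h.Y_le
  have hCn : ∀ {x}, x ∈ L → x ∈ Subgroup.normalizer (cOf L : Set G) := fun hx => Hy.L_norm_C L hx
  have hKn : K ≤ Subgroup.normalizer (cOf L : Set G) := fun x hx => hCn (hKL hx)
  have htn : Subgroup.zpowers t ≤ Subgroup.normalizer ((cOf L ⊔ K : Subgroup G) : Set G) := by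
    rw [Subgroup.zpowers_le, mem_normalizer_iff_cj, cj_sup, cj_eq_self (hCn htL), cj_eq_self htK]
  obtain ⟨x, hx, y, hy, e⟩ := (mem_sup_iff_mul htn).1
    ((F.span E d.mem k (d.le d.gen.mem) t htE (by rw [d.gen.cube]; exact one_mem _) d.notC
      (by rw [ht2]; exact one_mem _) htC).trans
      (sup_le_sup_right (sup_le_sup_left (Subgroup.zpowers_le.2 d.gen.mem) _) _) htE')
  have hxT : x ∈ T := by
    rw [show x = t' * y⁻¹ by rw [← e]; group]
    exact mul_mem htT' (inv_mem (Subgroup.zpowers_le.2 htT hy))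
  obtain ⟨κ, hκ, g, hg, rfl⟩ := (mem_sup_iff_mul hKn).1 hx
  obtain ⟨p, hp, i, -, rfl⟩ := d.gen.split hg
  have hκ' : κ * p ∈ cOf L := mul_mem hκ (Hy.Q_le_C L (d.core hp))
  have h3 : (κ * (p * k ^ i)) ^ 3 ∈ cOf L := by
    have hy3 : (k ^ i) ^ 3 = 1 := by rw [← pow_mul, mul_comm, pow_mul, d.gen.cube, one_pow]
    have := pow_mul_mem hκ' (pow_mem (hCn (hKL d.gen.mem)) i) 3
    rwa [hy3, inv_one, mul_one, mul_assoc] at this
  obtain ⟨n, hn⟩ := h.pT ⟨_, hxT⟩
  have h2 : (κ * (p * k ^ i)) ^ 2 ^ n ∈ cOf L := by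
    rw [show (κ * (p * k ^ i)) ^ 2 ^ n = 1 from congrArg Subtype.val hn]; exact one_mem _
  rw [← e]
  exact mul_mem (Subgroup.mem_sup_left (mem_of_pow_two_odd (o := 3) (by decide) h2 h3)) (Subgroup.mem_sup_right hy)

/-- An element of `V` can be moved by the component to one fixed by its involution. -/
theorem move_fixed {K : Subgroup G} (hK : IsJComponent T K) {k : G} {E : Subgroup G} (d : CompIn T L F K k E)
    {A : Subgroup G} (hA : A ∈ mx T) {t : G} (htA : t ∈ A) (htE : t ∈ E) (htC : t ∉ cOf L) {v : G}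
    (hv : v ∈ vOf L) : ∃ i : ℕ, t * (k ^ i * v * (k ^ i)⁻¹) = (k ^ i * v * (k ^ i)⁻¹) * t := by
  set V := vOf L
  set W := wOf K
  have hVel : El V := omegaCenter_el _
  have ht2 : t ^ 2 = 1 := hA.2.1.2 t htA
  have htT : t ∈ T := hA.1 htA
  have htK : t ∈ Subgroup.normalizer (K : Set G) := J_norm_component hK (mx_le_J hA htA)
  have htW : t ∈ Subgroup.normalizer (W : Set G) := wOf_norm_of htK
  have hkL : k ∈ L := h.Y_le (d.leY d.gen.mem)
  have hkV := Hy.L_norm_V L hkL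
  have htV := Hy.L_norm_V L (h.T_le htT)
  have hcj : ∀ {g}, g ∈ Subgroup.normalizer (V : Set G) → ∀ {x}, x ∈ V → g * x * g⁻¹ ∈ V := fun hg _ hx =>
    (Subgroup.mem_normalizer_iff.1 hg _).1 hx
  have hWV : W ≤ V := d.plane.trans (Subgroup.commutator_le.2 fun x hx g hg =>
    (commutator_elem_mem hx (Hy.L_norm_V L (h.Y_le (d.leY hg)))).1)
  have h4 : Nat.card W = 4 := hK.2.2.2.2.1
  -- `t` moves `W`
  obtain ⟨w₁, hw₁, hw₁t⟩ : ∃ w ∈ W, t * w * t⁻¹ ≠ w := by
    by_contra hno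
    push Not at hno
    have hJW : ∀ w ∈ W, ∀ j ∈ thompsonSubgroupOf 2 T, j * w = w * j := by
      intro w hw j hj
      refine (Subgroup.mem_centralizer_singleton_iff.1 ((?_ : thompsonSubgroupOf 2 T ≤ Subgroup.centralizer {w}) hj))
      rw [J_eq]
      refine sSup_le fun A' hA' => (F.split A' (h.mx_sub hA')).trans (sup_le (fun x hx =>
        Subgroup.mem_centralizer_singleton_iff.2 (Subgroup.mem_centralizer_iff.1 hx.2 w (hWV hw)).symm)
        (iSup₂_le fun E' hE' x hx => Subgroup.mem_centralizer_singleton_iff.2 ?_))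
      obtain ⟨hxA, hxE⟩ := Subgroup.mem_inf.1 hx
      rcases eq_or_ne E' E with rfl | hne
      · obtain ⟨κ, hκ, y, hy, e⟩ := (mem_sup_iff_mul ((Subgroup.zpowers_le.2 (h.T_le htT)).trans
          (Hy.L_norm_C L))).1 (coincide h F d htT htE ht2 htC htK (hA'.1 hxA) hxE)
        have hκc : Commute κ w := (Subgroup.mem_centralizer_iff.1 hκ.2 w (hWV hw)).symm
        have htc : Commute t w := mul_inv_eq_iff_eq_mul.1 (hno w hw)
        obtain ⟨l, rfl⟩ := hy
        rw [← e]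
        exact (hκc.mul_left (htc.zpow_left l)).eq
      · refine (commutatorElement_eq_one_iff_mul_comm.1 ?_).symm
        rw [← Subgroup.mem_bot, ← F.plane E' hE' E d.mem hne]
        have hxn : x ∈ Subgroup.normalizer (W : Set G) :=
          wOf_norm_of (J_norm_component hK (mx_le_J hA' hxA))
        exact ⟨Subgroup.commutator_mem_commutator (hWV hw) hxE,
          (d.plane.trans (Subgroup.commutator_mono le_rfl d.le)) (commutator_elem_mem hw hxn).1⟩
    have hle : W ≤ zOf T ⊓ W := fun w hw => Subgroup.mem_inf.2 ⟨by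
      have hwT : w ∈ T := h.V_le_T (hWV hw)
      have hwA : w ∈ A := mem_mx_of_commute hA hwT (wOf_el.2 w hw) fun a ha => (hJW w hw a (mx_le_J hA ha)).symm
      exact mem_omegaCenter (mx_le_J hA hwA) (wOf_el.2 w hw) (hJW w hw), hw⟩
    have h2 := Subgroup.card_le_of_le hle
    rw [(center_split h.pT hK).1, h4] at h2
    omega
  -- the commutators with `t` lie in `W`
  have hidx : (V ⊓ Subgroup.centralizer (Subgroup.zpowers t : Set G)).relIndex V = 2 := by
    have h1 := card_mul_relIndex_of_le (inf_le_left : V ⊓ Subgroup.centralizer (Subgroup.zpowers t : Set G) ≤ V)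
    have h2 := F.invol E d.mem t htE (by rw [ht2]; exact one_mem _) htC
    rw [← h2, mul_comm 2] at h1
    exact Nat.eq_of_mul_eq_mul_left Nat.card_pos h1
  have hfixt : ∀ {x}, x ∈ V → (x ∈ V ⊓ Subgroup.centralizer (Subgroup.zpowers t : Set G) ↔ t * x = x * t) :=
    fun {x} hx => ⟨fun hm => Subgroup.mem_centralizer_iff.1 hm.2 t (Subgroup.mem_zpowers t), fun hc =>
      ⟨hx, Subgroup.mem_centralizer_iff.2 (by rintro _ ⟨j, rfl⟩; exact ((show Commute t x from hc).zpow_left j).eq)⟩⟩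
  have hcomm : ∀ {x}, x ∈ V → ⁅x, t⁆ ∈ W := by
    intro x hx
    by_cases hxt : t * x = x * t
    · rw [commutatorElement_eq_one_iff_mul_comm.2 hxt.symm]; exact one_mem _
    · have hm : (⟨w₁, hWV hw₁⟩ * ⟨x, hx⟩ : ↥V) ∈ (V ⊓ Subgroup.centralizer (Subgroup.zpowers t : Set G)).subgroupOf V := by
        rw [Subgroup.mul_mem_iff_of_index_two hidx]
        simp only [Subgroup.mem_subgroupOf]
        rw [hfixt (hWV hw₁), hfixt hx]
        exact iff_of_false (fun hc => hw₁t (mul_inv_eq_iff_eq_mul.2 hc)) hxt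
      have hc : t * (w₁ * x) = (w₁ * x) * t := (hfixt (mul_mem (hWV hw₁) hx)).1 hm
      have e : ⁅x, t⁆ = ⁅w₁, t⁆ := by
        calc ⁅x, t⁆ = w₁⁻¹ * (w₁ * x) * t * (w₁ * x)⁻¹ * w₁ * t⁻¹ := by simp only [commutatorElement_def]; group
          _ = w₁⁻¹ * (t * (w₁ * x)) * (w₁ * x)⁻¹ * w₁ * t⁻¹ := by rw [hc]; group
          _ = w₁⁻¹ * (t * w₁ * t⁻¹) := by group
          _ = ⁅w₁, t⁆ := by
            have hu : w₁⁻¹ = w₁ := El.inv_eq wOf_el hw₁
            rw [commutatorElement_def]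
            simp only [hu, mul_assoc]
      rw [e]
      exact (commutator_elem_mem hw₁ htW).1
  -- the fixed part
  set c := nm k v
  have hkv : k * v * k⁻¹ ∈ V := hcj hkV hv
  have hkv2 : k ^ 2 * v * (k ^ 2)⁻¹ ∈ V := hcj (pow_mem hkV 2) hv
  have hcV : c ∈ V := mul_mem (mul_mem hv hkv) hkv2
  have hck : k * c * k⁻¹ = c := by
    calc k * c * k⁻¹ = nm k (k * v * k⁻¹) := by simp only [c, nm, pow_two]; group
      _ = c := nm_conj hVel hkV d.gen.cube hv
  have hcK : ∀ g ∈ K, g * c = c * g := by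
    intro g hg
    obtain ⟨p, hp, i, -, rfl⟩ := d.gen.split hg
    exact (((show Commute p c from omegaCenter_comm hcV (d.core hp))).mul_left
      ((show Commute k c from mul_inv_eq_iff_eq_mul.1 hck).pow_left i)).eq
  have hct : t * c = c * t := by
    have hd : ⁅c, t⁆ ∈ W := hcomm hcV
    have hk' : t⁻¹ * k * t ∈ K := by simpa using (Subgroup.mem_normalizer_iff.1 (inv_mem htK) k).1 d.gen.mem
    have hkd : k * ⁅c, t⁆ * k⁻¹ = ⁅c, t⁆ := by
      calc k * ⁅c, t⁆ * k⁻¹ = (k * c * k⁻¹) * (t * ((t⁻¹ * k * t) * c * (t⁻¹ * k * t)⁻¹)⁻¹ * t⁻¹) := by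
            simp only [commutatorElement_def]; group
        _ = _ := by rw [hck, hcK _ hk', mul_inv_cancel_right, commutatorElement_def]; group
    exact (commutatorElement_eq_one_iff_mul_comm.1 (d.gen.fpf hd hkd)).symm
  set w := v * c with hw
  have hwW : w ∈ W := by
    have e1 : ∀ i : ℕ, ⁅v, k ^ i⁆ = v * (k ^ i * v * (k ^ i)⁻¹) := fun i => by
      conv_lhs => rw [commutatorElement_def, El.inv_eq hVel hv]
      simp only [mul_assoc]
    have hvv : v * v = 1 := by rw [← pow_two]; exact hVel.2 v hv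
    have e : w = ⁅v, k ^ 1⁆ * ⁅v, k ^ 2⁆ := by
      rw [e1, e1, pow_one]
      calc w = (v * v) * (k * v * k⁻¹) * (k ^ 2 * v * (k ^ 2)⁻¹) := by simp only [hw, c, nm]; group
        _ = (k * v * k⁻¹) * (k ^ 2 * v * (k ^ 2)⁻¹) := by rw [hvv, one_mul]
        _ = (k * v * k⁻¹) * (v * v) * (k ^ 2 * v * (k ^ 2)⁻¹) := by rw [hvv, mul_one]
        _ = ((k * v * k⁻¹) * v) * (v * (k ^ 2 * v * (k ^ 2)⁻¹)) := by simp only [mul_assoc]
        _ = _ := by rw [Local.elemAb_commute hVel hkv hv]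
    rw [e]
    exact mul_mem (d.comm_le (Subgroup.commutator_mem_commutator hv (pow_mem d.gen.mem 1)))
      (d.comm_le (Subgroup.commutator_mem_commutator hv (pow_mem d.gen.mem 2)))
  have hvcw : v = c * w := by
    rw [hw, Local.elemAb_commute hVel hv hcV, ← mul_assoc, ← pow_two, hVel.2 c hcV, one_mul]
  -- a fixed point of `t` on `W`
  obtain ⟨w₀, hw₀, hw₀1, hw₀t⟩ := exists_fixed (h.pT.to_le (Subgroup.zpowers_le.2 htT))
    (isPGroup_elementary wOf_el) (wOf_ne_bot hK) (Subgroup.zpowers_le.2 htW)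
  have hkw : k * w₀ * k⁻¹ ∈ W := (Subgroup.mem_normalizer_iff.1 (wOf_norm d.gen.mem) _).1 hw₀
  have hsuf : ∀ i : ℕ, (t * (k ^ i * w * (k ^ i)⁻¹) = (k ^ i * w * (k ^ i)⁻¹) * t) →
      t * (k ^ i * v * (k ^ i)⁻¹) = (k ^ i * v * (k ^ i)⁻¹) * t := by
    intro i hi
    have e : k ^ i * v * (k ^ i)⁻¹ = c * (k ^ i * w * (k ^ i)⁻¹) := by
      rw [hvcw]
      calc k ^ i * (c * w) * (k ^ i)⁻¹ = (k ^ i * c) * w * (k ^ i)⁻¹ := by group
        _ = _ := by
          rw [((show Commute k c from mul_inv_eq_iff_eq_mul.1 hck).pow_left i).eq]; simp only [mul_assoc]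
    rw [e]
    exact ((show Commute t c from hct).mul_right hi).eq
  have hnm := d.gen.nm_wOf hw₀
  have hk2 : k ^ 2 * w₀ * (k ^ 2)⁻¹ = w₀ * (k * w₀ * k⁻¹) := by
    rw [eq_inv_of_mul_eq_one_right hnm, El.inv_eq wOf_el (mul_mem hw₀ hkw)]
  rcases four_cases wOf_el h4 hw₀ hkw hw₀1 (fun e => hw₀1 (conj_eq_one_iff.1 e))
    (fun e => hw₀1 (d.gen.fpf hw₀ e.symm)) w hwW with e | e | e | e
  · exact ⟨0, hsuf 0 (by simp [e])⟩
  · exact ⟨0, hsuf 0 (by rw [e, pow_zero, one_mul, inv_one, mul_one]; exact hw₀t t (Subgroup.mem_zpowers t))⟩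
  · refine ⟨2, hsuf 2 ?_⟩
    have e' : k ^ 2 * w * (k ^ 2)⁻¹ = w₀ := by
      rw [e]
      calc k ^ 2 * (k * w₀ * k⁻¹) * (k ^ 2)⁻¹ = k ^ 3 * w₀ * (k ^ 3)⁻¹ := by group
        _ = w₀ := by rw [d.gen.cube, one_mul, inv_one, mul_one]
    rw [e']; exact hw₀t t (Subgroup.mem_zpowers t)
  · refine ⟨1, hsuf 1 ?_⟩
    have e' : k ^ 1 * w * (k ^ 1)⁻¹ = w₀ := by
      rw [e, ← hk2]
      calc k ^ 1 * (k ^ 2 * w₀ * (k ^ 2)⁻¹) * (k ^ 1)⁻¹ = k ^ 3 * w₀ * (k ^ 3)⁻¹ := by group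
        _ = w₀ := by rw [d.gen.cube, one_mul, inv_one, mul_one]
    rw [e']; exact hw₀t t (Subgroup.mem_zpowers t)

/-- A conjugate of `J(T)` centralizes any element of `V`. -/
theorem conj_fixed {v : G} (hv : v ∈ vOf L) :
    ∃ l ∈ L, ∀ j ∈ thompsonSubgroupOf 2 T, j * (l * v * l⁻¹) = l * v * l⁻¹ * j := by
  classical
  haveI : Fintype (Subgroup G) := Fintype.ofFinite _
  have key : ∀ s : Finset (Subgroup G), (∀ E ∈ s, E ∈ F.fac) →
      ∃ l ∈ L, ∀ E ∈ s, ∀ A ∈ mx T, ∀ t ∈ A ⊓ E, Commute t (l * v * l⁻¹) := by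
    intro s
    induction s using Finset.induction_on with
    | empty => exact fun _ => ⟨1, one_mem L, fun E hE => absurd hE (Finset.notMem_empty E)⟩
    | insert E s hEs ih =>
      intro hfac
      have hE := hfac E (Finset.mem_insert_self E s)
      have hs := fun E' hE' => hfac E' (Finset.mem_insert_of_mem hE')
      obtain ⟨l, hl, hfix⟩ := ih hs
      set v₁ := l * v * l⁻¹ with hv₁
      have hv₁V : v₁ ∈ vOf L := (Subgroup.mem_normalizer_iff.1 (Hy.L_norm_V L hl) v).1 hv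
      have hcV : ∀ {κ}, κ ∈ cOf L → ∀ {x}, x ∈ vOf L → Commute κ x := fun hκ _ hx =>
        (Subgroup.mem_centralizer_iff.1 hκ.2 _ hx).symm
      by_cases hmeet : ∃ A ∈ mx T, ∃ t ∈ A ⊓ E, t ∉ cOf L
      · obtain ⟨A, hA, t, ht, htC⟩ := hmeet
        obtain ⟨htA, htE⟩ := Subgroup.mem_inf.1 ht
        obtain ⟨K, hK, hKL, -, hKE⟩ := exists_component h F hA hE ht htC
        obtain ⟨k, E', d⟩ := component_in h F h rfl hK hKL
        obtain rfl := d.fac_unique F hK hE hKE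
        obtain ⟨i, hi⟩ := move_fixed h F hK d hA htA htE htC hv₁V
        have hkL : k ^ i ∈ L := pow_mem (hKL d.gen.mem) i
        refine ⟨k ^ i * l, mul_mem hkL hl, fun E₁ hE₁ A₁ hA₁ x hx => ?_⟩
        rw [show k ^ i * l * v * (k ^ i * l)⁻¹ = k ^ i * v₁ * (k ^ i)⁻¹ by rw [hv₁]; group]
        obtain ⟨hxA, hxE⟩ := Subgroup.mem_inf.1 hx
        rcases Finset.mem_insert.1 hE₁ with rfl | hE₁'
        · obtain ⟨κ, hκ, y, hy, e⟩ := (mem_sup_iff_mul ((Subgroup.zpowers_le.2 (h.T_le (hA.1 htA))).trans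
            (Hy.L_norm_C L))).1 (coincide h F d (hA.1 htA) htE (hA.2.1.2 t htA) htC
              (J_norm_component hK (mx_le_J hA htA)) (hA₁.1 hxA) hxE)
          obtain ⟨j, rfl⟩ := hy
          rw [← e]
          exact (hcV hκ ((Subgroup.mem_normalizer_iff.1 (Hy.L_norm_V L hkL) v₁).1 hv₁V)).mul_left
            ((show Commute t _ from hi).zpow_left j)
        · have hne : E ≠ E₁ := fun e => hEs (e ▸ hE₁')
          have hκ : ⁅(k ^ i)⁻¹, x⁆ ∈ cOf L :=
            F.comm E hE E₁ (hs E₁ hE₁') hne _ (inv_mem (pow_mem (d.le d.gen.mem) i)) x hxE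
          have h2 : Commute (⁅(k ^ i)⁻¹, x⁆ * x) v₁ := (hcV hκ hv₁V).mul_left (hfix E₁ hE₁' A₁ hA₁ x hx)
          rw [show ⁅(k ^ i)⁻¹, x⁆ * x = (k ^ i)⁻¹ * x * k ^ i by simp only [commutatorElement_def]; group] at h2
          calc x * (k ^ i * v₁ * (k ^ i)⁻¹) = k ^ i * (((k ^ i)⁻¹ * x * k ^ i) * v₁) * (k ^ i)⁻¹ := by group
            _ = k ^ i * (v₁ * ((k ^ i)⁻¹ * x * k ^ i)) * (k ^ i)⁻¹ := by rw [h2.eq]
            _ = k ^ i * v₁ * (k ^ i)⁻¹ * x := by group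
      · push Not at hmeet
        refine ⟨l, hl, fun E₁ hE₁ A₁ hA₁ x hx => ?_⟩
        rcases Finset.mem_insert.1 hE₁ with rfl | hE₁'
        · exact hcV (hmeet A₁ hA₁ x hx) hv₁V
        · exact hfix E₁ hE₁' A₁ hA₁ x hx
  obtain ⟨l, hl, hfix⟩ := key (Finset.univ.filter (· ∈ F.fac)) fun E hE => (Finset.mem_filter.1 hE).2
  refine ⟨l, hl, fun j hj => ?_⟩
  have hv₁V : l * v * l⁻¹ ∈ vOf L := (Subgroup.mem_normalizer_iff.1 (Hy.L_norm_V L hl) v).1 hv
  refine Subgroup.mem_centralizer_singleton_iff.1 ((?_ : thompsonSubgroupOf 2 T ≤ Subgroup.centralizer {l * v * l⁻¹}) hj)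
  rw [J_eq]
  refine sSup_le fun A hA => (F.split A (h.mx_sub hA)).trans (sup_le (fun x hx =>
    Subgroup.mem_centralizer_singleton_iff.2 (Subgroup.mem_centralizer_iff.1 hx.2 _ hv₁V).symm)
    (iSup₂_le fun E hE x hx => Subgroup.mem_centralizer_singleton_iff.2
      (hfix E (Finset.mem_filter.2 ⟨Finset.mem_univ E, hE⟩) A hA x hx).eq))

end Cfsg.Agent.JComp
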