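import Cfsg.Agent.Lib.JComp.Loc
import Cfsg.Agent.Lib.JComp.Center

/-!
# The centre of `J(T)` and the components
-/

set_option autoImplicit false
set_option linter.style.haveILetI false

open Cfsg
open scoped commutatorElement Pointwise

namespace Cfsg.Agent.JComp

open Cfsg.Agent.Fusion

universe u

variable {G : Type u} [Group G] [Finite G] [Fact (Nat.Prime 2)]

/-- `Ω₁(Z(J(T)))`. -/
abbrev zOf (T : Subgroup G) : Subgroup G := omegaCenterOf (thompsonSubgroupOf 2 T)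

/-- Its part centralized by `K`. -/
abbrev fixZ (T K : Subgroup G) : Subgroup G := zOf T ⊓ Subgroup.centralizer (K : Set G)

/-- A central involution of `T` lies in the centre of `J(T)`. -/
theorem omega_le_zOf (T : Subgroup G) : omegaCenterOf T ≤ zOf T := by
  intro z hz
  have h2 := (omegaCenter_el T).2 z hz
  have hzA : ∀ A ∈ mx T, z ∈ A := fun A hA => mem_mx_of_commute hA (omegaCenterOf_le T hz) h2
    fun a ha => (omegaCenter_comm hz (hA.1 ha)).symm
  obtain ⟨A, hA⟩ := mx_nonempty T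
  exact mem_omegaCenter (mx_le_J hA (hzA A hA)) h2 fun y hy => omegaCenter_comm hz (J_le T hy)

theorem omega_ne_bot {T : Subgroup G} (hT : IsPGroup 2 T) (h1 : T ≠ ⊥) : omegaCenterOf T ≠ ⊥ := by
  intro hb
  obtain ⟨z, hz, hz1, hzc⟩ := exists_fixed hT hT h1 Subgroup.le_normalizer
  obtain ⟨n, hn⟩ := hT ⟨z, hz⟩
  have hn' : z ^ 2 ^ n = 1 := congrArg Subtype.val hn
  obtain ⟨m, hm1, hm2⟩ : ∃ m, z ^ 2 ^ m ≠ 1 ∧ (z ^ 2 ^ m) ^ 2 = 1 := by
    induction n with
    | zero => exact absurd (by simpa using hn') hz1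
    | succ n ih =>
      by_cases h : z ^ 2 ^ n = 1
      · exact ih (Subtype.ext h) h
      · exact ⟨n, h, by rw [← pow_mul, ← pow_succ, hn']⟩
  refine hm1 (Subgroup.mem_bot.1 (hb ▸ mem_omegaCenter (X := T) (pow_mem hz _) hm2 fun y hy => ?_))
  exact ((show Commute y z from hzc y hy).pow_right _).eq

omit [Fact (Nat.Prime 2)] in
theorem exists_gen {X : Subgroup G} (h : Nat.card X = 2) : ∃ a ∈ X, a ≠ 1 ∧ ∀ x ∈ X, x = 1 ∨ x = a := by
  obtain ⟨a, ha, ha1⟩ := X.bot_or_exists_ne_one.resolve_left fun hb => by rw [hb, Subgroup.card_bot] at h; omega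
  classical
  refine ⟨a, ha, ha1, fun x hx => ?_⟩
  by_contra hno
  push Not at hno
  haveI := Fintype.ofFinite ↥X
  have h3 : ({⟨1, one_mem X⟩, ⟨a, ha⟩, ⟨x, hx⟩} : Finset ↥X).card = 3 := by
    rw [Finset.card_eq_three]
    exact ⟨_, _, _, fun e => ha1 (congrArg Subtype.val e).symm, fun e => hno.1 (congrArg Subtype.val e).symm,
      fun e => hno.2 (congrArg Subtype.val e).symm, rfl⟩
  have := Finset.card_le_univ ({⟨1, one_mem X⟩, ⟨a, ha⟩, ⟨x, hx⟩} : Finset ↥X)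
  rw [h3, ← Nat.card_eq_fintype_card, h] at this
  omega

omit [Fact (Nat.Prime 2)] in
theorem four_cases {Z : Subgroup G} (hZ : El Z) (h4 : Nat.card Z = 4) {a b : G} (ha : a ∈ Z) (hb : b ∈ Z)
    (ha1 : a ≠ 1) (hb1 : b ≠ 1) (hab : a ≠ b) : ∀ x ∈ Z, x = 1 ∨ x = a ∨ x = b ∨ x = a * b := by
  classical
  intro x hx
  haveI := Fintype.ofFinite ↥Z
  let s : Finset ↥Z := {⟨1, one_mem Z⟩, ⟨a, ha⟩, ⟨b, hb⟩, ⟨a * b, mul_mem ha hb⟩}
  have hab1 : a * b ≠ 1 := fun e => hab (by rw [eq_inv_of_mul_eq_one_left e, El.inv_eq hZ hb])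
  have hs : s.card = 4 := by
    rw [Finset.card_insert_of_notMem, Finset.card_insert_of_notMem, Finset.card_insert_of_notMem,
      Finset.card_singleton]
    · simp only [Finset.mem_singleton]
      exact fun e => ha1 (mul_eq_right.1 (congrArg Subtype.val e).symm)
    · simp only [Finset.mem_insert, Finset.mem_singleton, not_or]
      exact ⟨fun e => hab (congrArg Subtype.val e), fun e => hb1 (mul_eq_left.1 (congrArg Subtype.val e).symm)⟩
    · simp only [Finset.mem_insert, Finset.mem_singleton, not_or]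
      exact ⟨fun e => ha1 (congrArg Subtype.val e).symm, fun e => hb1 (congrArg Subtype.val e).symm,
        fun e => hab1 (congrArg Subtype.val e).symm⟩
  have hall : s = Finset.univ := Finset.eq_univ_of_card s (by rw [hs, ← Nat.card_eq_fintype_card, h4])
  have hmem : (⟨x, hx⟩ : ↥Z) ∈ s := hall ▸ Finset.mem_univ _
  simp only [s, Finset.mem_insert, Finset.mem_singleton, Subtype.mk.injEq] at hmem
  exact hmem

variable {M T : Subgroup G}

/-- The part centralized by a component has index two. -/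
theorem fixZ_spec {K : Subgroup G} (hT : IsPGroup 2 T) (hK : IsJComponent T K) :
    2 * Nat.card ↥(fixZ T K) = Nat.card ↥(zOf T) ∧ zOf T ⊓ wOf K ≠ ⊥ := by
  obtain ⟨h2, hsup⟩ := center_split hT hK
  obtain ⟨k, d, -⟩ := exists_kgen hK.1 hK.2.2.1
  have hbot : fixZ T K ⊓ (zOf T ⊓ wOf K) = ⊥ := eq_bot_iff.2 fun x hx => by
    obtain ⟨h1, h3⟩ := Subgroup.mem_inf.1 hx
    refine Subgroup.mem_bot.2 (d.fpf (Subgroup.mem_inf.1 h3).2 ?_)
    rw [Subgroup.mem_centralizer_iff.1 (Subgroup.mem_inf.1 h1).2 k d.mem, mul_inv_cancel_right]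
  have hle : zOf T ≤ fixZ T K ⊔ (zOf T ⊓ wOf K) := by
    intro z hz
    have hz' := hsup.ge hz
    have h1 : omegaCenterOf (thompsonSubgroupOf 2 T) ⊓ ((K ⊔ thompsonSubgroupOf 2 T) ⊓
        Subgroup.centralizer ((K ⊔ thompsonSubgroupOf 2 T : Subgroup G) : Set G)) ≤ fixZ T K := fun x hx =>
      Subgroup.mem_inf.2 ⟨(Subgroup.mem_inf.1 hx).1, Subgroup.mem_centralizer_iff.2 fun g hg =>
        Subgroup.mem_centralizer_iff.1 (Subgroup.mem_inf.1 (Subgroup.mem_inf.1 hx).2).2 g (Subgroup.mem_sup_left hg)⟩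
    exact (sup_le (h1.trans le_sup_left) le_sup_right : _ ≤ fixZ T K ⊔ (zOf T ⊓ wOf K)) hz'
  have hn : zOf T ⊓ wOf K ≤ Subgroup.normalizer (fixZ T K : Set G) := fun x hx => by
    refine mem_normalizer_of_cj_le ?_
    rintro _ ⟨y, hy, rfl⟩
    show x * y * x⁻¹ ∈ fixZ T K
    rw [Local.elemAb_commute (omegaCenter_el _) (Subgroup.mem_inf.1 hx).1 (Subgroup.mem_inf.1 hy).1,
      mul_inv_cancel_right]
    exact hy
  have hset : ((fixZ T K : Subgroup G) : Set G) * ((zOf T ⊓ wOf K : Subgroup G) : Set G) = (zOf T : Set G) := by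
    rw [← Subgroup.coe_mul_of_right_le_normalizer_left _ _ hn]
    exact congrArg _ (le_antisymm (sup_le inf_le_left inf_le_left) hle)
  have hc := Solv.card_mul_set_mul_card_inf (fixZ T K) (zOf T ⊓ wOf K)
  rw [hset, hbot, Subgroup.card_bot, mul_one, h2, mul_comm] at hc
  exact ⟨hc.symm, fun hb => by rw [hb, Subgroup.card_bot] at h2; omega⟩

variable (c : Ctx M T) {K K' : Subgroup G}
include c

theorem Ctx.fixZ_inf (hK : IsJComponent T K) (hKM : ¬ K ≤ M) (hK' : IsJComponent T K') (hKM' : ¬ K' ≤ M)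
    (hne : locOf T K' ≠ locOf T K) : fixZ T K ⊓ fixZ T K' = ⊥ := by
  refine eq_bot_iff.2 fun u hu => Subgroup.mem_bot.2 ?_
  obtain ⟨⟨huZ, huK⟩, -, huK'⟩ := hu
  by_contra hu1
  have hX : IsTwoLocal (Subgroup.normalizer (Subgroup.zpowers u : Set G)) :=
    ⟨_, (isPGroup_elementary (omegaCenter_el _)).to_le (Subgroup.zpowers_le.2 huZ),
      fun hb => hu1 (Subgroup.zpowers_eq_bot.1 hb), rfl⟩
  have hcle : ∀ {x : G}, x * u = u * x → x ∈ Subgroup.normalizer (Subgroup.zpowers u : Set G) := fun {x} hx => by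
    rw [mem_normalizer_iff_cj, cj, MonoidHom.map_zpowers]
    show Subgroup.zpowers (x * u * x⁻¹) = _
    rw [hx, mul_inv_cancel_right]
  have hK1 : K ≤ Subgroup.normalizer (Subgroup.zpowers u : Set G) := fun x hx =>
    hcle (Subgroup.mem_centralizer_iff.1 huK x hx)
  have hK2 : K' ≤ Subgroup.normalizer (Subgroup.zpowers u : Set G) := fun x hx =>
    hcle (Subgroup.mem_centralizer_iff.1 huK' x hx)
  have hJ : thompsonSubgroupOf 2 T ≤ Subgroup.normalizer (Subgroup.zpowers u : Set G) := fun x hx =>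
    hcle (omegaCenter_comm huZ hx)
  refine hne (c.eq_loc hK' hKM' (c.loc_spec hK hKM).1 (sup_le ?_ (c.loc_spec hK hKM).2.2)).symm
  exact hK2.trans (c.le_loc hK hKM hX (sup_le hK1 hJ))

/-- With components in two maximal subgroups the centre of `J(T)` is small. -/
theorem Ctx.zOf_card_le (hK : IsJComponent T K) (hKM : ¬ K ≤ M) (hK' : IsJComponent T K') (hKM' : ¬ K' ≤ M)
    (hne : locOf T K' ≠ locOf T K) : Nat.card ↥(zOf T) ≤ 4 := by
  have h1 := set_card_le (inf_le_left : fixZ T K ≤ zOf T) (inf_le_left : fixZ T K' ≤ zOf T)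
  rw [c.fixZ_inf hK hKM hK' hKM' hne, Subgroup.card_bot, mul_one] at h1
  have h2 := (fixZ_spec c.pT hK).1
  have h3 := (fixZ_spec c.pT hK').1
  nlinarith [Nat.card_pos (α := ↥(fixZ T K))]

omit c [Fact (Nat.Prime 2)] in
theorem fixZ_conj {x : G} (hx : x ∈ Subgroup.normalizer (thompsonSubgroupOf 2 T : Set G)) (K : Subgroup G) :
    cj (fixZ T K) x = fixZ T (cj K x) := by
  rw [cj_inf, cj_centralizer, cj_eq_self (omegaCenter_norm hx)]

/-- A conjugate component in another maximal subgroup exists unless `T` is Sylow. -/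
theorem Ctx.two_of_growth (hK : IsJComponent T K) (hKM : ¬ K ≤ M) (h : Hy T (locOf T K)) {P : Subgroup G}
    (hP : IsPGroup 2 P) (hTP : T ≤ P) (hne : T ≠ P) :
    ∃ x ∈ P, x ∈ Subgroup.normalizer (T : Set G) ∧ x ∉ locOf T K ∧ IsJComponent T (cj K x) ∧ ¬ cj K x ≤ M ∧
      locOf T (cj K x) ≠ locOf T K := by
  obtain ⟨x, hx, hxT⟩ := SetLike.exists_of_lt (SylIn.normalizer_growth hTP hne hP)
  obtain ⟨hxP, hxN⟩ := Subgroup.mem_inf.1 hx
  have hxJ := normalizer_le_J T hxN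
  have hxL : x ∉ locOf T K := by
    intro hxL
    refine hxT ?_
    have e := h.syl.eq_of_le (hP.to_le (sup_le hTP (Subgroup.zpowers_le.2 hxP))) le_sup_left
      (sup_le h.T_le (Subgroup.zpowers_le.2 hxL))
    exact e ▸ Subgroup.mem_sup_right (Subgroup.mem_zpowers x)
  refine ⟨x, hxP, hxN, hxL, component_conj hK hxJ, c.conj_not_le hKM hxJ, fun he => hxL ?_⟩
  exact maximal_self_norm (c.loc_spec hK hKM).1 ((c.loc_conj hK hKM hxJ).trans he)

/-- With components in two maximal subgroups `T` normalizes the component. -/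
theorem Ctx.norm_of_two (hK : IsJComponent T K) (hKM : ¬ K ≤ M) (h : Hy T (locOf T K))
    (hK' : IsJComponent T K') (hKM' : ¬ K' ≤ M) (hne : locOf T K' ≠ locOf T K) :
    T ≤ Subgroup.normalizer (K : Set G) := by
  intro t ht
  rw [mem_normalizer_iff_cj]
  by_contra hmove
  set L := locOf T K
  obtain ⟨hLmax, hKL, hJL⟩ := c.loc_spec hK hKM
  have htJ := normalizer_le_J T (Subgroup.le_normalizer ht)
  set K₁ := cj K t
  have hK₁ : IsJComponent T K₁ := component_conj hK htJ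
  have hKM₁ : ¬ K₁ ≤ M := c.conj_not_le hKM htJ
  have hK₁L : K₁ ≤ L := (cj_mono hKL t).trans (cj_eq_self_of_mem (h.T_le ht)).le
  have hloc₁ : locOf T K₁ = L := (c.eq_loc hK₁ hKM₁ hLmax (sup_le hK₁L hJL)).symm
  obtain ⟨F⟩ := h.factors
  obtain ⟨k, E, d⟩ := component_in h F h rfl hK hKL
  obtain ⟨k₁, E₁, d₁⟩ := component_in h F h rfl hK₁ hK₁L
  have hdis : wOf K ⊓ wOf K₁ = ⊥ := by
    by_contra hb
    exact hmove (component_eq h F h rfl hK hKL h rfl hK₁ hK₁L hb).symm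
  -- `K` centralizes `W_{K₁}`
  have hcen : ∀ {K K₁ : Subgroup G} {k k₁ : G} {E E₁ : Subgroup G}, CompIn T L F K k E → CompIn T L F K₁ k₁ E₁ →
      K ≤ L → wOf K ⊓ wOf K₁ = ⊥ → wOf K₁ ≤ Subgroup.centralizer (K : Set G) := by
    intro K K₁ k k₁ E E₁ d d₁ hKL hdis w hw
    refine Subgroup.mem_centralizer_iff.2 fun g hg => (commutatorElement_eq_one_iff_mul_comm.1 ?_).symm
    have hwV : w ∈ vOf L :=
      (Subgroup.commutator_le.2 fun v hv x hx => (commutator_elem_mem hv (Hy.L_norm_V L (h.Y_le (d₁.leY hx)))).1)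
        (d₁.plane hw)
    rw [← Subgroup.mem_bot, ← hdis]
    exact ⟨d.comm_le (Subgroup.commutator_mem_commutator hwV hg),
      (commutator_elem_mem hw (wOf_norm_of (d₁.normal (Subgroup.mem_sup_left (d.leY hg))))).1⟩
  obtain ⟨z₁, hz₁, hz₁1⟩ := (zOf T ⊓ wOf K₁).bot_or_exists_ne_one.resolve_left (fixZ_spec c.pT hK₁).2
  obtain ⟨z, hz, hz1⟩ := (zOf T ⊓ wOf K).bot_or_exists_ne_one.resolve_left (fixZ_spec c.pT hK).2
  have hzK : z₁ ∈ fixZ T K :=
    Subgroup.mem_inf.2 ⟨(Subgroup.mem_inf.1 hz₁).1, hcen d d₁ hKL hdis (Subgroup.mem_inf.1 hz₁).2⟩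
  have hzK₁ : z ∈ fixZ T K₁ :=
    Subgroup.mem_inf.2 ⟨(Subgroup.mem_inf.1 hz).1,
      hcen d₁ d hK₁L (by rw [inf_comm]; exact hdis) (Subgroup.mem_inf.1 hz).2⟩
  have hzne : z₁ ≠ z := fun e => hz1 (Subgroup.mem_bot.1 (hdis ▸
    Subgroup.mem_inf.2 ⟨(Subgroup.mem_inf.1 hz).2, e ▸ (Subgroup.mem_inf.1 hz₁).2⟩))
  have hcard : Nat.card ↥(zOf T) = 4 := by
    refine le_antisymm (c.zOf_card_le hK hKM hK' hKM' hne) ?_
    rw [← (fixZ_spec c.pT hK).1]
    have : 1 < Nat.card ↥(fixZ T K) :=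
      Subgroup.one_lt_card_iff_ne_bot _ |>.2 fun hb => hz₁1 (Subgroup.mem_bot.1 (hb ▸ hzK))
    omega
  have hfour := four_cases (omegaCenter_el _) hcard (Subgroup.mem_inf.1 hzK).1 (Subgroup.mem_inf.1 hzK₁).1 hz₁1 hz1 hzne
  have hthird : ∀ {K'' : Subgroup G}, IsJComponent T K'' → ¬ K'' ≤ M → locOf T K'' ≠ L →
      ∀ e ∈ fixZ T K'', e ≠ 1 → e = z₁ * z := by
    intro K'' h1 h2 h3 e he he1
    rcases hfour e (Subgroup.mem_inf.1 he).1 with e1 | e1 | e1 | e1
    · exact absurd e1 he1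
    · exact absurd (Subgroup.mem_bot.1 (c.fixZ_inf hK hKM h1 h2 h3 ▸
        Subgroup.mem_inf.2 ⟨e1 ▸ hzK, he⟩)) he1
    · exact absurd (Subgroup.mem_bot.1 (c.fixZ_inf hK₁ hKM₁ h1 h2 (hloc₁.symm ▸ h3) ▸
        Subgroup.mem_inf.2 ⟨e1 ▸ hzK₁, he⟩)) he1
    · exact e1
  obtain ⟨P, hP⟩ := c.pT.exists_le_sylow
  rcases eq_or_ne T (P : Subgroup G) with hTP | hTP
  · obtain ⟨e, he, he1⟩ := (fixZ T K').bot_or_exists_ne_one.resolve_left fun hb => by
      have h4 := (fixZ_spec c.pT hK').1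
      rw [hb, Subgroup.card_bot, hcard] at h4
      omega
    have het := hthird hK' hKM' hne e he he1
    have htz : t * z₁ * t⁻¹ = z := by
      have h1 : t * z₁ * t⁻¹ ∈ fixZ T K₁ := by
        show _ ∈ fixZ T (cj K t)
        rw [← fixZ_conj htJ]; exact conj_mem_cj hzK
      have h2 := (fixZ_spec c.pT hK₁).1
      rw [hcard] at h2
      obtain ⟨g, -, -, hg⟩ := exists_gen (show Nat.card ↥(fixZ T K₁) = 2 by omega)
      rcases hg _ h1 with e1 | e1
      · exact absurd (conj_eq_one_iff.1 e1) hz₁1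
      · rcases hg _ hzK₁ with e2 | e2
        · exact absurd e2 hz1
        · rw [e1, e2]
    have hcen' : K' ≤ Subgroup.centralizer (omegaCenterOf T : Set G) := fun g hg => by
      refine Subgroup.mem_centralizer_iff.2 fun w hw => ?_
      have htw : t * w * t⁻¹ = w := by rw [omegaCenter_comm hw ht, mul_inv_cancel_right]
      rcases hfour w (omega_le_zOf T hw) with e1 | e1 | e1 | e1
      · rw [e1, one_mul, mul_one]
      · exact absurd (by rw [e1, htz] at htw; exact htw.symm) hzne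
      · have h1 : t * z * t⁻¹ = t * z₁ * t⁻¹ := by rw [htz, ← e1, htw]
        exact absurd (mul_left_cancel (mul_right_cancel h1)).symm hzne
      · rw [e1, ← het]; exact (Subgroup.mem_centralizer_iff.1 (Subgroup.mem_inf.1 he).2 g hg).symm
    refine hKM' (fun g hg => c.norm (normalizer_le_J T ?_))
    rw [hTP]
    exact c.amb.cen P (hTP ▸ hcen' hg)
  · obtain ⟨x, -, hxN, -, hKx, hKxM, hKxne⟩ := c.two_of_growth hK hKM h P.isPGroup' hP hTP
    have hxJ := normalizer_le_J T hxN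
    have hK₁x : locOf T (cj K₁ x) ≠ L := by
      rw [← c.loc_conj hK₁ hKM₁ hxJ, hloc₁, c.loc_conj hK hKM hxJ]; exact hKxne
    have e1 := hthird hKx hKxM hKxne (x * z₁ * x⁻¹) (fixZ_conj hxJ K ▸ conj_mem_cj hzK)
      (fun e => hz₁1 (conj_eq_one_iff.1 e))
    have e2 := hthird (component_conj hK₁ hxJ) (c.conj_not_le hKM₁ hxJ) hK₁x (x * z * x⁻¹)
      (fixZ_conj hxJ K₁ ▸ conj_mem_cj hzK₁) (fun e => hz1 (conj_eq_one_iff.1 e))
    exact hzne (mul_left_cancel (mul_right_cancel (e1.trans e2.symm)))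

end Cfsg.Agent.JComp
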