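import Cfsg.Agent.Lib.JComp.Straddle

/-!
# The maximal two-local subgroup above a component
-/

set_option autoImplicit false
set_option linter.style.haveILetI false

open Cfsg
open scoped commutatorElement

namespace Cfsg.Agent.JComp

open Cfsg.Agent.Fusion

universe u

variable {G : Type u} [Group G] [Finite G] [Fact (Nat.Prime 2)]

/-- The group generated by the four-groups of the components in `X`. -/
abbrev wSup (T X : Subgroup G) : Subgroup G :=
  ⨆ (K : Subgroup G) (_ : IsJComponent T K ∧ K ≤ X), wOf K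

/-- The maximal two-local subgroup above the component `K`. -/
abbrev locOf (T K : Subgroup G) : Subgroup G :=
  Subgroup.normalizer (wSup T (Subgroup.normalizer (wOf K : Set G)) : Set G)

omit [Fact (Nat.Prime 2)] in
theorem exists_maximal_twoLocal {X : Subgroup G} (hX : IsTwoLocal X) :
    ∃ L, IsMaximalTwoLocal L ∧ X ≤ L := by
  obtain ⟨L, ⟨hL, hXL⟩, hmax⟩ := Set.exists_max_image {L : Subgroup G | IsTwoLocal L ∧ X ≤ L}
    (fun L : Subgroup G => Nat.card L) (Set.toFinite _) ⟨X, hX, le_rfl⟩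
  exact ⟨L, ⟨hL, fun N hN hLN => (Subgroup.eq_of_le_of_card_ge hLN (hmax N ⟨hN, hXL.trans hLN⟩)).symm⟩, hXL⟩

omit [Fact (Nat.Prime 2)] in
theorem maximal_eq_norm {L X : Subgroup G} (hL : IsMaximalTwoLocal L) (hX : IsPGroup 2 X) (hX1 : X ≠ ⊥)
    (h : L ≤ Subgroup.normalizer (X : Set G)) : Subgroup.normalizer (X : Set G) = L :=
  hL.2 _ ⟨X, hX, hX1, rfl⟩ h

omit [Finite G] [Fact (Nat.Prime 2)] in
theorem isTwoLocal_cj {L : Subgroup G} (hL : IsTwoLocal L) (g : G) : IsTwoLocal (cj L g) := by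
  obtain ⟨P, hP, hP1, rfl⟩ := hL
  exact ⟨cj P g, isPGroup_cj hP g, fun hb => hP1 ((Subgroup.map_eq_bot_iff_of_injective _
    (MulAut.conj g).injective).1 hb), cj_normalizer P g⟩

omit [Fact (Nat.Prime 2)] in
theorem isMaximalTwoLocal_cj {L : Subgroup G} (hL : IsMaximalTwoLocal L) (g : G) : IsMaximalTwoLocal (cj L g) :=
  ⟨isTwoLocal_cj hL.1 g, fun N hN hle => by
    have h := hL.2 (cj N g⁻¹) (isTwoLocal_cj hN _) (by rw [← cj_cj_inv L g]; exact cj_mono hle _)
    rw [← h, cj_inv_cj]⟩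

theorem maximal_self_norm {L : Subgroup G} (hL : IsMaximalTwoLocal L) {g : G} (h : cj L g = L) : g ∈ L := by
  obtain ⟨P, hP, hP1, hLP⟩ := hL.1
  have hQ : pCoreOf 2 L ≠ ⊥ := fun hb => hP1 (le_bot_iff.1 (hb ▸ le_pCoreOf (hLP ▸ Subgroup.le_normalizer) hP
    hLP.le))
  rw [← maximal_eq_norm hL (isPGroup_pCoreOf L) hQ (le_normalizer_pCoreOf L), mem_normalizer_iff_cj, pCoreOf_cj, h]

omit [Fact (Nat.Prime 2)] in
theorem wSup_norm {T X : Subgroup G} {g : G} (hg : ∀ K, IsJComponent T K → K ≤ X → g ∈ Subgroup.normalizer (K : Set G))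
    (hw : ∀ K : Subgroup G, g ∈ Subgroup.normalizer (K : Set G) → g ∈ Subgroup.normalizer (wOf K : Set G)) :
    g ∈ Subgroup.normalizer (wSup T X : Set G) := by
  refine mem_normalizer_of_cj_le ?_
  rw [wSup, cj, Subgroup.map_iSup]
  refine iSup_le fun K => ?_
  rw [Subgroup.map_iSup]
  exact iSup_le fun hK => le_iSup₂_of_le K hK (cj_eq_self (hw K (hg K hK.1 hK.2))).le

/-- The setting of a maximal straddling subgroup. -/
structure Ctx (M T : Subgroup G) : Prop where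
  amb : Amb G
  core : pCore 2 G = ⊥
  max : T ∈ maxStraddlingTwoSubgroups M
  sub : ∃ S : Sylow 2 G, Subgroup.normalizer (thompsonSubgroupOf 2 (S : Subgroup G) : Set G) ≤ M

variable {M T : Subgroup G} (c : Ctx M T)
include c

omit [Finite G] [Fact (Nat.Prime 2)] in
theorem Ctx.pT : IsPGroup 2 T := c.max.1.1

theorem Ctx.J_ne : thompsonSubgroupOf 2 T ≠ ⊥ := J_ne_bot c.pT c.max.1.2.1

omit [Fact (Nat.Prime 2)] in
theorem Ctx.pJ : IsPGroup 2 (thompsonSubgroupOf 2 T) := c.pT.to_le (J_le T)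

theorem Ctx.norm : Subgroup.normalizer (thompsonSubgroupOf 2 T : Set G) ≤ M := by
  obtain ⟨S, hS⟩ := c.sub
  exact normalizer_J_le hS c.max

theorem Ctx.main {L : Subgroup G} (hL : IsTwoLocal L) (hLM : ¬ L ≤ M) {T₀ : Subgroup G} (hT₀ : IsSylowTwoIn T₀ L)
    (hJ : thompsonSubgroupOf 2 T ≤ T₀) :
    thompsonSubgroupOf 2 T = thompsonSubgroupOf 2 T₀ ∧ T₀ ∈ straddlingTwoSubgroups M ∧
      Hy T₀ L ∧ (T ≤ L → Hy T L) := by
  obtain ⟨S, hS⟩ := c.sub
  exact straddle_main c.amb hS c.max hL hLM hT₀ hJ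

/-- The set-up in a two-local overgroup of `J(T)` outside `M`. -/
theorem Ctx.overgroup {L : Subgroup G} (hL : IsTwoLocal L) (hLM : ¬ L ≤ M) (hJ : thompsonSubgroupOf 2 T ≤ L) :
    ∃ T₀, Hy T₀ L ∧ thompsonSubgroupOf 2 T₀ = thompsonSubgroupOf 2 T := by
  obtain ⟨T₀, hT₀, hle⟩ := exists_sylIn_ge c.pJ hJ
  obtain ⟨e, -, h, -⟩ := c.main hL hLM (isSylowTwoIn_of_sylIn hT₀) hle
  exact ⟨T₀, h, e.symm⟩

/-- The four-groups of the components in a two-local overgroup generate a normal `2`-subgroup. -/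
theorem Ctx.wSup_spec {L : Subgroup G} (hL : IsTwoLocal L) (hLM : ¬ L ≤ M) (hJ : thompsonSubgroupOf 2 T ≤ L) :
    L ≤ Subgroup.normalizer (wSup T L : Set G) ∧ wSup T L ≤ vOf L := by
  obtain ⟨T₀, h, e⟩ := c.overgroup hL hLM hJ
  obtain ⟨F⟩ := h.factors
  constructor
  · intro a ha
    refine mem_normalizer_of_cj_le ?_
    rw [wSup, cj, Subgroup.map_iSup]
    refine iSup_le fun K => ?_
    rw [Subgroup.map_iSup]
    refine iSup_le fun hK => ?_
    rw [show (wOf K).map (MulAut.conj a).toMonoidHom = cj (wOf K) a from rfl, wOf_cj]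
    have hle : cj K a ≤ L := (cj_mono hK.2 a).trans (cj_eq_self_of_mem ha).le
    exact le_iSup₂_of_le (cj K a) ⟨component_congr e (component_base h F ha
      (component_cj (component_congr e.symm hK.1) a) hle), hle⟩ le_rfl
  · refine iSup₂_le fun K hK => ?_
    obtain ⟨k, E, d⟩ := component_in h F h rfl (component_congr e.symm hK.1) hK.2
    refine d.plane.trans (Subgroup.commutator_le.2 fun v hv g hg => ?_)
    exact (commutator_elem_mem hv (Hy.L_norm_V L (hK.2 hg))).1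

variable {K : Subgroup G} (hK : IsJComponent T K) (hKM : ¬ K ≤ M)
include hK hKM

omit c hKM in
theorem component_norm_W : K ⊔ thompsonSubgroupOf 2 T ≤ Subgroup.normalizer (wOf K : Set G) :=
  sup_le (fun _ hx => wOf_norm_of (Subgroup.le_normalizer hx)) fun _ hx => wOf_norm_of (J_norm_component hK hx)

omit c hKM in
theorem component_twoLocal : IsTwoLocal (Subgroup.normalizer (wOf K : Set G)) :=
  ⟨wOf K, isPGroup_elementary wOf_el, wOf_ne_bot hK, rfl⟩

/-- The maximal two-local subgroup above a component outside `M` is unique. -/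
theorem Ctx.eq_loc {L : Subgroup G} (hL : IsMaximalTwoLocal L) (hle : K ⊔ thompsonSubgroupOf 2 T ≤ L) :
    L = locOf T K := by
  obtain ⟨hKL, hJL⟩ := sup_le_iff.1 hle
  have hLM : ¬ L ≤ M := fun h' => hKM (hKL.trans h')
  obtain ⟨hn, hV⟩ := c.wSup_spec hL.1 hLM hJL
  have hne : wSup T L ≠ ⊥ := fun hb => wOf_ne_bot hK (le_bot_iff.1 (hb ▸ le_iSup₂_of_le K ⟨hK, hKL⟩ le_rfl))
  have hp : IsPGroup 2 (wSup T L) := (isPGroup_elementary (omegaCenter_el _)).to_le hV
  have hLN := maximal_eq_norm hL hp hne hn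
  set X := Subgroup.normalizer (wOf K : Set G)
  obtain ⟨hKX, hJX⟩ := sup_le_iff.1 (component_norm_W hK)
  obtain ⟨T₀, h, e⟩ := c.overgroup hL.1 hLM hJL
  obtain ⟨F⟩ := h.factors
  obtain ⟨k, E, d⟩ := component_in h F h rfl (component_congr e.symm hK) hKL
  obtain ⟨T₁, h₁, e₁⟩ := c.overgroup (component_twoLocal hK) (fun h' => hKM (hKX.trans h')) hJX
  obtain ⟨F₁⟩ := h₁.factors
  have hsub : ∀ K', IsJComponent T K' → K' ≤ L → K' ≤ X := by
    intro K' hK' hK'L
    obtain ⟨k', E', d'⟩ := component_in h F h rfl (component_congr e.symm hK') hK'L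
    exact fun x hx => wOf_norm_of (d.normal (Subgroup.mem_sup_left (d'.leY hx)))
  have hsup : ∀ K', IsJComponent T K' → K' ≤ X → K' ≤ L := by
    intro K' hK' hK'X
    rw [← hLN]
    intro x hx
    refine wSup_norm (fun K'' hK'' hle'' => ?_) fun _ hg => wOf_norm_of hg
    obtain ⟨k', E', d'⟩ := component_in h₁ F₁ h₁ rfl (component_congr e₁.symm hK') hK'X
    obtain ⟨k'', E'', d''⟩ := component_in h₁ F₁ h₁ rfl (component_congr e₁.symm hK'') (hsub K'' hK'' hle'')
    exact d''.normal (Subgroup.mem_sup_left (d'.leY hx))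
  have heq : wSup T L = wSup T X :=
    le_antisymm (iSup₂_le fun K' hK' => le_iSup₂_of_le K' ⟨hK'.1, hsub K' hK'.1 hK'.2⟩ le_rfl)
      (iSup₂_le fun K' hK' => le_iSup₂_of_le K' ⟨hK'.1, hsup K' hK'.1 hK'.2⟩ le_rfl)
  rw [← hLN, heq]

theorem Ctx.loc_spec : IsMaximalTwoLocal (locOf T K) ∧ K ≤ locOf T K ∧ thompsonSubgroupOf 2 T ≤ locOf T K := by
  obtain ⟨L, hL, hXL⟩ := exists_maximal_twoLocal (component_twoLocal hK)
  obtain rfl := c.eq_loc hK hKM hL ((component_norm_W hK).trans hXL)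
  exact ⟨hL, sup_le_iff.1 ((component_norm_W hK).trans hXL)⟩

/-- Every two-local subgroup above `K J(T)` lies in it. -/
theorem Ctx.le_loc {X : Subgroup G} (hX : IsTwoLocal X) (hle : K ⊔ thompsonSubgroupOf 2 T ≤ X) :
    X ≤ locOf T K := by
  obtain ⟨L, hL, hXL⟩ := exists_maximal_twoLocal hX
  rw [← c.eq_loc hK hKM hL (hle.trans hXL)]
  exact hXL

theorem Ctx.norm_W_le : Subgroup.normalizer (wOf K : Set G) ≤ locOf T K :=
  c.le_loc hK hKM (component_twoLocal hK) (component_norm_W hK)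

omit hKM in
theorem Ctx.zero_of (hKM : ¬ K ≤ M) : K ∈ jComponentsZero T :=
  ⟨hK, fun S hJS hS => (c.main (component_twoLocal hK) (fun h' => hKM
    (((le_sup_left).trans (component_norm_W hK)).trans h')) hS hJS).1.symm⟩

omit c hKM in
theorem component_conj {x : G} (hx : x ∈ Subgroup.normalizer (thompsonSubgroupOf 2 T : Set G)) :
    IsJComponent T (cj K x) :=
  component_congr (by rw [← thompson_cj, cj_eq_self hx]) (component_cj hK x)

omit hK in
theorem Ctx.conj_not_le {x : G} (hx : x ∈ Subgroup.normalizer (thompsonSubgroupOf 2 T : Set G)) :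
    ¬ cj K x ≤ M := fun hle => hKM (by
  rw [← cj_cj_inv K x]
  exact (cj_mono hle _).trans (cj_eq_self_of_mem (inv_mem (c.norm hx))).le)

theorem Ctx.loc_conj {x : G} (hx : x ∈ Subgroup.normalizer (thompsonSubgroupOf 2 T : Set G)) :
    cj (locOf T K) x = locOf T (cj K x) := by
  obtain ⟨hL, hKL, hJL⟩ := c.loc_spec hK hKM
  refine c.eq_loc (component_conj hK hx) (c.conj_not_le hKM hx) (isMaximalTwoLocal_cj hL x) (sup_le (cj_mono hKL x) ?_)
  rw [← cj_eq_self hx]
  exact cj_mono hJL x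

/-- A component outside `M` generating with `T` a group with nontrivial core has `T` as a Sylow subgroup above it. -/
theorem Ctx.outside_hy (hcore : pCoreOf 2 (K ⊔ T) ≠ ⊥) : Hy T (locOf T K) := by
  obtain ⟨hL, hKL, hJL⟩ := c.loc_spec hK hKM
  have hX : IsTwoLocal (Subgroup.normalizer (pCoreOf 2 (K ⊔ T) : Set G)) := ⟨_, isPGroup_pCoreOf _, hcore, rfl⟩
  obtain ⟨hK', hT'⟩ := sup_le_iff.1 (le_normalizer_pCoreOf (K ⊔ T))
  have hTL : T ≤ locOf T K := hT'.trans (c.le_loc hK hKM hX (sup_le hK' ((J_le T).trans hT')))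
  obtain ⟨T₁, hT₁, hle⟩ := exists_sylIn_ge c.pT hTL
  exact (c.main hL.1 (fun h' => hKM (hKL.trans h')) (isSylowTwoIn_of_sylIn hT₁) ((J_le T).trans hle)).2.2.2 hTL

end Cfsg.Agent.JComp
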