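import Cfsg.Agent.Lib.JComp.Side

/-!
# Two components and an offender in one of the two subgroups of index two
-/

set_option autoImplicit false
set_option linter.style.haveILetI false

open Cfsg
open scoped commutatorElement

namespace Cfsg.Agent.JComp

open Cfsg.Agent.Fusion

universe u

variable {G : Type u} [Group G] [Finite G] [Fact (Nat.Prime 2)]

omit [Fact (Nat.Prime 2)] in
theorem card_reps {ι : Type} [Finite ι] {H X : Subgroup G} (hle : H ≤ X) (f : ι → G) (hf : ∀ i, f i ∈ X)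
    (hinj : ∀ i j, (f i)⁻¹ * f j ∈ H → i = j) : Nat.card ι * Nat.card H ≤ Nat.card X := by
  rw [← Nat.card_prod]
  refine Nat.card_le_card_of_injective (fun p : ι × ↥H => (⟨f p.1 * p.2, mul_mem (hf _) (hle p.2.2)⟩ : ↥X)) ?_
  rintro ⟨i, a⟩ ⟨j, b⟩ h
  have e : f i * a = f j * b := congrArg Subtype.val h
  obtain rfl : i = j := hinj i j (by
    rw [show (f i)⁻¹ * f j = (a : G) * (b : G)⁻¹ by
      calc (f i)⁻¹ * f j = (f i)⁻¹ * (f j * b) * (b : G)⁻¹ := by group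
        _ = _ := by rw [← e]; group]
    exact mul_mem a.2 (inv_mem b.2))
  rw [Subtype.ext (mul_left_cancel e)]

variable {M T K₁ K₂ : Subgroup G} (c : Ctx M T) (s₁ : Side M T K₁) (s₂ : Side M T K₂)
include c s₁ s₂

theorem Ctx.q_ne (hne : locOf T K₂ ≠ locOf T K₁) : ¬ qOf T K₂ ≤ qOf T K₁ := by
  intro hle
  have e : qOf T K₂ = qOf T K₁ := by
    refine Subgroup.eq_of_le_of_card_ge hle (le_of_eq ?_)
    have h1 := card_mul_relIndex_of_le (inf_le_left : qOf T K₁ ≤ T)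
    have h2 := card_mul_relIndex_of_le (inf_le_left : qOf T K₂ ≤ T)
    rw [s₁.relIndex_q c] at h1
    rw [s₂.relIndex_q c, ← h1] at h2
    exact (Nat.eq_of_mul_eq_mul_right two_pos h2).symm
  have hX : IsTwoLocal (Subgroup.normalizer (qOf T K₁ : Set G)) :=
    ⟨_, c.pT.to_inf_left, fun hb => wOf_ne_bot s₁.comp (le_bot_iff.1 (hb ▸ s₁.w_le_q c)), rfl⟩
  refine c.no_common s₁.comp s₁.notM s₂.comp s₂.notM hne hX
    ((sup_le_sup_left (J_le T) _).trans (s₁.q_norm c)) ?_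
  rw [← e]
  exact le_sup_left.trans (s₂.q_norm c)

/-- The configuration: `W₁` inside `C(W₂)` and an offender centralizing `W₁` but not `W₂`. -/
structure Conf (T K₁ K₂ : Subgroup G) (A : Subgroup G) (k z w a : G) : Prop where
  gen : KGen K₂ k
  zZ : z ∈ zOf T
  zW : z ∈ wOf K₁
  z1 : z ≠ 1
  wW : w ∈ wOf K₁
  mx : A ∈ mx T
  le : A ≤ qOf T K₁
  memA : a ∈ A
  nota : a ∉ qOf T K₂
  comm : wOf K₁ ≤ qOf T K₂
  act : ∀ t ∈ T, t ∉ qOf T K₁ → t * w * t⁻¹ = z * w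
  cube : k ^ 3 = 1

omit c s₁ s₂ in
/-- The group centralized by `C_T(W₂)`. -/
abbrev eOf (T K₂ : Subgroup G) : Subgroup G := wOf K₂ ⊔ zOf T

theorem Ctx.e_spec : El (eOf T K₂) ∧ eOf T K₂ ≤ qOf T K₂ ∧
    (∀ q ∈ qOf T K₂, ∀ e ∈ eOf T K₂, q * e = e * q) ∧ K₂ ⊔ T ≤ Subgroup.normalizer (eOf T K₂ : Set G) := by
  have _ := s₁
  have hle : eOf T K₂ ≤ qOf T K₂ := sup_le (s₂.w_le_q c) (s₂.zOf_le_q c)
  have hc : ∀ q ∈ qOf T K₂, ∀ e ∈ eOf T K₂, q * e = e * q := fun q hq e he =>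
    (Subgroup.mem_centralizer_singleton_iff.1 ((sup_le (fun x hx => Subgroup.mem_centralizer_singleton_iff.2
      (Subgroup.mem_centralizer_iff.1 (Subgroup.mem_inf.1 hq).2 x hx))
      (fun x hx => Subgroup.mem_centralizer_singleton_iff.2 (s₂.z_central c hx (Subgroup.mem_inf.1 hq).1).symm) :
      eOf T K₂ ≤ Subgroup.centralizer {q}) he)).symm
  refine ⟨Local.elemAb_sup wOf_el (omegaCenter_el _) (fun a ha b hb =>
    hc a (s₂.w_le_q c ha) b (Subgroup.mem_sup_right hb)), hle, hc, sup_le (fun g hg => ?_) (fun t ht => ?_)⟩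
  · refine mem_normalizer_of_cj_le ?_
    rw [eOf, cj_sup, cj_eq_self (wOf_norm hg)]
    refine sup_le le_sup_left ?_
    rintro _ ⟨x, hx, rfl⟩
    obtain ⟨-, hsup⟩ := center_split c.pT s₂.comp
    obtain ⟨f, hf, l, hl, rfl⟩ := (mem_sup_iff_mul (show zOf T ⊓ wOf K₂ ≤ Subgroup.normalizer
      ((zOf T ⊓ ((K₂ ⊔ thompsonSubgroupOf 2 T) ⊓
        Subgroup.centralizer ((K₂ ⊔ thompsonSubgroupOf 2 T : Subgroup G) : Set G)) : Subgroup G) : Set G) from
      fun y hy => mem_normalizer_of_cj_le (by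
        rintro _ ⟨f, hf, rfl⟩
        show y * f * y⁻¹ ∈ _
        rw [Local.elemAb_commute (omegaCenter_el _) (Subgroup.mem_inf.1 hy).1 (Subgroup.mem_inf.1 hf).1,
          mul_inv_cancel_right]
        exact hf))).1 (hsup.ge hx)
    show g * (f * l) * g⁻¹ ∈ eOf T K₂
    rw [show g * (f * l) * g⁻¹ = (g * f * g⁻¹) * (g * l * g⁻¹) by group,
      Subgroup.mem_centralizer_iff.1 (Subgroup.mem_inf.1 (Subgroup.mem_inf.1 hf).2).2 g (Subgroup.mem_sup_left hg),
      mul_inv_cancel_right]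
    exact mul_mem (Subgroup.mem_sup_right (Subgroup.mem_inf.1 hf).1)
      (Subgroup.mem_sup_left ((Subgroup.mem_normalizer_iff.1 (wOf_norm hg) l).1 (Subgroup.mem_inf.1 hl).2))
  · rw [mem_normalizer_iff_cj, eOf, cj_sup, cj_eq_self (wOf_norm_of (s₂.norm c ht)),
      cj_eq_self (omegaCenter_norm (normalizer_le_J T (Subgroup.le_normalizer ht)))]

theorem Ctx.conf_exists (hc : wOf K₁ ≤ qOf T K₂) {A : Subgroup G} (hA : A ∈ mx T) (h1 : A ≤ qOf T K₁)
    (h2 : ¬ A ≤ qOf T K₂) : ∃ k z w a, Conf T K₁ K₂ A k z w a := by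
  obtain ⟨k₁, z, w, -, -, -, -, hzZ, hzW, hz1, -, hwW, -, -, -, -, -, hswap, -⟩ := s₁.frame c
  obtain ⟨k, z', w', d, -⟩ := s₂.frame c
  obtain ⟨a, ha, haQ⟩ := SetLike.not_le_iff_exists.1 h2
  exact ⟨k, z, w, a, d, hzZ, hzW, hz1, hwW, hA, h1, ha, haQ, hc, hswap, d.cube⟩

variable {A : Subgroup G} {k z w a : G} (cf : Conf T K₁ K₂ A k z w a)
include cf

theorem Ctx.conf_conj (i : ℕ) : k ^ i * w * (k ^ i)⁻¹ ∈ qOf T K₂ ∧ k ^ i * z * (k ^ i)⁻¹ ∈ eOf T K₂ ∧
    ∀ q ∈ qOf T K₂, q * (k ^ i * w * (k ^ i)⁻¹) * q⁻¹ = k ^ i * w * (k ^ i)⁻¹ ∨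
      q * (k ^ i * w * (k ^ i)⁻¹) * q⁻¹ = k ^ i * z * (k ^ i)⁻¹ * (k ^ i * w * (k ^ i)⁻¹) := by
  have hkq : k ∈ Subgroup.normalizer (qOf T K₂ : Set G) := s₂.q_norm c (Subgroup.mem_sup_left cf.gen.mem)
  refine ⟨(Subgroup.mem_normalizer_iff.1 (pow_mem hkq i) w).1 (cf.comm cf.wW),
    (Subgroup.mem_normalizer_iff.1 (pow_mem ((c.e_spec s₁ s₂).2.2.2 (Subgroup.mem_sup_left cf.gen.mem)) i) z).1
      (Subgroup.mem_sup_right cf.zZ), fun q hq => ?_⟩
  set g := k ^ i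
  set q' := g⁻¹ * q * g
  have hq' : q' ∈ qOf T K₂ := by simpa using (Subgroup.mem_normalizer_iff.1 (inv_mem (pow_mem hkq i)) q).1 hq
  have e : q * (g * w * g⁻¹) * q⁻¹ = g * (q' * w * q'⁻¹) * g⁻¹ := by simp only [q']; group
  rw [e]
  by_cases h : q' ∈ qOf T K₁
  · left
    rw [← Subgroup.mem_centralizer_iff.1 (Subgroup.mem_inf.1 h).2 w cf.wW, mul_inv_cancel_right]
  · right
    rw [cf.act q' (Subgroup.mem_inf.1 hq').1 h]; group

theorem Ctx.conf_commute (hz : k * z * k⁻¹ ≠ z) (i : ℕ) (hi : i = 1 ∨ i = 2) :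
    Commute w (k ^ i * w * (k ^ i)⁻¹) := by
  obtain ⟨hw', -, hact⟩ := c.conf_conj s₁ s₂ cf i
  set w' := k ^ i * w * (k ^ i)⁻¹
  set z' := k ^ i * z * (k ^ i)⁻¹
  obtain ⟨-, -, hact₀⟩ := c.conf_conj s₁ s₂ cf 0
  simp only [pow_zero, one_mul, inv_one, mul_one] at hact₀
  rcases hact w (cf.comm cf.wW) with e | e
  · exact mul_inv_eq_iff_eq_mul.1 e
  rcases hact₀ w' hw' with e' | e'
  · exact (mul_inv_eq_iff_eq_mul.1 e').symm
  exfalso
  have h1 : z' = z := by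
    calc z' = z' * w' * w'⁻¹ := by group
      _ = ((w' * w * w'⁻¹) * w⁻¹)⁻¹ := by rw [← e]; group
      _ = z⁻¹ := by rw [e', mul_inv_cancel_right]
      _ = z := El.inv_eq (omegaCenter_el _) cf.zZ
  refine hz ?_
  rcases hi with rfl | rfl
  · simpa [z'] using h1
  · calc k * z * k⁻¹ = k * (k ^ 2 * z * (k ^ 2)⁻¹) * k⁻¹ := by rw [show k ^ 2 * z * (k ^ 2)⁻¹ = z from h1]
      _ = k ^ 3 * z * (k ^ 3)⁻¹ := by group
      _ = z := by rw [cf.cube, one_mul, inv_one, mul_one]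

/-- An abelian configuration with independent conjugates is impossible. -/
theorem Ctx.conf_measure (hab : ∀ i, i = 1 ∨ i = 2 → Commute w (k ^ i * w * (k ^ i)⁻¹))
    (hdim : w⁻¹ * (k * w * k⁻¹) ∉ eOf T K₂)
    (hz : k * z * k⁻¹ ≠ z ∨ ∀ r ∈ A ⊓ qOf T K₂, r * (k * w * k⁻¹) = k * w * k⁻¹ * r) : False := by
  classical
  obtain ⟨hEel, hEq, hEc, hEn⟩ := c.e_spec s₁ s₂
  set E := eOf T K₂
  obtain ⟨-, z', y, -, -, -, -, -, hz'W, hz'1, -, hyW, -, -, -, -, -, hswap₂, -⟩ := s₂.frame c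
  set w₁ := k * w * k⁻¹ with hw₁def
  set w₂ := k ^ 2 * w * (k ^ 2)⁻¹ with hw₂def
  set z₁ := k * z * k⁻¹ with hz₁def
  set z₂ := k ^ 2 * z * (k ^ 2)⁻¹ with hz₂def
  obtain ⟨hw₁q, hz₁E, hact₁⟩ := c.conf_conj s₁ s₂ cf 1
  obtain ⟨hw₂q, hz₂E, hact₂⟩ := c.conf_conj s₁ s₂ cf 2
  simp only [pow_one] at hw₁q hz₁E hact₁
  rw [← hw₁def] at hw₁q hact₁
  rw [← hz₁def] at hz₁E hact₁
  rw [← hw₂def] at hw₂q hact₂
  rw [← hz₂def] at hz₂E hact₂
  have hwq : w ∈ qOf T K₂ := cf.comm cf.wW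
  have hw2 : w ^ 2 = 1 := wOf_el.2 w cf.wW
  have c01 : Commute w w₁ := by have := hab 1 (Or.inl rfl); simpa [w₁] using this
  have c02 : Commute w w₂ := hab 2 (Or.inr rfl)
  have c12 : Commute w₁ w₂ := by
    have h : Commute (k * w * k⁻¹) (k * (k * w * k⁻¹) * k⁻¹) := by
      show (k * w * k⁻¹) * (k * (k * w * k⁻¹) * k⁻¹) = (k * (k * w * k⁻¹) * k⁻¹) * (k * w * k⁻¹)
      calc (k * w * k⁻¹) * (k * (k * w * k⁻¹) * k⁻¹) = k * (w * (k * w * k⁻¹)) * k⁻¹ := by group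
        _ = k * ((k * w * k⁻¹) * w) * k⁻¹ := by rw [c01.eq]
        _ = _ := by group
    rw [show k * (k * w * k⁻¹) * k⁻¹ = w₂ by rw [hw₂def, pow_two]; group] at h
    exact h
  have hkE : k ∈ Subgroup.normalizer (E : Set G) := hEn (Subgroup.mem_sup_left cf.gen.mem)
  have hw₁2 : w₁ ^ 2 = 1 := by rw [hw₁def, conj_pow, hw2, mul_one, mul_inv_cancel]
  have hw₂2 : w₂ ^ 2 = 1 := by rw [hw₂def, conj_pow, hw2, mul_one, mul_inv_cancel]
  have hinv : ∀ {g : G}, g ^ 2 = 1 → g⁻¹ = g := fun hg => inv_eq_of_mul_eq_one_left (by rw [← pow_two]; exact hg)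
  have hw₁E : w₁⁻¹ * w₂ ∉ E := fun h => hdim (by
    have h1 := (Subgroup.mem_normalizer_iff.1 (inv_mem hkE) _).1 h
    simpa [w₁, w₂, pow_two, mul_assoc] using h1)
  -- the elementary group
  set S : Set G := {w, w₁, w₂} ∪ (E : Set G)
  set X := Subgroup.closure S
  have hSq : ∀ x ∈ S, x ∈ qOf T K₂ := by
    rintro x ((rfl | rfl | rfl) | h)
    exacts [hwq, hw₁q, hw₂q, hEq h]
  have hXel : El X := Local.elemAb_closure _ (fun x hx y hy => by
    rcases hx with (rfl | rfl | rfl) | hx <;> rcases hy with (rfl | rfl | rfl) | hy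
    all_goals first
      | rfl
      | exact c01.eq | exact c01.eq.symm | exact c02.eq | exact c02.eq.symm | exact c12.eq | exact c12.eq.symm
      | exact hEc _ hwq _ hy | exact hEc _ hw₁q _ hy | exact hEc _ hw₂q _ hy
      | exact (hEc _ hwq _ hx).symm | exact (hEc _ hw₁q _ hx).symm | exact (hEc _ hw₂q _ hx).symm
      | exact Local.elemAb_commute hEel hx hy) (by
    rintro x ((rfl | rfl | rfl) | h)
    exacts [hw2, hw₁2, hw₂2, hEel.2 x h])
  have hXq : X ≤ qOf T K₂ := (Subgroup.closure_le _).2 hSq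
  have hsub : ∀ {x : G}, x ∈ S → x ∈ X := fun hx => Subgroup.subset_closure hx
  have hyX : y ∈ X := hsub (Or.inr (Subgroup.mem_sup_left hyW))
  have hw₁X : w₁ ∈ X := hsub (Or.inl (Or.inr (Or.inl rfl)))
  have hw₂X : w₂ ∈ X := hsub (Or.inl (Or.inr (Or.inr rfl)))
  -- the involution
  have haT : a ∈ T := cf.mx.1 cf.memA
  have ha2 : a ^ 2 = 1 := cf.mx.2.1.2 a cf.memA
  obtain ⟨p, hp, hap⟩ := s₂.invert c cf.gen haT cf.nota
  have haw : a * w * a⁻¹ = w := by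
    rw [← Subgroup.mem_centralizer_iff.1 (Subgroup.mem_inf.1 (cf.le cf.memA)).2 w cf.wW, mul_inv_cancel_right]
  have haz : a * z * a⁻¹ = z := by rw [s₁.z_central c cf.zZ haT, mul_inv_cancel_right]
  have hpq : p ∈ qOf T K₂ := by
    obtain ⟨_, _, _, d', -, -, hPQ, -⟩ := s₂.frame c
    exact hPQ hp
  have haz₁ : a * z₁ * a⁻¹ = z₂ := by
    calc a * z₁ * a⁻¹ = (a * k * a⁻¹) * (a * z * a⁻¹) * (a * k * a⁻¹)⁻¹ := by rw [hz₁def]; group
      _ = p * z₂ * p⁻¹ := by rw [hap, haz, hz₂def]; group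
      _ = z₂ := by rw [hEc p hpq z₂ hz₂E, mul_inv_cancel_right]
  have haw₁ : a * w₁ * a⁻¹ = p * w₂ * p⁻¹ := by
    calc a * w₁ * a⁻¹ = (a * k * a⁻¹) * (a * w * a⁻¹) * (a * k * a⁻¹)⁻¹ := by rw [hw₁def]; group
      _ = _ := by rw [hap, haw, hw₂def]; group
  obtain ⟨ζ, hζ, haw₁'⟩ : ∃ ζ ∈ E, a * w₁ * a⁻¹ = ζ * w₂ := by
    rcases hact₂ p hpq with e | e
    · exact ⟨1, one_mem E, by rw [haw₁, e, one_mul]⟩
    · exact ⟨z₂, hz₂E, by rw [haw₁, e]⟩
  have hay : a * y * a⁻¹ = z' * y := hswap₂ a haT cf.nota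
  have hfixa : ∀ {x : G}, x ∈ A → a * x * a⁻¹ = x := fun hx => by
    rw [Local.elemAb_commute cf.mx.2.1 cf.memA hx, mul_inv_cancel_right]
  have hmul : ∀ {g x y : G}, g * x * g⁻¹ * (g * y * g⁻¹) = g * (x * y) * g⁻¹ := fun {g x y} => by group
  have hz'E : z' ∈ E := Subgroup.mem_sup_left hz'W
  have hyE : y ∈ E := Subgroup.mem_sup_left hyW
  -- elements moved by `a`
  have hy1 : a * y * a⁻¹ ≠ y := fun e => hz'1 (mul_eq_right.1 (hay ▸ e))
  have hwe : ∀ e ∈ E, a * (w₁ * e) * a⁻¹ ≠ w₁ * e := by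
    intro e he h
    refine hw₁E ?_
    rw [← hmul, haw₁'] at h
    have hae : a * e * a⁻¹ ∈ E := (Subgroup.mem_normalizer_iff.1 (hEn (Subgroup.mem_sup_right haT)) e).1 he
    have e1 : w₂ = ζ⁻¹ * (w₁ * e) * (a * e * a⁻¹)⁻¹ := by rw [← h]; group
    rw [e1, show w₁⁻¹ * (ζ⁻¹ * (w₁ * e) * (a * e * a⁻¹)⁻¹) = (w₁⁻¹ * (ζ⁻¹ * w₁)) * e * (a * e * a⁻¹)⁻¹ by group,
      ← hEc w₁ hw₁q ζ⁻¹ (inv_mem hζ), inv_mul_cancel_left]
    exact mul_mem (mul_mem (inv_mem hζ) he) (inv_mem hae)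
  have hw2e : ∀ e ∈ E, a * (w₂ * e) * a⁻¹ ≠ w₂ * e := by
    intro e he h
    have hT' := hEn (Subgroup.mem_sup_right haT)
    have hae : a * e * a⁻¹ ∈ E := (Subgroup.mem_normalizer_iff.1 hT' e).1 he
    have haζ : a * ζ * a⁻¹ ∈ E := (Subgroup.mem_normalizer_iff.1 hT' ζ).1 hζ
    refine hw₁E ?_
    have h2 : w₁ = (a * ζ * a⁻¹) * (a * w₂ * a⁻¹) := by
      calc w₁ = a ^ 2 * w₁ * (a ^ 2)⁻¹ := by rw [ha2, one_mul, inv_one, mul_one]
        _ = a * (a * w₁ * a⁻¹) * a⁻¹ := by rw [pow_two]; group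
        _ = _ := by rw [haw₁']; group
    have h3 : w₂ = (a * ζ * a⁻¹)⁻¹ * w₁ * (a * e * a⁻¹) * e⁻¹ := by
      rw [h2, inv_mul_cancel_left, hmul, h]; group
    rw [h3, ← hEc w₁ hw₁q _ (inv_mem haζ),
      show w₁⁻¹ * (w₁ * (a * ζ * a⁻¹)⁻¹ * (a * e * a⁻¹) * e⁻¹) = (a * ζ * a⁻¹)⁻¹ * (a * e * a⁻¹) * e⁻¹ by group]
    exact mul_mem (mul_mem (inv_mem haζ) hae) (inv_mem he)
  -- the bound on the part of `A` centralizing `X`
  set R := A ⊓ qOf T K₂
  have hA2 : Nat.card A ≤ 2 * Nat.card R := by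
    rw [← card_mul_relIndex_of_le (inf_le_left : R ≤ A), mul_comm]
    refine Nat.mul_le_mul_right _ ?_
    show (A ⊓ qOf T K₂).relIndex A ≤ 2
    rw [inf_comm, Subgroup.inf_relIndex_right, ← s₂.relIndex_q c]
    exact Subgroup.relIndex_le_of_le_right cf.mx.1 (by rw [Subgroup.relIndex]; exact Subgroup.index_ne_zero_of_finite)
  set A₀ := A ⊓ Subgroup.centralizer (X : Set G)
  have hbound : Nat.card A₀ * Nat.card X ≤ Nat.card A * Nat.card ↥(A ⊓ X) := by
    refine (set_card_le (le_sup_left : A₀ ≤ A₀ ⊔ X) le_sup_right).trans ?_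
    refine Nat.mul_le_mul (cf.mx.2.2 _ (sup_le (inf_le_left.trans cf.mx.1) (hXq.trans inf_le_left))
      (Local.elemAb_sup (Local.elemAb_mono cf.mx.2.1 inf_le_left) hXel fun x hx v hv =>
        (Subgroup.mem_centralizer_iff.1 (Subgroup.mem_inf.1 hx).2 v hv).symm))
      (Subgroup.card_le_of_le (inf_le_inf_right _ inf_le_left))
  have hRA₀ : ∀ r ∈ R, r * w₁ = w₁ * r → r ∈ A₀ := by
    intro r hr hrw
    obtain ⟨hrA, hrq⟩ := Subgroup.mem_inf.1 hr
    refine Subgroup.mem_inf.2 ⟨hrA, ?_⟩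
    refine Subgroup.mem_centralizer_iff.2 fun x hx => ?_
    refine Subgroup.mem_centralizer_singleton_iff.1 ((?_ : X ≤ Subgroup.centralizer {r}) hx)
    refine (Subgroup.closure_le _).2 ?_
    have hrw0 : w * r = r * w := Subgroup.mem_centralizer_iff.1 (Subgroup.mem_inf.1 (cf.le hrA)).2 w cf.wW
    have hra : r * a = a * r := Local.elemAb_commute cf.mx.2.1 hrA cf.memA
    rintro x ((rfl | rfl | rfl) | h) <;> refine Subgroup.mem_centralizer_singleton_iff.2 ?_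
    · exact hrw0
    · exact hrw.symm
    · have h5 : Commute r (a * w₁ * a⁻¹) :=
        ((show Commute r a from hra).mul_right (show Commute r w₁ from hrw)).mul_right
          (show Commute r a from hra).inv_right
      rw [haw₁'] at h5
      have h6 := ((show Commute r ζ from hEc r hrq ζ hζ).inv_right).mul_right h5
      rw [inv_mul_cancel_left] at h6
      exact h6.eq.symm
    · exact (hEc r hrq x h).symm
  have hAXa : ∀ x ∈ A ⊓ X, a * x * a⁻¹ = x := fun x hx => hfixa (Subgroup.mem_inf.1 hx).1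
  have hpos : 0 < Nat.card ↥(A ⊓ X) := Nat.card_pos
  have hpos₀ : 0 < Nat.card A₀ := Nat.card_pos
  by_cases hall : ∀ r ∈ R, r * w₁ = w₁ * r
  · have hR : Nat.card R ≤ Nat.card A₀ := Subgroup.card_le_of_le fun r hr => hRA₀ r hr (hall r hr)
    have h4 : 4 * Nat.card ↥(A ⊓ X) ≤ Nat.card X := by
      let u : Bool → G := fun i => if i then w₁ else 1
      let v : Bool → G := fun j => if j then y else 1
      have huX : ∀ i, u i ∈ X := by
        rintro (_ | _)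
        exacts [one_mem _, hw₁X]
      have hvX : ∀ j, v j ∈ X := by
        rintro (_ | _)
        exacts [one_mem _, hyX]
      have hnot : ∀ i j, u i * v j ∈ A ⊓ X → i = false ∧ j = false := by
        rintro (_ | _) (_ | _) hm
        · exact ⟨rfl, rfl⟩
        · exact absurd (hAXa _ hm) (by simpa [u, v] using hy1)
        · exact absurd (hAXa _ hm) (hwe 1 (one_mem E))
        · exact absurd (hAXa _ hm) (hwe y hyE)
      have huu : ∀ i j, u i * u j = u (xor i j) := by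
        rintro (_ | _) (_ | _) <;> simp [u, ← pow_two, hw₁2]
      have hvv : ∀ i j, v i * v j = v (xor i j) := by
        rintro (_ | _) (_ | _) <;> simp [v, ← pow_two, hEel.2 y hyE]
      have := card_reps (ι := Bool × Bool) (inf_le_right : A ⊓ X ≤ X) (fun i => u i.1 * v i.2)
        (fun i => mul_mem (huX _) (hvX _)) (fun i j hij => by
          rw [El.inv_eq hXel (mul_mem (huX _) (hvX _)),
            show u i.1 * v i.2 * (u j.1 * v j.2) = (u i.1 * u j.1) * (v i.2 * v j.2) by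
              calc u i.1 * v i.2 * (u j.1 * v j.2) = u i.1 * (v i.2 * u j.1) * v j.2 := by group
                _ = u i.1 * (u j.1 * v i.2) * v j.2 := by rw [Local.elemAb_commute hXel (hvX _) (huX _)]
                _ = _ := by group,
            huu, hvv] at hij
          have h9 := hnot (xor i.1 j.1) (xor i.2 j.2) hij
          obtain ⟨_ | _, _ | _⟩ := i <;> obtain ⟨_ | _, _ | _⟩ := j <;>
            first
              | rfl
              | (exfalso; simp at h9))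
      rwa [Nat.card_prod, Nat.card_eq_fintype_card, Fintype.card_bool] at this
    nlinarith [Nat.mul_le_mul_right (Nat.card ↥(A ⊓ X)) hA2, Nat.mul_le_mul_left (Nat.card A₀) h4]
  · push Not at hall
    obtain ⟨r, hrR, hrw⟩ := hall
    have hzne : z₁ ≠ z := hz.resolve_right fun h => hrw (h r hrR)
    obtain ⟨hrA, hrq⟩ := Subgroup.mem_inf.1 hrR
    have hrw₁ : r * w₁ * r⁻¹ = z₁ * w₁ :=
      (hact₁ r hrq).resolve_left fun e => hrw (mul_inv_eq_iff_eq_mul.1 e)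
    have hra : r * a = a * r := Local.elemAb_commute cf.mx.2.1 hrA cf.memA
    have hrw₂ : r * w₂ * r⁻¹ = z₂ * w₂ := by
      have h : r * (a * w₁ * a⁻¹) * r⁻¹ = a * (z₁ * w₁) * a⁻¹ := by
        calc r * (a * w₁ * a⁻¹) * r⁻¹ = (r * a) * w₁ * (r * a)⁻¹ := by group
          _ = (a * r) * w₁ * (a * r)⁻¹ := by rw [hra]
          _ = a * (r * w₁ * r⁻¹) * a⁻¹ := by group
          _ = _ := by rw [hrw₁]
      rw [haw₁', ← hmul (x := z₁), haz₁, haw₁', ← hmul, hEc r hrq ζ hζ, mul_inv_cancel_right] at h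
      calc r * w₂ * r⁻¹ = ζ⁻¹ * (ζ * (r * w₂ * r⁻¹)) := by group
        _ = ζ⁻¹ * (z₂ * (ζ * w₂)) := by rw [h]
        _ = z₂ * w₂ := by
          rw [← mul_assoc z₂, Local.elemAb_commute hEel hz₂E hζ]; group
    have hR : Nat.card R ≤ 2 * Nat.card A₀ := by
      have hle : (A₀ ⊓ R).relIndex R ≤ 2 := by
        have h2 : (A₀.subgroupOf R).index = 2 := by
          refine Subgroup.index_eq_two_iff.2 ⟨⟨r, hrR⟩, fun b => ?_⟩
          simp only [Subgroup.mem_subgroupOf, Subgroup.coe_mul]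
          by_cases hb : (b : G) ∈ A₀
          · refine Or.inr ⟨hb, fun h => hrw ?_⟩
            have h5 : r ∈ A₀ := (Subgroup.mul_mem_cancel_left _ hb).1 h
            exact (Subgroup.mem_centralizer_iff.1 (Subgroup.mem_inf.1 h5).2 w₁ hw₁X).symm
          · refine Or.inl ⟨hRA₀ _ (mul_mem b.2 hrR) ?_, hb⟩
            have hbw : (b : G) * w₁ * (b : G)⁻¹ = z₁ * w₁ :=
              (hact₁ b (Subgroup.mem_inf.1 b.2).2).resolve_left fun e => hb (hRA₀ _ b.2 (mul_inv_eq_iff_eq_mul.1 e))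
            refine mul_inv_eq_iff_eq_mul.1 ?_
            calc (b : G) * r * w₁ * ((b : G) * r)⁻¹ = b * (r * w₁ * r⁻¹) * (b : G)⁻¹ := by group
              _ = (b * z₁ * (b : G)⁻¹) * (b * w₁ * (b : G)⁻¹) := by rw [hrw₁]; group
              _ = z₁ * (z₁ * w₁) := by rw [hEc b (Subgroup.mem_inf.1 b.2).2 z₁ hz₁E, mul_inv_cancel_right, hbw]
              _ = w₁ := by rw [← mul_assoc, ← pow_two, hEel.2 z₁ hz₁E, one_mul]
        rw [Subgroup.inf_relIndex_right]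
        exact h2.le
      rw [← card_mul_relIndex_of_le (inf_le_right : A₀ ⊓ R ≤ R), mul_comm]
      exact Nat.mul_le_mul hle (Subgroup.card_le_of_le inf_le_left)
    have hAXr : ∀ x ∈ A ⊓ X, r * x * r⁻¹ = x := fun x hx => by
      rw [Local.elemAb_commute cf.mx.2.1 hrA (Subgroup.mem_inf.1 hx).1, mul_inv_cancel_right]
    have hz12 : z₁ * z₂ ≠ 1 := by
      intro h
      have e : z₂ = z₁ := by rw [eq_inv_of_mul_eq_one_right h, El.inv_eq hEel hz₁E]
      have hp3 : k ^ 3 = 1 := cf.cube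
      apply hzne
      calc z₁ = k ^ 3 * z₁ * (k ^ 3)⁻¹ := by rw [hp3, one_mul, inv_one, mul_one]
        _ = k ^ 2 * z₂ * (k ^ 2)⁻¹ := by rw [hz₁def, hz₂def]; group
        _ = k ^ 2 * z₁ * (k ^ 2)⁻¹ := by rw [e]
        _ = k ^ 3 * z * (k ^ 3)⁻¹ := by rw [hz₁def]; group
        _ = z := by rw [hp3, one_mul, inv_one, mul_one]
    have hn : ∀ e ∈ E, r * (w₁ * w₂ * e) * r⁻¹ ≠ w₁ * w₂ * e := by
      intro e he h
      refine hz12 ?_
      rw [← hmul, ← hmul, hrw₁, hrw₂, hEc r hrq e he, mul_inv_cancel_right] at h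
      have h7 := mul_right_cancel h
      rw [show z₁ * w₁ * (z₂ * w₂) = z₁ * (w₁ * z₂) * w₂ by group, hEc w₁ hw₁q z₂ hz₂E,
        show z₁ * (z₂ * w₁) * w₂ = z₁ * z₂ * (w₁ * w₂) by group] at h7
      exact mul_eq_right.1 h7
    have h8 : 8 * Nat.card ↥(A ⊓ X) ≤ Nat.card X := by
      let u : Bool × Bool → G := fun i => match i with
        | (false, false) => 1
        | (true, false) => w₁
        | (false, true) => w₂
        | (true, true) => w₁ * w₂
      let v : Bool → G := fun j => if j then y else 1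
      have huX : ∀ i, u i ∈ X := by
        rintro ⟨_ | _, _ | _⟩
        exacts [one_mem _, hw₂X, hw₁X, mul_mem hw₁X hw₂X]
      have hvE : ∀ j, v j ∈ E := by
        rintro (_ | _)
        exacts [one_mem _, hyE]
      have hvX : ∀ j, v j ∈ X := fun j => hsub (Or.inr (hvE j))
      have hnot : ∀ i j, u i * v j ∈ A ⊓ X → i = (false, false) ∧ j = false := by
        rintro ⟨_ | _, _ | _⟩ (_ | _) hm
        · exact ⟨rfl, rfl⟩
        · exact absurd (hAXa _ hm) (by simpa [u, v] using hy1)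
        · exact absurd (hAXa _ hm) (hw2e 1 (one_mem E))
        · exact absurd (hAXa _ hm) (hw2e y hyE)
        · exact absurd (hAXa _ hm) (hwe 1 (one_mem E))
        · exact absurd (hAXa _ hm) (hwe y hyE)
        · exact absurd (hAXr _ hm) (hn 1 (one_mem E))
        · exact absurd (hAXr _ hm) (hn y hyE)
      have hadd : ∀ i j, u i * u j = u (xor i.1 j.1, xor i.2 j.2) := by
        have e1 : w₁ * w₁ = 1 := by rw [← pow_two]; exact hw₁2
        have e2 : w₂ * w₂ = 1 := by rw [← pow_two]; exact hw₂2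
        have e3 : w₂ * w₁ = w₁ * w₂ := c12.eq.symm
        rintro ⟨_ | _, _ | _⟩ ⟨_ | _, _ | _⟩ <;>
          simp [u, e1, e2, e3, ← mul_assoc] <;> simp [mul_assoc, e1, e2, e3] <;>
          simp [← mul_assoc, e1, e2, e3]
      have hvv : ∀ i j, v i * v j = v (xor i j) := by
        rintro (_ | _) (_ | _) <;> simp [v, ← pow_two, hEel.2 y hyE]
      have := card_reps (ι := (Bool × Bool) × Bool) (inf_le_right : A ⊓ X ≤ X) (fun i => u i.1 * v i.2)
        (fun i => mul_mem (huX _) (hvX _)) (fun i j hij => by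
          rw [El.inv_eq hXel (mul_mem (huX _) (hvX _)),
            show u i.1 * v i.2 * (u j.1 * v j.2) = (u i.1 * u j.1) * (v i.2 * v j.2) by
              calc u i.1 * v i.2 * (u j.1 * v j.2) = u i.1 * (v i.2 * u j.1) * v j.2 := by group
                _ = u i.1 * (u j.1 * v i.2) * v j.2 := by rw [Local.elemAb_commute hXel (hvX _) (huX _)]
                _ = _ := by group,
            hadd, hvv] at hij
          have h9 := hnot (xor i.1.1 j.1.1, xor i.1.2 j.1.2) (xor i.2 j.2) hij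
          obtain ⟨⟨_ | _, _ | _⟩, _ | _⟩ := i <;> obtain ⟨⟨_ | _, _ | _⟩, _ | _⟩ := j <;>
            first
              | rfl
              | (exfalso; simp at h9))
      rwa [Nat.card_prod, Nat.card_prod, Nat.card_eq_fintype_card, Fintype.card_bool] at this
    nlinarith [Nat.mul_le_mul_right (Nat.card ↥(A ⊓ X)) hA2, Nat.mul_le_mul_left (Nat.card A₀) h8,
      Nat.mul_le_mul_right (Nat.card ↥(A ⊓ X)) hR]

end Cfsg.Agent.JComp
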