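import Cfsg.Agent.Lib.JComp.Switch
import Cfsg.Agent.Lib.JComp.Fixed
import Cfsg.Agent.Lib.Local.ElemAb
import Cfsg.Agent.Lib.Fusion.StronglyEmbeddedPairs

/-!
# All components in one maximal subgroup
-/

set_option autoImplicit false
set_option linter.style.haveILetI false

open Cfsg
open scoped commutatorElement

namespace Cfsg.Agent.JComp

open Cfsg.Agent.Fusion

universe u

variable {G : Type u} [Group G] [Finite G] [Fact (Nat.Prime 2)]

/-- An elementary group acting semiregularly on `V` has order at most two. -/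
theorem Hy.semi_regular {T L : Subgroup G} (h : Hy T L) {U : Subgroup G} (hU : El U) (hUL : U ≤ L)
    (hf : ∀ u ∈ U, u ∈ cOf L → u = 1)
    (hreg : ∀ u ∈ U, u ≠ 1 → ∀ v ∈ vOf L, u * v = v * u → ∀ u' ∈ U, u' * v = v * u') : Nat.card U ≤ 2 := by
  set f := model L
  have c := h.ctxOn (⊤ : Subgroup ↥L)
  set Vb := (ActModel.incl ((vOf L).subgroupOf L)).range
  set A := (U.subgroupOf L).map f with hA
  have hAel : El A := by
    refine ⟨⟨⟨?_⟩⟩, ?_⟩
    · rintro ⟨_, a, ha, rfl⟩ ⟨_, b, hb, rfl⟩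
      refine Subtype.ext ?_
      show f a * f b = f b * f a
      rw [← map_mul, ← map_mul, show a * b = b * a from Subtype.ext (Local.elemAb_commute hU ha hb)]
    · rintro _ ⟨a, ha, rfl⟩
      rw [← map_pow, show a ^ 2 = 1 from Subtype.ext (hU.2 _ ha), map_one]
  have hcardA : Nat.card A = Nat.card U := by
    have h1 := ActModel.card_map ((vOf L).subgroupOf L) (U.subgroupOf L)
    rw [show (U.subgroupOf L) ⊓ Subgroup.centralizer (((vOf L).subgroupOf L : Subgroup ↥L) : Set ↥L) = ⊥ from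
      eq_bot_iff.2 fun x hx => Subgroup.mem_bot.2 (Subtype.ext (hf _ (Subgroup.mem_inf.1 hx).1
        ((model_eq_one h.V_le_L x.2).1 ((ActModel.proj_eq_one _).2 (Subgroup.mem_inf.1 hx).2)))),
      Subgroup.card_bot, mul_one, Nat.card_congr (Subgroup.subgroupOfEquivOfLe hUL).toEquiv] at h1
    exact h1
  by_contra hlt
  push Not at hlt
  obtain ⟨b₀, hb₀, hb₁⟩ := A.bot_or_exists_ne_one.resolve_left fun hb => by
    rw [hb, Subgroup.card_bot] at hcardA; omega
  obtain ⟨B, hBA, -, hcard, hm⟩ := c.hyperplane (Subgroup.map_mono le_top) hAel hb₀ hb₁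
  obtain ⟨b, hb, hb1⟩ := B.bot_or_exists_ne_one.resolve_left fun hb => by
    rw [hb, Subgroup.card_bot, mul_one, hcardA] at hcard; omega
  obtain ⟨⟨u, huL⟩, hu, rfl⟩ := hBA.le hb
  have hu1 : u ≠ 1 := fun e => hb1 (by rw [show (⟨u, huL⟩ : ↥L) = 1 from Subtype.ext e, map_one])
  have hzB : ((Subgroup.zpowers u).subgroupOf L).map f ≤ B := by
    rintro _ ⟨⟨x, hxL⟩, ⟨j, (hj : u ^ j = x)⟩, rfl⟩
    rw [show (⟨x, hxL⟩ : ↥L) = ⟨u, huL⟩ ^ j from Subtype.ext (by rw [SubgroupClass.coe_zpow]; exact hj.symm), map_zpow]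
    exact zpow_mem hb j
  have h1 : Nat.card ↥(Vb ⊓ Subgroup.centralizer (B : Set (ActModel.Ω ((vOf L).subgroupOf L)))) ≤
      Nat.card ↥(vOf L ⊓ Subgroup.centralizer (U : Set G)) := by
    refine (Subgroup.card_le_of_le (inf_le_inf_left _ (Subgroup.centralizer_le hzB))).trans ?_
    rw [ActModel.card_fix, card_fixL h.V_le_L (Subgroup.zpowers_le.2 huL)]
    refine Subgroup.card_le_of_le fun v hv => ?_
    obtain ⟨hvV, hvc⟩ := Subgroup.mem_inf.1 hv
    exact Subgroup.mem_inf.2 ⟨hvV, Subgroup.mem_centralizer_iff.2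
      (hreg u hu hu1 v hvV (Subgroup.mem_centralizer_iff.1 hvc u (Subgroup.mem_zpowers u)))⟩
  rw [offMeasure, offMeasure, ActModel.card_fix, card_fixL h.V_le_L hUL] at hm
  have h2 := Solv.card_lt_of_lt hBA
  have h3 : 0 < Nat.card ↥(vOf L ⊓ Subgroup.centralizer (U : Set G)) := Nat.card_pos
  have h4 := hm.trans (Nat.mul_le_mul_left _ h1)
  exact absurd (Nat.le_of_mul_le_mul_right h4 h3) (not_le.2 h2)

/-- All components lie in the maximal subgroup `L`. -/
structure One (T L : Subgroup G) : Prop where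
  ctx : Ctx (Subgroup.normalizer (thompsonSubgroupOf 2 T : Set G)) T
  syl : SylIn 2 T ⊤
  maxL : IsMaximalTwoLocal L
  all : ∀ K, IsJComponent T K → locOf T K = L
  ex : ∃ K, IsJComponent T K

variable {T L : Subgroup G} (o : One T L)
include o

theorem One.comp {K : Subgroup G} (hK : IsJComponent T K) :
    ¬ K ≤ Subgroup.normalizer (thompsonSubgroupOf 2 T : Set G) ∧ K ≤ L ∧ thompsonSubgroupOf 2 T ≤ L := by
  have h1 := comp_not_norm o.ctx.pT hK
  have h2 := (o.ctx.loc_spec hK h1).2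
  rw [o.all K hK] at h2
  exact ⟨h1, h2⟩

theorem One.normJ_le : Subgroup.normalizer (thompsonSubgroupOf 2 T : Set G) ≤ L := fun x hx => by
  obtain ⟨K, hK⟩ := o.ex
  refine maximal_self_norm o.maxL ?_
  have := o.ctx.loc_conj hK (o.comp hK).1 hx
  rwa [o.all K hK, o.all _ (component_conj hK hx)] at this

theorem One.hy : Hy T L := by
  obtain ⟨K, hK⟩ := o.ex
  have hTL : T ≤ L := (Subgroup.le_normalizer.trans (normalizer_le_J T)).trans o.normJ_le
  exact (o.ctx.main o.maxL.1 (fun h' => (o.comp hK).1 ((o.comp hK).2.1.trans h'))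
    (isSylowTwoIn_of_sylIn (o.syl.mono hTL le_top)) (J_le T)).2.2.2 hTL

theorem One.four_le : 4 ≤ Nat.card ↥(vOf L) := by
  obtain ⟨K, hK⟩ := o.ex
  obtain ⟨F⟩ := o.hy.factors
  obtain ⟨k, E, d⟩ := component_in o.hy F o.hy rfl hK (o.comp hK).2.1
  rw [← hK.2.2.2.2.1]
  exact Subgroup.card_le_of_le (d.plane.trans (Subgroup.commutator_le.2 fun v hv g hg =>
    (commutator_elem_mem hv (Hy.L_norm_V L ((o.comp hK).2.1 hg))).1))

/-- Two-local subgroups containing `J(T)` lie in `L`. -/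
theorem One.twoLocal_le {N : Subgroup G} (hN : IsTwoLocal N) (hJ : thompsonSubgroupOf 2 T ≤ N) : N ≤ L := by
  set NJ := Subgroup.normalizer (thompsonSubgroupOf 2 T : Set G)
  by_cases hle : N ≤ NJ
  · exact hle.trans o.normJ_le
  obtain ⟨T₀, h, e⟩ := o.ctx.overgroup hN hle hJ
  obtain ⟨F⟩ := h.factors
  have hnJ : ∀ {X : Subgroup G}, Subgroup.normalizer (X : Set G) ≤
      Subgroup.normalizer (thompsonSubgroupOf 2 X : Set G) := fun {X} => normalizer_le_J X
  have hCL : cOf N ≤ L := h.C_norm_T.trans (hnJ.trans (by rw [e]; exact o.normJ_le))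
  have hYL : yOf T₀ N ≤ L := (meets h F).trans (sup_le hCL (iSup₂_le fun E hE => ?_))
  · intro n hn
    have hP : SylIn 2 (T₀ ⊓ yOf T₀ N) (yOf T₀ N) := h.syl.inf_normal h.Y_le Hy.L_norm_Y
    obtain ⟨y, hy, hyn⟩ := frattini_conj hP Hy.L_norm_Y hn
    have e' : thompsonSubgroupOf 2 (T₀ ⊓ yOf T₀ N) = thompsonSubgroupOf 2 T :=
      (J_eq_of_sylIn h.syl h.pT.to_inf_left (inf_le_left.trans h.T_le) (le_inf (J_le T₀) Hy.J_le_Y)).trans e
    have h1 := o.normJ_le (e' ▸ hnJ hyn)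
    exact (Subgroup.mul_mem_cancel_left _ (hYL hy)).1 h1
  · obtain ⟨hE, A, hA, t, ht, htC⟩ := hE
    obtain ⟨K, hK, hKN, hEle, -⟩ := exists_component h F hA hE ht htC
    refine hEle.trans (sup_le (sup_le hCL (o.comp (component_congr e hK)).2.1) (Subgroup.zpowers_le.2 ?_))
    refine o.hy.J_le_L ?_
    rw [← e]
    exact mx_le_J hA (Subgroup.mem_inf.1 ht).1

/-- Centralizers of nontrivial elements of `V` lie in `L` and contain conjugates of `J(T)`. -/
theorem One.centralizer_spec {v : G} (hv : v ∈ vOf L) (hv1 : v ≠ 1) :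
    Subgroup.centralizer {v} ≤ L ∧ ∃ a ∈ L, cj (thompsonSubgroupOf 2 T) a ≤ Subgroup.centralizer {v} := by
  obtain ⟨F⟩ := o.hy.factors
  obtain ⟨l, hl, hfix⟩ := conj_fixed o.hy F hv
  set w := l * v * l⁻¹ with hw
  have hX : IsTwoLocal (Subgroup.normalizer (Subgroup.zpowers w : Set G)) :=
    ⟨_, (isPGroup_elementary (omegaCenter_el _)).to_le
      (Subgroup.zpowers_le.2 ((Subgroup.mem_normalizer_iff.1 (Hy.L_norm_V L hl) v).1 hv)),
      fun hb => hv1 (conj_eq_one_iff.1 (Subgroup.zpowers_eq_bot.1 hb)), rfl⟩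
  have hcle : ∀ {x : G}, x * w = w * x → x ∈ Subgroup.normalizer (Subgroup.zpowers w : Set G) := fun {x} hx => by
    rw [mem_normalizer_iff_cj, cj, MonoidHom.map_zpowers]
    show Subgroup.zpowers (x * w * x⁻¹) = _
    rw [hx, mul_inv_cancel_right]
  have hXL := o.twoLocal_le hX fun j hj => hcle (hfix j hj)
  constructor
  · intro x hx
    have hxv := Subgroup.mem_centralizer_singleton_iff.1 hx
    have h1 : l * x * l⁻¹ ∈ L := hXL (hcle (by
      calc l * x * l⁻¹ * w = l * (x * v) * l⁻¹ := by rw [hw]; group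
        _ = l * (v * x) * l⁻¹ := by rw [hxv]
        _ = w * (l * x * l⁻¹) := by rw [hw]; group))
    simpa [mul_assoc] using mul_mem (mul_mem (inv_mem hl) h1) hl
  · refine ⟨l⁻¹, inv_mem hl, ?_⟩
    rintro _ ⟨j, hj, rfl⟩
    refine Subgroup.mem_centralizer_singleton_iff.2 ?_
    show l⁻¹ * j * l⁻¹⁻¹ * v = v * (l⁻¹ * j * l⁻¹⁻¹)
    calc l⁻¹ * j * l⁻¹⁻¹ * v = l⁻¹ * (j * w) * l := by rw [hw]; group
      _ = l⁻¹ * (w * j) * l := by rw [hfix j hj]
      _ = _ := by rw [hw]; group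

/-- `V` is a trivial intersection set. -/
theorem One.ti {g : G} (hg : g ∉ L) : vOf L ⊓ cj (vOf L) g = ⊥ := by
  refine eq_bot_iff.2 fun v hv => Subgroup.mem_bot.2 ?_
  obtain ⟨hvV, u, huV, e⟩ := hv
  change g * u * g⁻¹ = v at e
  by_contra hv1
  obtain ⟨hCL, a, ha, haJ⟩ := o.centralizer_spec hvV hv1
  obtain ⟨-, b', hb', hbJ⟩ := o.centralizer_spec huV (fun e' => hv1 (by rw [← e, e', mul_one, mul_inv_cancel]))
  set b := g * b' with hb
  have hbC : cj (thompsonSubgroupOf 2 T) b ≤ Subgroup.centralizer {v} := by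
    rw [hb, ← cj_cj]
    rintro _ ⟨x, hx, rfl⟩
    refine Subgroup.mem_centralizer_singleton_iff.2 ?_
    show g * x * g⁻¹ * v = v * (g * x * g⁻¹)
    rw [← e]
    calc g * x * g⁻¹ * (g * u * g⁻¹) = g * (x * u) * g⁻¹ := by group
      _ = g * (u * x) * g⁻¹ := by rw [Subgroup.mem_centralizer_singleton_iff.1 (hbJ hx)]
      _ = _ := by group
  have hsyl : ∀ x : G, SylIn 2 (cj T x) ⊤ := fun x =>
    o.syl.cj' (by rw [mem_normalizer_iff_cj]; exact cj_of_normal _ _)
  have hJR : ∀ {x : G} {R : Subgroup G}, SylIn 2 R (Subgroup.centralizer {v}) →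
      cj (thompsonSubgroupOf 2 T) x ≤ R → thompsonSubgroupOf 2 R = cj (thompsonSubgroupOf 2 T) x := by
    intro x R hR hle
    rw [thompson_cj]
    exact J_eq_of_sylIn (hsyl x) hR.isPGroup le_top (by rw [← thompson_cj]; exact hle)
  obtain ⟨R₁, hR₁, h1⟩ := exists_sylIn_ge (isPGroup_cj o.ctx.pJ a) haJ
  obtain ⟨R₂, hR₂, h2⟩ := exists_sylIn_ge (isPGroup_cj o.ctx.pJ b) hbC
  obtain ⟨c, hc, rfl⟩ := hR₁.conj_eq hR₂
  have e1 := hJR hR₂ h2
  rw [← thompson_cj, hJR hR₁ h1, cj_cj] at e1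
  have h3 : b⁻¹ * (c * a) ∈ L := o.normJ_le (by
    rw [mem_normalizer_iff_cj, ← cj_cj, e1, cj_cj_inv])
  have hbL : b ∈ L := by
    have := mul_mem (mul_mem (hCL hc) ha) (inv_mem h3)
    simpa [mul_assoc] using this
  exact hg (by simpa [hb] using mul_mem hbL (inv_mem hb'))

/-- If `V` is large and `Vᵍ` meets `L` then `V ≤ Lᵍ` and the intersection centralizes `V`. -/
theorem One.pair_aux (hV : 4 < Nat.card ↥(vOf L)) {g : G} (hg : g ∉ L) (hne : cj (vOf L) g ⊓ L ≠ ⊥) :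
    vOf L ≤ cj L g ∧ ∀ u ∈ cj (vOf L) g ⊓ L, ∀ v ∈ vOf L, u * v = v * u := by
  set V := vOf L
  set U' := cj V g ⊓ L
  have hVel : El V := omegaCenter_el _
  have hVgel : El (cj V g) := (replFamily_elementary 2).map_equiv hVel (MulAut.conj g)
  have hTI := o.ti hg
  have hcomm : ∀ u ∈ U', ∀ v ∈ V, v ∈ cj L g → u * v = v * u := by
    intro u hu v hv hvL
    obtain ⟨hu1, hu2⟩ := Subgroup.mem_inf.1 hu
    refine (commutatorElement_eq_one_iff_mul_comm.1 (Subgroup.mem_bot.1 (hTI ▸ Subgroup.mem_inf.2 ⟨?_, ?_⟩))).symm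
    · exact (commutator_elem_mem hv (Hy.L_norm_V L hu2)).1
    · refine (commutator_elem_mem hu1 ?_).2
      rw [← cj_normalizer]
      exact cj_mono (Hy.L_norm_V L) g hvL
  have hcen : ∀ u ∈ U', u ≠ 1 → ∀ v, u * v = v * u → v ∈ cj L g := by
    intro u hu hu1 v hv
    obtain ⟨u₀, hu₀, e⟩ := (Subgroup.mem_inf.1 hu).1
    change g * u₀ * g⁻¹ = u at e
    refine mem_cj.2 ((o.centralizer_spec hu₀ (fun e' => hu1 (by rw [← e, e', mul_one, mul_inv_cancel]))).1
      (Subgroup.mem_centralizer_singleton_iff.2 ?_))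
    calc g⁻¹ * v * g * u₀ = g⁻¹ * (v * u) * g := by rw [← e]; group
      _ = g⁻¹ * (u * v) * g := by rw [hv]
      _ = _ := by rw [← e]; group
  by_cases hall : V ≤ cj L g
  · exact ⟨hall, fun u hu v hv => hcomm u hu v hv (hall hv)⟩
  exfalso
  obtain ⟨u₀, hu₀, hu₀1⟩ := U'.bot_or_exists_ne_one.resolve_left hne
  have hel' : El U' := Local.elemAb_mono hVgel inf_le_left
  have hsmall := o.hy.semi_regular hel' inf_le_right (fun u hu huC => by
    by_contra hu1
    exact hall fun v hv => hcen u hu hu1 v (Subgroup.mem_centralizer_iff.1 huC.2 v hv).symm)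
    (fun u hu hu1 v hv huv u' hu' => hcomm u' hu' v hv (hcen u hu hu1 v huv))
  obtain ⟨w, hw, hw1⟩ := (V ⊓ Subgroup.centralizer {u₀}).bot_or_exists_ne_one.resolve_left fun hb => by
    have h1 := Local.card_le_sq_card_fixed hVel (u := u₀)
      (fun e he => (Subgroup.mem_normalizer_iff.1 (Hy.L_norm_V L (Subgroup.mem_inf.1 hu₀).2) e).1 he)
      (fun e _ => by rw [hel'.2 u₀ hu₀, one_mul, mul_one])
    rw [hb, Subgroup.card_bot] at h1
    omega
  obtain ⟨hwV, hwc⟩ := Subgroup.mem_inf.1 hw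
  have hwg : w ∈ cj L g := hcen u₀ hu₀ hu₀1 w (Subgroup.mem_centralizer_singleton_iff.1 hwc).symm
  have hwn : w ∈ Subgroup.normalizer (cj V g : Set G) := by
    rw [← cj_normalizer]
    exact cj_mono (Hy.L_norm_V L) g hwg
  have h2 := Local.card_le_sq_card_fixed hVgel (u := w)
    (fun e he => (Subgroup.mem_normalizer_iff.1 hwn e).1 he) (fun e _ => by rw [hVel.2 w hwV, one_mul, mul_one])
  have h3 : Nat.card ↥(cj V g ⊓ Subgroup.centralizer {w}) ≤ Nat.card U' := Subgroup.card_le_of_le fun x hx =>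
    Subgroup.mem_inf.2 ⟨(Subgroup.mem_inf.1 hx).1, (o.centralizer_spec hwV hw1).1 (Subgroup.mem_inf.1 hx).2⟩
  rw [card_cj] at h2
  have h4 := h2.trans (Nat.pow_le_pow_left (h3.trans hsmall) 2)
  omega

end Cfsg.Agent.JComp
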