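import Cfsg.Agent.Lib.JComp.One
import Cfsg.Agent.S2947

/-!
# All components in one maximal subgroup: the core has centre of order four
-/

set_option autoImplicit false
set_option linter.style.haveILetI false

open Cfsg
open scoped commutatorElement

namespace Cfsg.Agent.JComp

open Cfsg.Agent.Fusion

universe u

variable {G : Type u} [Group G] [Finite G] [Fact (Nat.Prime 2)] {T L : Subgroup G} (o : One T L)
include o

theorem One.not_strongly_embedded : ¬ IsStronglyEmbedded L := fun hse => by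
  have h := o.hy
  obtain ⟨K, hK⟩ := o.ex
  obtain ⟨v, hv, hv1⟩ := (vOf L).bot_or_exists_ne_one.resolve_left fun hb => by
    have h4 := o.four_le
    rw [hb, Subgroup.card_bot] at h4
    omega
  have hord : ∀ {x : G}, x ^ 2 = 1 → x ≠ 1 → orderOf x = 2 := fun h2 h1 => orderOf_eq_prime h2 h1
  have hfix : ∀ {x : G}, x ∈ L → x • (QuotientGroup.mk 1 : G ⧸ L) = QuotientGroup.mk 1 := fun hx =>
    SEPairs.smul_mk_eq_iff.2 (by simpa using hx)
  obtain ⟨y, hy⟩ := SEPairs.exists_ne hse (QuotientGroup.mk 1 : G ⧸ L)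
  refine h.mem.2.1 ?_
  rw [J_eq]
  refine sSup_le fun A hA a ha => ?_
  rcases eq_or_ne a 1 with rfl | ha1
  · exact one_mem _
  obtain ⟨d, hd, -, e⟩ := SEPairs.pair_transitive hse hy (hord ((omegaCenter_el _).2 v hv) hv1) (hfix (h.V_le_L hv))
    (hord (hA.2.1.2 a ha) ha1) (hfix (h.T_le (hA.1 ha)))
  rw [SEPairs.smul_mk_eq_iff] at hd
  rw [← e]
  exact omegaCenterOf_le _ ((Subgroup.mem_normalizer_iff.1 (Hy.L_norm_V L (by simpa using hd)) v).1 hv)

theorem One.card_V : Nat.card ↥(vOf L) = 4 := by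
  by_contra hne
  have hV : 4 < Nat.card ↥(vOf L) := lt_of_le_of_ne o.four_le (Ne.symm hne)
  set V := vOf L with hVdef
  obtain ⟨P, hP⟩ := o.syl.exists_sylow
  have hJP : Subgroup.normalizer (thompsonSubgroupOf 2 (P : Subgroup G) : Set G) ≤ L := by
    rw [hP]; exact o.normJ_le
  have hTL : T ≤ L := o.hy.T_le
  have hVel : El V := omegaCenter_el _
  have hVn : ∀ {g : G}, g ∈ Subgroup.normalizer (V : Set G) → g ∈ L := fun hg =>
    (maximal_eq_norm o.maxL (isPGroup_elementary hVel) (fun hb => by rw [hb, Subgroup.card_bot] at hV; omega)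
      (Hy.L_norm_V L)).le hg
  -- a maximal straddling subgroup for `L` inside `T`
  obtain ⟨R, hR⟩ := exists_max (Set.nonempty_iff_ne_empty.2 fun he => o.not_strongly_embedded
    ((S2947.result o.ctx.amb.cty o.ctx.amb.loc o.ctx.amb.cen o.ctx.core P L o.maxL.1 hJP).2 he))
  obtain ⟨m, hm, hle⟩ := (o.syl.mono hTL le_top).conj_le hR.1.1 hR.1.2.2.1
  set T' := cj R m
  have hT' : T' ∈ maxStraddlingTwoSubgroups L := max_cj hR hm
  have c' : Ctx L T' := ⟨o.ctx.amb, o.ctx.core, hT', P, hJP⟩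
  have hT'ne : T' ≠ T := fun e => by
    obtain ⟨-, -, -, N, hN, hTN, hNL⟩ := hT'.1
    exact hNL (o.twoLocal_le hN ((J_le T).trans (e ▸ hTN)))
  obtain ⟨K', ⟨hK', -⟩, hK'L, hcore⟩ := outside_nonempty o.ctx.amb hJP hT'
  set L' := locOf T' K'
  obtain ⟨hL'max, hK'L', hJL'⟩ := c'.loc_spec hK' hK'L
  have h' := c'.outside_hy hK' hK'L hcore
  obtain ⟨x, hxT, hxN, hxL', hKx, hKxL, hKxne⟩ := c'.two_of_growth hK' hK'L h' o.ctx.pT hle hT'ne
  have hTK : T' ≤ Subgroup.normalizer (K' : Set G) := c'.norm_of_two hK' hK'L h' hKx hKxL hKxne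
  obtain ⟨k, hk, -⟩ := exists_kgen hK'.1 hK'.2.2.1
  obtain ⟨F'⟩ := h'.factors
  obtain ⟨k', E', d'⟩ := component_in h' F' h' rfl hK' hK'L'
  have hPT : pCoreOf 2 K' ≤ T' := d'.core.trans h'.Q_le_T
  have hkL : k ∉ L := fun hkL => hK'L (hk.le.trans (sup_le ((hPT.trans hle).trans hTL) (Subgroup.zpowers_le.2 hkL)))
  have hk2L : k ^ 2 ∉ L := fun h2 => hkL (by
    rw [show k = (k ^ 2) ^ 2 by rw [← pow_mul, show 2 * 2 = 3 + 1 from rfl, pow_succ, hk.cube, one_mul]]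
    exact pow_mem h2 2)
  set W' := wOf K'
  have h4 : Nat.card W' = 4 := hK'.2.2.2.2.1
  -- `V` centralizes `W'`
  obtain ⟨z, hz, hz1⟩ := (omegaCenterOf T).bot_or_exists_ne_one.resolve_left (omega_ne_bot o.ctx.pT o.ctx.max.1.2.1)
  have hzc : ∀ {N R : Subgroup G}, Hy R N → R ≤ T → z ∈ vOf N := fun {N R} hR hRT => by
    have hzQ : z ∈ pCoreOf 2 N := hR.centralizer_Q fun q hq => omegaCenter_comm hz (hRT (hR.Q_le_T hq))
    exact mem_omegaCenter hzQ ((omegaCenter_el T).2 z hz) fun q hq => omegaCenter_comm hz (hRT (hR.Q_le_T hq))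
  have hzV : z ∈ V := hzc o.hy le_rfl
  have hzV' : z ∈ vOf L' := hzc h' hle
  have hzconj : ∀ {g : G}, g ∈ L' → g ∉ L → ∀ v ∈ V, g * z * g⁻¹ * v = v * (g * z * g⁻¹) := by
    intro g hgL' hgL
    have hmem : g * z * g⁻¹ ∈ cj V g ⊓ L := Subgroup.mem_inf.2 ⟨conj_mem_cj hzV,
      hTL (hle (h'.V_le_T ((Subgroup.mem_normalizer_iff.1 (Hy.L_norm_V L' hgL') z).1 hzV')))⟩
    exact (o.pair_aux hV hgL fun hb => hz1 (conj_eq_one_iff.1 (Subgroup.mem_bot.1 (hb ▸ hmem)))).2 _ hmem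
  have hkL' : k ∈ L' := hK'L' hk.mem
  set z₁ := k * z * k⁻¹
  set z₂ := k ^ 2 * z * (k ^ 2)⁻¹
  set Y := Subgroup.closure ({z, z₁, z₂} : Set G)
  have hYV : Y ≤ Subgroup.centralizer (V : Set G) := (Subgroup.closure_le _).2 (by
    rintro y (rfl | rfl | rfl) <;> refine Subgroup.mem_centralizer_iff.2 fun v hv => ?_
    · exact Local.elemAb_commute hVel hv hzV
    · exact (hzconj hkL' hkL v hv).symm
    · exact (hzconj (pow_mem hkL' 2) hk2L v hv).symm)
  have hYk : cj Y k ≤ Y := by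
    rw [cj, MonoidHom.map_closure]
    refine (Subgroup.closure_le _).2 ?_
    rintro _ ⟨y, rfl | rfl | rfl, rfl⟩
    · exact Subgroup.subset_closure (Or.inr (Or.inl rfl))
    · refine Subgroup.subset_closure (Or.inr (Or.inr ?_))
      show k * (k * z * k⁻¹) * k⁻¹ = k ^ 2 * z * (k ^ 2)⁻¹
      rw [pow_two]; group
    · refine Subgroup.subset_closure (Or.inl ?_)
      show k * (k ^ 2 * z * (k ^ 2)⁻¹) * k⁻¹ = z
      calc k * (k ^ 2 * z * (k ^ 2)⁻¹) * k⁻¹ = k ^ 3 * z * (k ^ 3)⁻¹ := by group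
        _ = z := by rw [hk.cube, one_mul, inv_one, mul_one]
  have hVW : W' ≤ Subgroup.centralizer (V : Set G) := by
    have hx1 : ⁅z, k⁆ ≠ 1 := fun e => hkL ((o.centralizer_spec hzV hz1).1
      (Subgroup.mem_centralizer_singleton_iff.2 (commutatorElement_eq_one_iff_mul_comm.1 e).symm))
    have hxW : ⁅z, k⁆ ∈ W' := d'.comm_le (Subgroup.commutator_mem_commutator hzV' hk.mem)
    have hxY : ⁅z, k⁆ ∈ Y := by
      rw [show ⁅z, k⁆ = z * z₁⁻¹ by simp only [z₁, commutatorElement_def]; group]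
      exact mul_mem (Subgroup.subset_closure (Or.inl rfl)) (inv_mem (Subgroup.subset_closure (Or.inr (Or.inl rfl))))
    have e : W' ⊓ Y = W' := hk.eq_wOf h4 inf_le_left (fun y hy =>
      Subgroup.mem_inf.2 ⟨(Subgroup.mem_normalizer_iff.1 (wOf_norm hk.mem) y).1 (Subgroup.mem_inf.1 hy).1,
        hYk (conj_mem_cj (Subgroup.mem_inf.1 hy).2)⟩) (Subgroup.mem_inf.2 ⟨hxW, hxY⟩) hx1
    exact (inf_eq_left.1 e).trans hYV
  have hVC : V ≤ Subgroup.centralizer (W' : Set G) := Subgroup.le_centralizer_iff.1 hVW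
  have hVT' : V ≤ T' := by
    have hVL' : V ≤ L' := hVC.trans ((Subgroup.centralizer_le_normalizer _).trans (c'.norm_W_le hK' hK'L))
    exact (le_inf o.hy.V_le_T hVL').trans
      (h'.syl.eq_of_le o.ctx.pT.to_inf_left (le_inf hle h'.T_le) inf_le_right).le
  -- the part centralizing `W'`
  set C' := Subgroup.centralizer (W' : Set G)
  set T₁ := T' ⊓ C'
  obtain ⟨w₀, hw₀, hw₀1, hw₀T⟩ := exists_fixed c'.pT (isPGroup_elementary wOf_el) (wOf_ne_bot hK')
    (fun t ht => wOf_norm_of (hTK ht))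
  set w₁ := k * w₀ * k⁻¹ with hw₁def
  have hw₁ : w₁ ∈ W' := (Subgroup.mem_normalizer_iff.1 (wOf_norm hk.mem) _).1 hw₀
  have hw01 : w₀ ≠ w₁ := fun e => hw₀1 (hk.fpf hw₀ e.symm)
  have hw₁1 : w₁ ≠ 1 := fun e => hw₀1 (conj_eq_one_iff.1 e)
  have hfour := four_cases wOf_el h4 hw₀ hw₁ hw₀1 hw₁1 hw01
  have hfixC : ∀ {y : G}, y * w₀ = w₀ * y → y * w₁ * y⁻¹ = w₁ → y ∈ C' := by
    intro y h0 h1
    refine Subgroup.mem_centralizer_iff.2 fun w hw => ?_
    have h1' : Commute y w₁ := mul_inv_eq_iff_eq_mul.1 h1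
    rcases hfour w hw with rfl | rfl | rfl | rfl
    · rw [one_mul, mul_one]
    · exact h0.symm
    · exact h1'.eq.symm
    · exact ((show Commute y w₀ from h0).mul_right h1').eq.symm
  have hswap : ∀ {u : G}, u ∈ T' → u ∉ C' → u * w₁ * u⁻¹ = w₀ * w₁ := by
    intro u hu huC
    have h0 : u * w₀ * u⁻¹ = w₀ := by rw [hw₀T u hu, mul_inv_cancel_right]
    rcases hfour _ ((Subgroup.mem_normalizer_iff.1 (wOf_norm_of (hTK hu)) w₁).1 hw₁) with e | e | e | e
    · exact absurd (conj_eq_one_iff.1 e) hw₁1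
    · exact absurd (mul_left_cancel (mul_right_cancel (h0.trans e.symm))) hw01
    · exact absurd (hfixC (hw₀T u hu) e) huC
    · exact e
  have hsup : (K' ⊔ T') ⊓ C' = T₁ := by
    refine le_antisymm (fun y hy => Subgroup.mem_inf.2 ⟨?_, (Subgroup.mem_inf.1 hy).2⟩) (inf_le_inf_right _ le_sup_right)
    obtain ⟨g, hg, t, ht, rfl⟩ := (mem_sup_iff_mul hTK).1 (Subgroup.mem_inf.1 hy).1
    obtain ⟨p, hp, i, hi, rfl⟩ := hk.split hg
    have h0 := Subgroup.mem_centralizer_iff.1 (Subgroup.mem_inf.1 hy).2 w₀ hw₀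
    have h1 : k ^ i * w₀ * (k ^ i)⁻¹ = w₀ := by
      calc k ^ i * w₀ * (k ^ i)⁻¹ = p⁻¹ * (p * k ^ i * (w₀ * t) * t⁻¹ * (k ^ i)⁻¹ * p⁻¹) * p := by group
        _ = p⁻¹ * (p * k ^ i * (t * w₀) * t⁻¹ * (k ^ i)⁻¹ * p⁻¹) * p := by rw [hw₀T t ht]
        _ = p⁻¹ * ((p * k ^ i * t * w₀) * (p * k ^ i * t)⁻¹) * p := by group
        _ = p⁻¹ * w₀ * p := by rw [← h0, mul_inv_cancel_right]
        _ = w₀ := by rw [mul_assoc, ← omegaCenter_comm (wOf_le_omega hw₀) hp, inv_mul_cancel_left]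
    have hi0 : i = 0 := by
      by_contra hi0
      refine hw₀1 (hk.fpf hw₀ ?_)
      rcases (show i = 1 ∨ i = 2 by omega) with rfl | rfl
      · simpa using h1
      · calc k * w₀ * k⁻¹ = k * (k ^ 2 * w₀ * (k ^ 2)⁻¹) * k⁻¹ := by rw [h1]
          _ = k ^ 3 * w₀ * (k ^ 3)⁻¹ := by group
          _ = w₀ := by rw [hk.cube, one_mul, inv_one, mul_one]
    rw [hi0, pow_zero, mul_one]
    exact mul_mem (hPT hp) ht
  have hnT₁ : K' ⊔ T' ≤ Subgroup.normalizer (T₁ : Set G) := by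
    intro g hg
    have hgW : g ∈ Subgroup.normalizer (W' : Set G) :=
      wOf_norm_of ((sup_le Subgroup.le_normalizer hTK : K' ⊔ T' ≤ Subgroup.normalizer (K' : Set G)) hg)
    rw [← hsup, mem_normalizer_iff_cj, cj_inf, cj_eq_self (Subgroup.le_normalizer hg), cj_centralizer,
      cj_eq_self hgW]
  have hVT₁ : V ≤ T₁ := le_inf hVT' hVC
  -- the conjugates of `V` in it
  set A' := ⨆ (g : G) (_ : cj V g ≤ T₁), cj V g
  have hA'n : ∀ {y : G}, (∀ g, cj V g ≤ T₁ → cj V (y * g) ≤ T₁) → y ∈ Subgroup.normalizer (A' : Set G) := by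
    intro y hy
    refine mem_normalizer_of_cj_le ?_
    show (⨆ (g : G) (_ : cj V g ≤ T₁), cj V g).map (MulAut.conj y).toMonoidHom ≤ A'
    rw [Subgroup.map_iSup]
    refine iSup_le fun g => ?_
    rw [Subgroup.map_iSup]
    exact iSup_le fun hg => le_iSup₂_of_le (y * g) (hy g hg) (cj_cj V g y).le
  obtain ⟨g, hgT', hgT₁⟩ : ∃ g, cj V g ≤ T' ∧ ¬ cj V g ≤ T₁ := by
    by_contra hno
    push Not at hno
    have hA'T : A' ≤ T' := iSup₂_le fun g hg => hg.trans inf_le_left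
    have hX : IsTwoLocal (Subgroup.normalizer (A' : Set G)) := by
      refine ⟨A', c'.pT.to_le hA'T, fun hb => ?_, rfl⟩
      have h1 : cj V 1 ≤ A' := le_iSup₂_of_le (1 : G) (by rw [cj_one]; exact hVT₁) le_rfl
      rw [hb, cj_one, le_bot_iff] at h1
      rw [h1, Subgroup.card_bot] at hV
      omega
    have hKA : K' ⊔ thompsonSubgroupOf 2 T' ≤ Subgroup.normalizer (A' : Set G) := fun y hy => hA'n fun g hg => by
      rw [← cj_cj]
      exact (cj_mono hg y).trans (cj_eq_self (hnT₁ (sup_le_sup_left (J_le T') _ hy))).le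
    refine hxL' (c'.le_loc hK' hK'L hX hKA (hA'n fun g hg => hno _ ?_))
    rw [← cj_cj]
    exact (cj_mono (hg.trans inf_le_left) x).trans (cj_eq_self hxN).le
  obtain ⟨u, huF, huT₁⟩ := SetLike.not_le_iff_exists.1 hgT₁
  have huC : u ∉ C' := fun hc => huT₁ (Subgroup.mem_inf.2 ⟨hgT' huF, hc⟩)
  obtain ⟨f, hfF, hfC, hf1⟩ : ∃ f ∈ cj V g, f ∈ C' ∧ f ≠ 1 := by
    by_contra hno
    push Not at hno
    have hsub : ∀ y ∈ cj V g, y = 1 ∨ y = u := by
      intro y hy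
      by_cases hyC : y ∈ C'
      · exact Or.inl (hno y hy hyC)
      right
      have hprod : y * u ∈ C' := by
        refine hfixC ((show Commute y w₀ from hw₀T y (hgT' hy)).mul_left (hw₀T u (hgT' huF))).eq ?_
        calc y * u * w₁ * (y * u)⁻¹ = (y * (u * w₁ * u⁻¹) * y⁻¹) := by group
          _ = (y * w₀ * y⁻¹) * (y * w₁ * y⁻¹) := by rw [hswap (hgT' huF) huC]; group
          _ = w₀ * (w₀ * w₁) := by rw [hw₀T y (hgT' hy), mul_inv_cancel_right, hswap (hgT' hy) hyC]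
          _ = w₁ := by rw [← mul_assoc, ← pow_two, wOf_el.2 w₀ hw₀, one_mul]
      rw [eq_inv_of_mul_eq_one_left (hno _ (mul_mem hy huF) hprod),
        El.inv_eq ((replFamily_elementary 2).map_equiv hVel (MulAut.conj g)) huF]
    have h2 : Nat.card ↥(cj V g) ≤ 2 := by
      classical
      refine (Nat.card_le_card_of_injective (β := Bool) (fun y : ↥(cj V g) => decide ((y : G) = 1)) ?_).trans
        (by simp)
      intro a b hab
      simp only [decide_eq_decide] at hab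
      rcases hsub a a.2 with e | e <;> rcases hsub b b.2 with e' | e' <;> apply Subtype.ext
      · rw [e, e']
      · rw [e, hab.1 e]
      · rw [e', hab.2 e']
      · rw [e, e']
    rw [card_cj] at h2
    omega
  set s := k⁻¹ * g with hs
  have hsL : s ∉ L := by
    intro hsL
    refine hgT₁ ?_
    rw [show g = k * s by rw [hs]; group, ← cj_cj, cj_eq_self (Hy.L_norm_V L hsL)]
    exact (cj_mono hVT₁ k).trans (cj_eq_self (hnT₁ (Subgroup.mem_sup_left hk.mem))).le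
  have hne1 : cj V s ⊓ L ≠ ⊥ := by
    intro hb
    refine hf1 ((conj_eq_one_iff (a := k⁻¹)).1 (Subgroup.mem_bot.1 (hb ▸ Subgroup.mem_inf.2 ⟨?_, ?_⟩)))
    · rw [hs, ← cj_cj]; exact conj_mem_cj hfF
    · exact hTL (hle ((Subgroup.mem_normalizer_iff.1 (hnT₁ (Subgroup.mem_sup_left (inv_mem hk.mem))) f).1
        (Subgroup.mem_inf.2 ⟨hgT' hfF, hfC⟩)).1)
  have hle1 := (o.pair_aux hV hsL hne1).1
  have hne2 : cj V s⁻¹ ⊓ L ≠ ⊥ := by
    intro hb
    refine hz1 ((conj_eq_one_iff (a := s⁻¹)).1 (Subgroup.mem_bot.1 (hb ▸ Subgroup.mem_inf.2 ⟨conj_mem_cj hzV, ?_⟩)))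
    have := mem_cj.1 (hle1 hzV)
    simpa using this
  have hle2 : cj V s ≤ L := by
    refine (cj_mono (o.pair_aux hV (fun h => hsL (inv_inv s ▸ inv_mem h)) hne2).1 s).trans ?_
    rw [cj_inv_cj]
  have hu' : k⁻¹ * u * k ∈ L := hle2 (by
    rw [hs, ← cj_cj, mem_cj]
    simpa [mul_assoc] using huF)
  -- `u` inverts `k` modulo the core
  have huK := hTK (hgT' huF)
  have hku : u * k * u⁻¹ ∈ K' := (Subgroup.mem_normalizer_iff.1 huK k).1 hk.mem
  obtain ⟨p, hp, i, hi, e⟩ := hk.split hku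
  rcases (show i = 0 ∨ i = 1 ∨ i = 2 by omega) with rfl | rfl | rfl
  · rw [pow_zero, mul_one] at e
    have hk1 : u * k * u⁻¹ = 1 := by
      obtain ⟨n, hn⟩ := isPGroup_pCoreOf K' ⟨p, hp⟩
      refine e ▸ eq_one_of_odd (n := n) (congrArg Subtype.val hn) ?_
      rw [e, show u * k * u⁻¹ = (MulAut.conj u).toMonoidHom k from rfl, orderOf_injective _ (MulAut.conj u).injective]
      exact Odd.of_dvd_nat (by decide) (orderOf_dvd_of_pow_eq_one hk.cube)
    exact hkL (by rw [conj_eq_one_iff.1 hk1]; exact one_mem L)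
  · refine huC (hfixC (hw₀T u (hgT' huF)) ?_)
    rw [pow_one] at e
    calc u * w₁ * u⁻¹ = (u * k * u⁻¹) * (u * w₀ * u⁻¹) * (u * k * u⁻¹)⁻¹ := by rw [hw₁def]; group
      _ = (p * k) * w₀ * (p * k)⁻¹ := by rw [← e, hw₀T u (hgT' huF), mul_inv_cancel_right]
      _ = p * w₁ * p⁻¹ := by rw [hw₁def]; group
      _ = w₁ := by rw [omegaCenter_comm (wOf_le_omega hw₁) hp, mul_inv_cancel_right]
  · have h1 : k⁻¹ * u * k * u⁻¹ ∈ L := mul_mem hu' (inv_mem (hTL (hle (hgT' huF))))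
    rw [show k⁻¹ * u * k * u⁻¹ = k⁻¹ * (u * k * u⁻¹) by group, ← e,
      show k⁻¹ * (p * k ^ 2) = (k⁻¹ * p * k⁻¹⁻¹) * k by rw [pow_two]; group] at h1
    refine hkL ((Subgroup.mul_mem_cancel_left _ ?_).1 h1)
    exact hTL (hle (hPT ((Subgroup.mem_normalizer_iff.1 (le_normalizer_pCoreOf K' (inv_mem hk.mem)) p).1 hp)))

/-- One component, and `Z₀` has order two. -/
theorem One.conclusion {K : Subgroup G} (hK : IsJComponent T K) :
    T ≤ Subgroup.normalizer (K : Set G) ∧ Nat.card ↥(zOf T) = 2 := by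
  have h := o.hy
  obtain ⟨F⟩ := h.factors
  have hWV : ∀ {K}, IsJComponent T K → wOf K = vOf L := fun {K} hK => by
    obtain ⟨k, E, d⟩ := component_in h F h rfl hK (o.comp hK).2.1
    refine Subgroup.eq_of_le_of_card_ge (d.plane.trans (Subgroup.commutator_le.2 fun v hv g hg =>
      (commutator_elem_mem hv (Hy.L_norm_V L ((o.comp hK).2.1 hg))).1)) ?_
    rw [o.card_V, hK.2.2.2.2.1]
  have hn : T ≤ Subgroup.normalizer (K : Set G) := by
    intro t ht
    have hK₁ := component_conj hK (normalizer_le_J T (Subgroup.le_normalizer ht))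
    rw [mem_normalizer_iff_cj]
    refine component_eq h F h rfl hK₁ (o.comp hK₁).2.1 h rfl hK (o.comp hK).2.1 ?_
    rw [hWV hK₁, hWV hK, inf_idem, ← hWV hK]
    exact wOf_ne_bot hK
  refine ⟨hn, ?_⟩
  obtain ⟨k, d, -⟩ := exists_kgen hK.1 hK.2.2.1
  have hb : fixZ T K = ⊥ := by
    by_contra hb
    obtain ⟨c₀, hc, hc1, hcT⟩ := exists_fixed o.ctx.pT ((isPGroup_elementary (omegaCenter_el _)).to_le inf_le_left) hb
      (fun t ht => by
        rw [mem_normalizer_iff_cj, fixZ_conj (normalizer_le_J T (Subgroup.le_normalizer ht)), cj_eq_self (hn ht)])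
    obtain ⟨hcZ, hcK⟩ := Subgroup.mem_inf.1 hc
    have hcQ : c₀ ∈ pCoreOf 2 L := h.centralizer_Q fun q hq => hcT q (h.Q_le_T hq)
    have hcW : c₀ ∈ wOf K := by
      rw [hWV hK]
      exact mem_omegaCenter hcQ ((omegaCenter_el _).2 _ hcZ) fun q hq => hcT q (h.Q_le_T hq)
    exact hc1 (d.fpf hcW (by rw [Subgroup.mem_centralizer_iff.1 hcK k d.mem, mul_inv_cancel_right]))
  have h2 := (fixZ_spec o.ctx.pT hK).1
  rw [hb, Subgroup.card_bot] at h2
  exact h2.symm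

end Cfsg.Agent.JComp
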