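import Cfsg.Agent.Lib.JComp.Bad

/-!
# The offenders in the subgroups `C_T(W)` of a pair
-/

set_option autoImplicit false
set_option linter.style.haveILetI false

open Cfsg
open scoped commutatorElement

namespace Cfsg.Agent.JComp

open Cfsg.Agent.Fusion

universe u

variable {G : Type u} [Group G] [Finite G] [Fact (Nat.Prime 2)]

/-- Any two four-groups over `T` with different maximal overgroups commute. -/
def AllComm (M T : Subgroup G) : Prop :=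
  ∀ K K' : Subgroup G, Side M T K → Side M T K' → locOf T K' ≠ locOf T K → wOf K ≤ qOf T K'

variable {M T K : Subgroup G} (c : Ctx M T) (s : Side M T K)
include c s

theorem Side.line_eq {z z' : G} (hz : z ∈ zOf T) (hzW : z ∈ wOf K) (hz1 : z ≠ 1) (hz' : z' ∈ zOf T)
    (hzW' : z' ∈ wOf K) (hz1' : z' ≠ 1) : z = z' := by
  obtain ⟨-, z₀, w, -, -, -, -, -, -, -, -, -, -, -, -, -, hline, -⟩ := s.frame c
  rw [(hline z hz hzW).resolve_left hz1, (hline z' hz' hzW').resolve_left hz1']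

theorem Side.line_not_fix {z : G} (hzW : z ∈ wOf K) (hz1 : z ≠ 1) : z ∉ Subgroup.centralizer (K : Set G) := by
  obtain ⟨k, -, -, d, -⟩ := s.frame c
  exact fun h => hz1 (d.fpf hzW (by rw [Subgroup.mem_centralizer_iff.1 h k d.mem, mul_inv_cancel_right]))

theorem Side.fix_eq {u v : G} (hu : u ∈ fixZ T K) (hu1 : u ≠ 1) (hv : v ∈ fixZ T K) (hv1 : v ≠ 1) : u = v := by
  have h1 := (c.spec s.comp s.notM s.hy).2
  have h2 := (fixZ_spec c.pT s.comp).1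
  have h3 : Nat.card ↥(fixZ T K) = 2 := by
    have : 1 < Nat.card ↥(fixZ T K) :=
      (Subgroup.one_lt_card_iff_ne_bot _).2 fun hb => hu1 (Subgroup.mem_bot.1 (hb ▸ hu))
    omega
  obtain ⟨a, -, -, h⟩ := exists_gen h3
  rw [(h u hu).resolve_left hu1, (h v hv).resolve_left hv1]

theorem Side.conj {x : G} (hx : x ∈ Subgroup.normalizer (T : Set G)) : Side M T (cj K x) := by
  have hJ := normalizer_le_J T hx
  refine ⟨component_conj s.comp hJ, c.conj_not_le s.notM hJ, ?_⟩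
  rw [← c.loc_conj s.comp s.notM hJ]
  have h := s.hy
  refine ⟨h.amb, h.pT, h.neT, ?_, ?_, ?_⟩
  · simpa only [cj_eq_self hx] using isSylowTwoIn_cj h.mem.1 x
  · rw [← pCoreOf_cj]
    intro hle
    refine h.mem.2.1 ?_
    rw [← cj_le_cj (g := x), cj_eq_self hJ]
    exact hle
  · rw [← pCoreOf_cj, ← cj_centralizer]
    exact cj_mono h.mem.2.2 x

/-- An offender pushed into `C_T(W)`. -/
theorem Side.push {A : Subgroup G} (hA : A ∈ mx T) : (A ⊓ qOf T K) ⊔ wOf K ∈ mx T := by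
  obtain ⟨-, z, w, -, -, -, -, hzZ, hzW, hz1, -, -, -, -, hwz, hfour, -, hswap, -⟩ := s.frame c
  set B := (A ⊓ qOf T K) ⊔ wOf K
  have hBT : B ≤ T := sup_le (inf_le_left.trans hA.1) ((s.w_le_q c).trans inf_le_left)
  have hB : El B := Local.elemAb_sup (Local.elemAb_mono hA.2.1 inf_le_left) wOf_el fun a ha b hb =>
    (Subgroup.mem_centralizer_iff.1 (Subgroup.mem_inf.1 (Subgroup.mem_inf.1 ha).2).2 b hb).symm
  refine mx_of_card hA hB hBT (fun C hC hC' => hA.2.2 C hC hC') ?_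
  have hinf : (A ⊓ qOf T K) ⊓ wOf K = A ⊓ wOf K :=
    le_antisymm (inf_le_inf_right _ inf_le_left) (le_inf (le_inf inf_le_left (inf_le_right.trans (s.w_le_q c)))
      inf_le_right)
  have hcard : Nat.card ↥(A ⊓ qOf T K) * 4 ≤ Nat.card B * Nat.card ↥(A ⊓ wOf K) := by
    rw [← hinf, ← s.comp.2.2.2.2.1]
    exact set_card_le le_sup_left le_sup_right
  show Nat.card A ≤ Nat.card B
  by_cases hle : A ≤ qOf T K
  · have hAq : Nat.card ↥(A ⊓ qOf T K) = Nat.card A := by rw [inf_eq_left.2 hle]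
    rw [hAq] at hcard
    have h4 : Nat.card ↥(A ⊓ wOf K) ≤ 4 := by
      rw [← s.comp.2.2.2.2.1]; exact Subgroup.card_le_of_le inf_le_right
    have := Nat.mul_le_mul_left (Nat.card B) h4
    omega
  · have h2 : Nat.card A ≤ 2 * Nat.card ↥(A ⊓ qOf T K) := by
      rw [← card_mul_relIndex_of_le (inf_le_left : A ⊓ qOf T K ≤ A), mul_comm]
      refine Nat.mul_le_mul_right _ ?_
      rw [inf_comm, Subgroup.inf_relIndex_right, ← s.relIndex_q c]
      exact Subgroup.relIndex_le_of_le_right hA.1 (by rw [Subgroup.relIndex]; exact Subgroup.index_ne_zero_of_finite)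
    obtain ⟨a, ha, haQ⟩ := SetLike.not_le_iff_exists.1 hle
    have hsw := hswap a (hA.1 ha) haQ
    have hAW : Nat.card ↥(A ⊓ wOf K) ≤ 2 := by
      refine le_trans (Subgroup.card_le_of_le (K := Subgroup.zpowers z) fun x hx => ?_) ?_
      · obtain ⟨hxA, hxW⟩ := Subgroup.mem_inf.1 hx
        have hax : a * x * a⁻¹ = x := by rw [Local.elemAb_commute hA.2.1 ha hxA, mul_inv_cancel_right]
        rcases hfour x hxW with e | e | e | e
        · rw [e]; exact one_mem _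
        · rw [e]; exact Subgroup.mem_zpowers z
        · rw [e, hsw] at hax; exact absurd (mul_eq_right.1 hax) hz1
        · rw [e, show a * (z * w) * a⁻¹ = (a * z * a⁻¹) * (a * w * a⁻¹) by group, hsw,
            s.z_central c hzZ (hA.1 ha), mul_inv_cancel_right] at hax
          exact absurd (mul_eq_right.1 (mul_left_cancel hax)) hz1
      · rw [Nat.card_zpowers, orderOf_eq_prime (wOf_el.2 z hzW) hz1]
    have := Nat.mul_le_mul_left (Nat.card B) hAW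
    omega

omit c s in
theorem mx_cj {A : Subgroup G} (hA : A ∈ mx T) {g : G} (hg : cj A g ≤ T) : cj A g ∈ mx T :=
  ⟨hg, (replFamily_elementary 2).map_equiv hA.2.1 (MulAut.conj g), fun C hC hC' => by
    show _ ≤ Nat.card ↥(cj A g)
    rw [card_cj]; exact hA.2.2 C hC hC'⟩

omit s in
variable {K₁ K₂ : Subgroup G} in
theorem Ctx.comm_symm (s₁ : Side M T K₁) (s₂ : Side M T K₂) (h : wOf K₁ ≤ qOf T K₂) : wOf K₂ ≤ qOf T K₁ :=
  fun x hx => Subgroup.mem_inf.2 ⟨(Subgroup.mem_inf.1 (s₂.w_le_q c hx)).1, Subgroup.mem_centralizer_iff.2 fun y hy =>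
    have _ := s₁
    (Subgroup.mem_centralizer_iff.1 (Subgroup.mem_inf.1 (h hy)).2 x hx).symm⟩

omit s

variable {K₁ K₂ : Subgroup G} (s₁ : Side M T K₁) (s₂ : Side M T K₂) (hne : locOf T K₂ ≠ locOf T K₁)
include s₁ s₂ hne

/-- Without a bad line the offenders in `C_T(W₁)` lie in `C_T(W₂)`. -/
theorem Ctx.good_mx (hc : wOf K₁ ≤ qOf T K₂) (hgood : ¬ Bad T K₁ K₂) {A : Subgroup G} (hA : A ∈ mx T)
    (h1 : A ≤ qOf T K₁) : A ≤ qOf T K₂ := by
  by_contra h2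
  obtain ⟨k, z, w, a, cf⟩ := c.conf_exists s₁ s₂ hc hA h1 h2
  have hz : k * z * k⁻¹ ≠ z := fun e => hgood ⟨z, cf.zZ, cf.zW, cf.z1, c.conf_bad_of_fix s₁ s₂ cf e⟩
  exact c.conf_measure s₁ s₂ cf (c.conf_commute s₁ s₂ cf hz) (fun h => hz (c.conf_dim_one s₁ s₂ cf hne h)) (Or.inl hz)

/-- The offenders in the two subgroups can't coincide. -/
theorem Ctx.same_mx_false (h : ∀ A ∈ mx T, A ≤ qOf T K₁ ↔ A ≤ qOf T K₂) : False := by
  obtain ⟨A, hA⟩ := mx_nonempty T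
  have hB := s₁.push c hA
  set B := (A ⊓ qOf T K₁) ⊔ wOf K₁
  set X : Subgroup G := ⨆ (C : Subgroup G) (_ : C ∈ mx T ∧ C ≤ qOf T K₁), C
  have hXq : X ≤ qOf T K₁ := iSup₂_le fun C hC => hC.2
  have hXne : X ≠ ⊥ := fun hb => wOf_ne_bot s₁.comp (le_bot_iff.1 (le_of_le_of_eq
    ((le_sup_right : wOf K₁ ≤ B).trans (le_iSup₂_of_le B ⟨hB, sup_le inf_le_right (s₁.w_le_q c)⟩ le_rfl)) hb))
  have hn : ∀ {K : Subgroup G}, Side M T K → (∀ C ∈ mx T, C ≤ qOf T K₁ ↔ C ≤ qOf T K) →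
      K ⊔ T ≤ Subgroup.normalizer (X : Set G) := by
    intro K sK hK g hg
    refine mem_normalizer_of_cj_le ?_
    rw [cj, Subgroup.map_iSup]
    refine iSup_le fun C => ?_
    rw [Subgroup.map_iSup]
    refine iSup_le fun hC => ?_
    have hCq : cj C g ≤ qOf T K := (cj_mono ((hK C hC.1).1 hC.2) g).trans (cj_eq_self (sK.q_norm c hg)).le
    have hCm := mx_cj hC.1 (hCq.trans inf_le_left)
    exact le_iSup₂_of_le (cj C g) ⟨hCm, (hK _ hCm).2 hCq⟩ le_rfl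
  refine c.no_common s₁.comp s₁.notM s₂.comp s₂.notM hne ⟨X, c.pT.to_inf_left.to_le hXq, hXne, rfl⟩
    ((sup_le_sup_left (J_le T) _).trans (hn s₁ fun C _ => Iff.rfl)) (le_sup_left.trans (hn s₂ h))

theorem Ctx.some_bad (hc : wOf K₁ ≤ qOf T K₂) : Bad T K₁ K₂ ∨ Bad T K₂ K₁ := by
  by_contra hno
  push Not at hno
  exact c.same_mx_false s₁ s₂ hne fun A hA => ⟨c.good_mx s₁ s₂ hne hc hno.1 hA,
    c.good_mx s₂ s₁ hne.symm (c.comm_symm s₁ s₂ hc) hno.2 hA⟩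

/-- With a single bad line there is an element of `Z₀` with centralizer outside `N(J(T))`. -/
theorem Ctx.single_bad (hc : wOf K₁ ≤ qOf T K₂) (hbad : Bad T K₁ K₂) (hgood : ¬ Bad T K₂ K₁) :
    ∃ z c₁ u, z ∈ fixZ T K₂ ∧ z ∈ wOf K₁ ∧ z ≠ 1 ∧ c₁ ∈ fixZ T K₁ ∧ c₁ ≠ 1 ∧ u = z * c₁ ∧ u ∈ wOf K₂ ∧
      u ∈ zOf T ∧ u ≠ 1 ∧ u ≠ z ∧ u ≠ c₁ ∧
      ¬ Subgroup.centralizer {u} ≤ Subgroup.normalizer (thompsonSubgroupOf 2 T : Set G) := by
  obtain ⟨z, hzZ, hzW, hz1, hzK⟩ := hbad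
  have hzf : z ∈ fixZ T K₂ := Subgroup.mem_inf.2 ⟨hzZ, hzK⟩
  have hcard : Nat.card ↥(zOf T) = 4 := by
    have h1 := (c.spec s₂.comp s₂.notM s₂.hy).2
    have h2 := (fixZ_spec c.pT s₂.comp).1
    have : 1 < Nat.card ↥(fixZ T K₂) :=
      (Subgroup.one_lt_card_iff_ne_bot _).2 fun hb => hz1 (Subgroup.mem_bot.1 (hb ▸ hzf))
    omega
  obtain ⟨c₁, hc₁, hc₁1, -⟩ := exists_gen (show Nat.card ↥(fixZ T K₁) = 2 by
    have := (fixZ_spec c.pT s₁.comp).1
    omega)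
  obtain ⟨-, u, -, -, -, -, -, huZ, huW, hu1, -⟩ := s₂.frame c
  have hu_z : u ≠ z := fun e => s₂.line_not_fix c huW hu1 (e ▸ hzK)
  have hu_c : u ≠ c₁ := fun e => hgood ⟨u, huZ, huW, hu1, e ▸ (Subgroup.mem_inf.1 hc₁).2⟩
  have hzc : z ≠ c₁ := fun e => s₁.line_not_fix c hzW hz1 (e ▸ (Subgroup.mem_inf.1 hc₁).2)
  have hueq : u = z * c₁ := by
    rcases four_cases (omegaCenter_el _) hcard hzZ (Subgroup.mem_inf.1 hc₁).1 hz1 hc₁1 hzc u huZ with e | e | e | e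
    exacts [absurd e hu1, absurd e hu_z, absurd e hu_c, e]
  -- the offenders in `C_T(W₂)` lie in `C_T(W₁)`
  have h21 : ∀ {A : Subgroup G}, A ∈ mx T → A ≤ qOf T K₂ → A ≤ qOf T K₁ :=
    fun hA h => c.good_mx s₂ s₁ hne.symm (c.comm_symm s₁ s₂ hc) hgood hA h
  obtain ⟨A, hA, hA1, hA2⟩ : ∃ A ∈ mx T, A ≤ qOf T K₁ ∧ ¬ A ≤ qOf T K₂ := by
    by_contra hno
    push Not at hno
    exact c.same_mx_false s₁ s₂ hne fun A hA => ⟨hno A hA, h21 hA⟩
  obtain ⟨k, z₀, w, a, cf⟩ := c.conf_exists s₁ s₂ hc hA hA1 hA2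
  obtain rfl : z = z₀ := s₁.line_eq c hzZ hzW hz1 cf.zZ cf.zW cf.z1
  refine ⟨z, c₁, u, hzf, hzW, hz1, hc₁, hc₁1, hueq, huW, huZ, hu1, hu_z, hu_c, hueq ▸ ?_⟩
  -- the conjugates are dependent
  have hdim : w⁻¹ * (k * w * k⁻¹) ∈ eOf T K₂ := by
    by_contra hdim
    set B := (A ⊓ qOf T K₂) ⊔ wOf K₂
    have hB : B ∈ mx T := s₂.push c hA
    have hBq : B ≤ qOf T K₂ := sup_le inf_le_right (s₂.w_le_q c)
    have hBC : ∀ b ∈ B, b * w = w * b := fun b hb =>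
      (Subgroup.mem_centralizer_iff.1 (Subgroup.mem_inf.1 (h21 hB hBq hb)).2 w cf.wW).symm
    have hwB : w ∈ B := by
      by_contra hwB
      have hle : B ⊔ Subgroup.zpowers w ≤ T := sup_le hB.1
        (Subgroup.zpowers_le.2 (Subgroup.mem_inf.1 (cf.comm cf.wW)).1)
      refine hwB ((Subgroup.eq_of_le_of_card_ge (le_sup_left : B ≤ B ⊔ Subgroup.zpowers w)
        (hB.2.2 _ hle (Local.elemAb_sup hB.2.1 (Local.elemAb_mono wOf_el (Subgroup.zpowers_le.2 cf.wW))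
          fun b hb x hx => ?_))) ▸ Subgroup.mem_sup_right (Subgroup.mem_zpowers w))
      obtain ⟨n, rfl⟩ := Subgroup.mem_zpowers_iff.1 hx
      exact ((show Commute b w from hBC b hb).zpow_right n).eq
    -- `B` centralizes the conjugates
    have hcomm : ∀ i : ℕ, ∀ b ∈ B, b * (k ^ i * w * (k ^ i)⁻¹) = (k ^ i * w * (k ^ i)⁻¹) * b := by
      intro i b hb
      have hg : (k ^ i)⁻¹ ∈ K₂ ⊔ T := Subgroup.mem_sup_left (inv_mem (pow_mem cf.gen.mem i))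
      have hq : cj B (k ^ i)⁻¹ ≤ qOf T K₂ := (cj_mono hBq _).trans (cj_eq_self (s₂.q_norm c hg)).le
      have h := Subgroup.mem_centralizer_iff.1
        (Subgroup.mem_inf.1 (h21 (mx_cj hB (hq.trans inf_le_left)) hq (conj_mem_cj hb))).2 w cf.wW
      rw [inv_inv] at h
      calc b * (k ^ i * w * (k ^ i)⁻¹) = k ^ i * (((k ^ i)⁻¹ * b * k ^ i) * w) * (k ^ i)⁻¹ := by group
        _ = k ^ i * (w * ((k ^ i)⁻¹ * b * k ^ i)) * (k ^ i)⁻¹ := by rw [h]
        _ = _ := by group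
    refine c.conf_measure s₁ s₂ cf (fun i _ => hcomm i w hwB) hdim (Or.inr fun r hr => ?_)
    simpa using hcomm 1 r (Subgroup.mem_sup_left hr)
  exact c.conf_third s₁ s₂ cf hne hdim hc₁ hc₁1

end Cfsg.Agent.JComp
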