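import Cfsg.Agent.Lib.JComp.Shape
import Cfsg.Agent.S2947

/-!
# A pair of four-groups not centralizing each other exists
-/

set_option autoImplicit false
set_option linter.style.haveILetI false

open Cfsg
open scoped commutatorElement

namespace Cfsg.Agent.JComp

open Cfsg.Agent.Fusion

universe u

variable {G : Type u} [Group G] [Finite G] [Fact (Nat.Prime 2)] {M T : Subgroup G} (c : Ctx M T)
include c

theorem Ctx.bad_swap {K K' : Subgroup G} (s : Side M T K) (s' : Side M T K') {x : G}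
    (hx : x ∈ Subgroup.normalizer (T : Set G)) {n : ℕ} (hx2 : x ^ 2 ^ n = 1) (hK : cj K x = K')
    (h : Bad T K K') : Bad T K' K := by
  have hxJ := normalizer_le_J T hx
  obtain ⟨z, hzZ, hzW, hz1, hzC⟩ := h
  have hzf : z ∈ fixZ T K' := Subgroup.mem_inf.2 ⟨hzZ, hzC⟩
  obtain ⟨e, he, hez⟩ : ∃ e ∈ fixZ T K, x * e * x⁻¹ = z := by
    rw [← hK, ← fixZ_conj hxJ] at hzf
    exact ⟨x⁻¹ * z * x, mem_cj.1 hzf, by group⟩
  have he1 : e ≠ 1 := fun h => hz1 (by rw [← hez, h, mul_one, mul_inv_cancel])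
  obtain ⟨heZ, heC⟩ := Subgroup.mem_inf.1 he
  have hne : e ≠ z := fun h => s.line_not_fix c hzW hz1 (h ▸ heC)
  have hcard : Nat.card ↥(zOf T) = 4 := by
    have h1 := (c.spec s.comp s.notM s.hy).2
    have h2 := (fixZ_spec c.pT s.comp).1
    have : 1 < Nat.card ↥(fixZ T K) :=
      (Subgroup.one_lt_card_iff_ne_bot _).2 fun hb => he1 (Subgroup.mem_bot.1 (hb ▸ he))
    omega
  have _ := s'
  have hxz : x * z * x⁻¹ ∈ wOf K' := hK ▸ wOf_cj K x ▸ conj_mem_cj hzW
  have hxzZ : x * z * x⁻¹ ∈ zOf T := (Subgroup.mem_normalizer_iff.1 (omegaCenter_norm hxJ) z).1 hzZ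
  refine ⟨x * z * x⁻¹, hxzZ, hxz, fun h => hz1 (conj_eq_one_iff.1 h), ?_⟩
  rcases four_cases (omegaCenter_el _) hcard heZ hzZ he1 hz1 hne _ hxzZ with h | h | h | h
  · exact absurd (conj_eq_one_iff.1 h) hz1
  · rw [h]; exact heC
  · exact absurd (mul_left_cancel (mul_right_cancel (hez.trans h.symm))) hne
  · exfalso
    have hzz : z * z = 1 := by rw [← pow_two]; exact (omegaCenter_el _).2 z hzZ
    have h3 : x ^ 3 * e * (x ^ 3)⁻¹ = e := by
      calc x ^ 3 * e * (x ^ 3)⁻¹ = x * (x * (x * e * x⁻¹) * x⁻¹) * x⁻¹ := by simp [pow_succ, mul_assoc]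
        _ = x * (e * z) * x⁻¹ := by rw [hez, h]
        _ = (x * e * x⁻¹) * (x * z * x⁻¹) := by group
        _ = z * (e * z) := by rw [hez, h]
        _ = e := by rw [Local.elemAb_commute (omegaCenter_el _) heZ hzZ, ← mul_assoc, hzz, one_mul]
    have hxe : x ∈ Subgroup.centralizer {e} := mem_of_pow_two_odd (o := 3) (n := n) (by decide)
      (by rw [hx2]; exact one_mem _) (Subgroup.mem_centralizer_singleton_iff.2 (mul_inv_eq_iff_eq_mul.1 h3))
    refine hne ?_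
    rw [← hez, Subgroup.mem_centralizer_singleton_iff.1 hxe, mul_inv_cancel_right]

/-- A component and its conjugate don't have commuting four-groups. -/
theorem Ctx.nc_of_growth {K : Subgroup G} (s : Side M T K) {x : G} (hx : x ∈ Subgroup.normalizer (T : Set G))
    {n : ℕ} (hx2 : x ^ 2 ^ n = 1) (hne : locOf T (cj K x) ≠ locOf T K) : ¬ wOf K ≤ qOf T (cj K x) := by
  intro hc
  have s' := s.conj c hx
  rcases c.some_bad s s' hne hc with h | h
  · exact c.not_double_bad s s' hne hc ⟨h, c.bad_swap s s' hx hx2 rfl h⟩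
  · exact c.not_double_bad s s' hne hc
      ⟨c.bad_swap s' s (inv_mem hx) (n := n) (by rw [inv_pow, hx2, inv_one]) (by rw [cj_cj, inv_mul_cancel, cj_one]) h, h⟩

omit c in
theorem le_normalizer_zpowers {u g : G} (h : g * u = u * g) : g ∈ Subgroup.normalizer (Subgroup.zpowers u : Set G) := by
  rw [mem_normalizer_iff_cj, cj, MonoidHom.map_zpowers]
  show Subgroup.zpowers (g * u * g⁻¹) = _
  rw [h, mul_inv_cancel_right]

omit c in
/-- A component above `T` in a two-local subgroup outside `N(J(T))`. -/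
theorem Ctx.side_in {T : Subgroup G} (c : Ctx (Subgroup.normalizer (thompsonSubgroupOf 2 T : Set G)) T)
    (hS : SylIn 2 T ⊤) {X : Subgroup G} (hX : IsTwoLocal X) (hT : T ≤ X)
    (hnot : ¬ X ≤ Subgroup.normalizer (thompsonSubgroupOf 2 T : Set G)) :
    ∃ K, Side (Subgroup.normalizer (thompsonSubgroupOf 2 T : Set G)) T K ∧ K ≤ X ∧ X ≤ locOf T K := by
  obtain ⟨-, -, h, -⟩ := c.main hX hnot (isSylowTwoIn_of_sylIn (hS.mono hT le_top)) (J_le T)
  obtain ⟨F⟩ := h.factors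
  obtain ⟨A, hA, E, hE, t, ht, htC⟩ := exists_meeting c.amb c.sub.choose_spec c.max h F
  obtain ⟨K, hK, hKX, -⟩ := exists_component h F hA hE ht htC
  have hKM := comp_not_norm c.pT hK
  have hle : X ≤ locOf T K := c.le_loc hK hKM hX (sup_le hKX h.J_le_L)
  obtain ⟨hmax, hKL, -⟩ := c.loc_spec hK hKM
  refine ⟨K, ⟨hK, hKM, ?_⟩, hKX, hle⟩
  exact (c.main hmax.1 (fun h' => hKM (hKL.trans h'))
    (isSylowTwoIn_of_sylIn (hS.mono (hT.trans hle) le_top)) (J_le T)).2.2.1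

omit c in
/-- Two components over a Sylow subgroup give a pair of four-groups not commuting. -/
theorem Ctx.nc_sylow {T : Subgroup G} (c : Ctx (Subgroup.normalizer (thompsonSubgroupOf 2 T : Set G)) T)
    (hS : SylIn 2 T ⊤) {K₁ K₂ : Subgroup G} (s₁ : Side (Subgroup.normalizer (thompsonSubgroupOf 2 T : Set G)) T K₁)
    (s₂ : Side (Subgroup.normalizer (thompsonSubgroupOf 2 T : Set G)) T K₂) (hne : locOf T K₂ ≠ locOf T K₁) :
    ∃ K K' : Subgroup G, Side (Subgroup.normalizer (thompsonSubgroupOf 2 T : Set G)) T K ∧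
      Side (Subgroup.normalizer (thompsonSubgroupOf 2 T : Set G)) T K' ∧
      locOf T K' ≠ locOf T K ∧ ¬ wOf K ≤ qOf T K' := by
  by_contra hno
  push Not at hno
  have hall : AllComm (Subgroup.normalizer (thompsonSubgroupOf 2 T : Set G)) T := hno
  suffices key : ∀ K₁ K₂, Side (Subgroup.normalizer (thompsonSubgroupOf 2 T : Set G)) T K₁ →
      Side (Subgroup.normalizer (thompsonSubgroupOf 2 T : Set G)) T K₂ →
      locOf T K₂ ≠ locOf T K₁ → Bad T K₁ K₂ → False by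
    rcases c.some_bad s₁ s₂ hne (hall _ _ s₁ s₂ hne) with h | h
    · exact key _ _ s₁ s₂ hne h
    · exact key _ _ s₂ s₁ hne.symm h
  clear s₁ s₂ hne K₁ K₂
  intro K₁ K₂ s₁ s₂ hne hbad
  have hc := hall _ _ s₁ s₂ hne
  have hgood : ¬ Bad T K₂ K₁ := fun h => c.not_double_bad s₁ s₂ hne hc ⟨hbad, h⟩
  obtain ⟨z, c₁, u, hzf, hzW, hz1, hc₁, hc₁1, -, huW, huZ, hu1, huz, huc, hnot⟩ :=
    c.single_bad s₁ s₂ hne hc hbad hgood
  -- the third component
  have hX : IsTwoLocal (Subgroup.normalizer (Subgroup.zpowers u : Set G)) :=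
    ⟨_, (isPGroup_elementary (omegaCenter_el _)).to_le (Subgroup.zpowers_le.2 huZ),
      fun hb => hu1 (Subgroup.zpowers_eq_bot.1 hb), rfl⟩
  obtain ⟨K₃, s₃, hK₃, -⟩ := c.side_in hS hX (fun t ht => le_normalizer_zpowers (s₁.z_central c huZ ht))
    (fun hle => hnot fun g hg => hle (le_normalizer_zpowers (Subgroup.mem_centralizer_singleton_iff.1 hg)))
  have hu2 : u ^ 2 = 1 := (omegaCenter_el _).2 u huZ
  have hu₃ : u ∈ fixZ T K₃ := Subgroup.mem_inf.2 ⟨huZ, Subgroup.mem_centralizer_iff.2 fun g hg => by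
    have h1 : g * u * g⁻¹ ∈ Subgroup.zpowers u :=
      (Subgroup.mem_normalizer_iff.1 (hK₃ hg) u).1 (Subgroup.mem_zpowers u)
    obtain ⟨i, hi⟩ := Subgroup.mem_zpowers_iff.1 h1
    rcases Int.even_or_odd i with ⟨j, rfl⟩ | ⟨j, rfl⟩
    · rw [← two_mul, zpow_mul, zpow_ofNat, hu2, one_zpow] at hi
      exact absurd (conj_eq_one_iff.1 hi.symm) hu1
    · rw [zpow_add_one, zpow_mul, zpow_ofNat, hu2, one_zpow, one_mul] at hi
      exact mul_inv_eq_iff_eq_mul.1 hi.symm⟩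
  have huz₁ : z ∉ Subgroup.centralizer (K₁ : Set G) := s₁.line_not_fix c hzW hz1
  have hne₁ : locOf T K₃ ≠ locOf T K₁ := by
    intro e
    have hK : K₃ ≠ K₁ := fun e' => huc (s₁.fix_eq c (e' ▸ hu₃) hu1 hc₁ hc₁1)
    have hcen := c.other_centralizes s₁ s₃.comp ((c.loc_spec s₃.comp s₃.notM).2.1.trans e.le) hK
    refine huz (s₃.fix_eq c hu₃ hu1 (Subgroup.mem_inf.2 ⟨(Subgroup.mem_inf.1 hzf).1, ?_⟩) hz1)
    exact Subgroup.mem_centralizer_iff.2 fun g hg => (Subgroup.mem_centralizer_iff.1 (hcen hg) z hzW).symm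
  obtain ⟨-, z₃, -, -, -, -, -, hz₃Z, hz₃W, hz₃1, -⟩ := s₃.frame c
  have hg₁₃ : ¬ Bad T K₁ K₃ := fun ⟨v, hvZ, hvW, hv1, hvC⟩ => by
    have e : v = u := s₃.fix_eq c (Subgroup.mem_inf.2 ⟨hvZ, hvC⟩) hv1 hu₃ hu1
    exact huz ((s₁.line_eq c hvZ hvW hv1 (Subgroup.mem_inf.1 hzf).1 hzW hz1) ▸ e).symm
  have hc₁₃ := hall _ _ s₁ s₃ hne₁
  obtain ⟨v, hvZ, hvW, hv1, hvC⟩ := (c.some_bad s₁ s₃ hne₁ hc₁₃).resolve_left hg₁₃
  obtain rfl : v = c₁ := s₁.fix_eq c (Subgroup.mem_inf.2 ⟨hvZ, hvC⟩) hv1 hc₁ hc₁1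
  have hzc : z ≠ v := fun e => huz₁ (e ▸ hvC)
  have hne₂ : locOf T K₂ ≠ locOf T K₃ := by
    intro e
    have hK : K₂ ≠ K₃ := fun e' => s₂.line_not_fix c huW hu1 (e' ▸ (Subgroup.mem_inf.1 hu₃).2)
    have hcen := c.other_centralizes s₃ s₂.comp ((c.loc_spec s₂.comp s₂.notM).2.1.trans e.le) hK
    refine hzc (s₂.fix_eq c hzf hz1 (Subgroup.mem_inf.2 ⟨hvZ, ?_⟩) hv1)
    exact Subgroup.mem_centralizer_iff.2 fun g hg => (Subgroup.mem_centralizer_iff.1 (hcen hg) v hvW).symm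
  have hg₃₂ : ¬ Bad T K₃ K₂ := fun ⟨v', hvZ', hvW', hv1', hvC'⟩ => by
    obtain rfl : v' = v := s₃.line_eq c hvZ' hvW' hv1' hvZ hvW hv1
    exact hzc (s₂.fix_eq c hzf hz1 (Subgroup.mem_inf.2 ⟨hvZ', hvC'⟩) hv1')
  -- the cycle
  refine c.same_mx_false s₁ s₂ hne fun A hA => ⟨fun h1 => ?_, fun h2 => ?_⟩
  · exact c.good_mx s₃ s₂ hne₂ (hall _ _ s₃ s₂ hne₂) hg₃₂ hA (c.good_mx s₁ s₃ hne₁ hc₁₃ hg₁₃ hA h1)
  · exact c.good_mx s₂ s₁ hne.symm (hall _ _ s₂ s₁ hne.symm) hgood hA h2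

/-- The case of a single maximal subgroup above `T`. -/
theorem Ctx.lonely_false (hS : SylIn 2 T ⊤) {K : Subgroup G} (s : Side M T K) (hNJ : Subgroup.normalizer (thompsonSubgroupOf 2 T : Set G) ≤ locOf T K)
    (hcz : ∀ v ∈ zOf T, v ≠ 1 → Subgroup.centralizer {v} ≤ locOf T K)
    (hne : (straddlingTwoSubgroups (locOf T K)).Nonempty) (hT : T ∉ straddlingTwoSubgroups (locOf T K)) : False := by
  set L := locOf T K
  have hKL : K ≤ L := (c.loc_spec s.comp s.notM).2.1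
  have hTsyl := s.hy.syl
  obtain ⟨P, hP⟩ := hS.exists_sylow
  -- a largest straddling subgroup inside `T`
  obtain ⟨T₁, hT₁⟩ := exists_max hne
  obtain ⟨m, hm, hmT⟩ := hTsyl.conj_le hT₁.1.1 hT₁.1.2.2.1
  set T' := cj T₁ m
  have hT' : T' ∈ maxStraddlingTwoSubgroups L := max_cj hT₁ hm
  have hT'ne : T' ≠ T := fun e => hT (e ▸ hT'.1)
  have c' : Ctx L T' := ⟨c.amb, c.core, hT', P, by rw [hP]; exact hNJ⟩
  obtain ⟨K', ⟨hK'c, -⟩, hK'M, hcore⟩ :=
    outside_nonempty c.amb (S := P) (M := L) (by rw [hP]; exact hNJ) hT'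
  have s' : Side L T' K' := ⟨hK'c, hK'M, c'.outside_hy hK'c hK'M hcore⟩
  obtain ⟨x, hxT, hxN, -, hKx, hKxM, hxne⟩ := c'.two_of_growth hK'c hK'M s'.hy c.pT hmT hT'ne
  obtain ⟨n, hn⟩ := c.pT ⟨x, hxT⟩
  have hx2 : x ^ 2 ^ n = 1 := congrArg Subtype.val hn
  have hnc := c'.nc_of_growth s' hxN hx2 hxne
  have sx := s'.conj c' hxN
  obtain ⟨hsh, -, hinv, -⟩ := c'.nc_spec s' sx hxne hnc
  -- the line of `W_K`
  obtain ⟨k, z, w, d, -, -, -, hzZ, hzW, hz1, hw, hwW, hwT, -, -, hfour, -, hswap, -⟩ := s.frame c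
  have hWT : wOf K ≤ T := (s.w_le_q c).trans inf_le_left
  have hzT' : z ∈ zOf T' := by
    have hzQ := s'.hy.centralizer_Q fun q hq => s.z_central c hzZ (hmT (s'.hy.Q_le_T hq))
    exact omega_le_zOf T' (mem_omegaCenter (s'.hy.Q_le_T hzQ) ((omegaCenter_el _).2 z hzZ)
      fun t ht => s.z_central c hzZ (hmT ht))
  have hcomm : ∀ v ∈ wOf K, ∀ t ∈ T, t * v * t⁻¹ = v ∨ t * v * t⁻¹ = z * v := by
    intro v hv t ht
    by_cases htQ : t ∈ qOf T K
    · exact Or.inl (by rw [← Subgroup.mem_centralizer_iff.1 (Subgroup.mem_inf.1 htQ).2 v hv, mul_inv_cancel_right])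
    have htz : t * z * t⁻¹ = z := by rw [s.z_central c hzZ ht, mul_inv_cancel_right]
    rcases hfour v hv with rfl | rfl | rfl | rfl
    · exact Or.inl (by simp)
    · exact Or.inl htz
    · exact Or.inr (hswap t ht htQ)
    · exact Or.inr (by rw [← conj_mul, htz, hswap t ht htQ])
  -- `W_K` lies in `T'`
  have hWT' : wOf K ≤ T' := by
    intro v hv
    by_contra hvT'
    have hv2 : v ^ 2 = 1 := wOf_el.2 v hv
    have hz2 : z * z = 1 := by rw [← pow_two]; exact (omegaCenter_el _).2 z hzZ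
    have hmove : ∀ t ∈ T, v * t * v⁻¹ = t ∨ v * t * v⁻¹ = z * t := by
      intro t ht
      rcases hcomm v hv t ht with e | e
      · left
        rw [← mul_inv_eq_iff_eq_mul.1 e, mul_inv_cancel_right]
      · right
        have h1 : t * v = z * v * t := mul_inv_eq_iff_eq_mul.1 e
        have h2 : v * t = z * (t * v) := by rw [h1, ← mul_assoc, ← mul_assoc, hz2, one_mul]
        rw [h2, ← mul_assoc, mul_inv_cancel_right]
    have hvN : v ∈ Subgroup.normalizer (T' : Set G) := mem_normalizer_of_cj_le (by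
      rintro _ ⟨t, ht, rfl⟩
      show v * t * v⁻¹ ∈ T'
      rcases hmove t (hmT ht) with e | e <;> rw [e]
      exacts [ht, mul_mem (c'.z_mem_T hzT') ht])
    have hvL : v ∉ locOf T' K' := by
      intro h
      refine hvT' ?_
      have e := s'.hy.syl.eq_of_le (c.pT.to_le (sup_le hmT (Subgroup.zpowers_le.2 (hWT hv)))) le_sup_left
        (sup_le s'.hy.T_le (Subgroup.zpowers_le.2 h))
      exact e ▸ Subgroup.mem_sup_right (Subgroup.mem_zpowers v)
    have hne' : locOf T' (cj K' v) ≠ locOf T' K' := fun e => hvL (maximal_self_norm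
      (c'.loc_spec hK'c hK'M).1 ((c'.loc_conj hK'c hK'M (normalizer_le_J T' hvN)).trans e))
    refine c'.nc_of_growth s' hvN (n := 1) (by simpa using hv2) hne'
      (c'.comm_symm (s'.conj c' hvN) s' fun y hy => ?_)
    rw [← wOf_cj] at hy
    obtain ⟨y, hy', rfl⟩ := hy
    show v * y * v⁻¹ ∈ qOf T' K'
    rcases hmove y (hmT (Subgroup.mem_inf.1 (s'.w_le_q c' hy')).1) with e | e <;> rw [e]
    exacts [s'.w_le_q c' hy', mul_mem (s'.zOf_le_q c' hzT') (s'.w_le_q c' hy')]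
  -- `W_K` lies in the centre of `J(T')`
  have hxW : x ∈ Subgroup.normalizer (wOf K : Set G) := wOf_norm_of (s.norm c hxT)
  have hcq : cj (qOf T' K') x = qOf T' (cj K' x) := by
    rw [cj_inf, cj_eq_self hxN, cj_centralizer, wOf_cj]
  have hboth : wOf K ≤ qOf T' K' ⊓ qOf T' (cj K' x) := by
    by_cases hA : wOf K ≤ qOf T' K'
    · exact le_inf hA ((cj_eq_self hxW).ge.trans ((cj_mono hA x).trans hcq.le))
    · obtain ⟨v, hv, hvn⟩ := SetLike.not_le_iff_exists.1 hA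
      have hB : wOf K ≤ qOf T' (cj K' x) := by
        intro u hu
        by_contra hun
        have hu' := (hinv u (hWT' hu) (wOf_el.2 u hu)).resolve_right hun
        have hv' := (hinv v (hWT' hv) (wOf_el.2 v hv)).resolve_left hvn
        rcases hinv (v * u) (hWT' (mul_mem hv hu)) (wOf_el.2 _ (mul_mem hv hu)) with h | h
        · exact hvn ((Subgroup.mul_mem_cancel_right _ hu').1 h)
        · exact hun ((Subgroup.mul_mem_cancel_left _ hv').1 h)
      exact le_inf (by rwa [← cj_le_cj (g := x), cj_eq_self hxW, hcq]) hB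
  have hle : qOf T' K' ⊓ qOf T' (cj K' x) = zOf T' := by
    refine (Subgroup.eq_of_le_of_card_ge (le_inf (s'.zOf_le_q c') (sx.zOf_le_q c')) ?_).symm
    have h1 := card_mul_relIndex_of_le (inf_le_left : qOf T' K' ⊓ qOf T' (cj K' x) ≤ qOf T' K')
    rw [hsh.card] at h1
    have h2 : 2 ≤ (qOf T' K' ⊓ qOf T' (cj K' x)).relIndex (qOf T' K') := by
      have hne0 : (qOf T' K' ⊓ qOf T' (cj K' x)).relIndex (qOf T' K') ≠ 0 := by
        rw [Subgroup.relIndex]; exact Subgroup.index_ne_zero_of_finite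
      have hne1 : (qOf T' K' ⊓ qOf T' (cj K' x)).relIndex (qOf T' K') ≠ 1 := fun e =>
        c'.q_ne sx s' hxne.symm ((Subgroup.relIndex_eq_one.1 e).trans inf_le_right)
      omega
    have h3 := Nat.mul_le_mul_left (Nat.card ↥(qOf T' K' ⊓ qOf T' (cj K' x))) h2
    show Nat.card ↥(qOf T' K' ⊓ qOf T' (cj K' x)) ≤ Nat.card ↥(zOf T')
    omega
  have hWZ : wOf K ≤ zOf T' := hboth.trans hle.le
  have h4 : Nat.card ↥(zOf T') ≤ 4 := (c'.spec hK'c hK'M s'.hy).2
  have hWeq : wOf K = zOf T' := Subgroup.eq_of_le_of_card_ge hWZ (h4.trans s.comp.2.2.2.2.1.ge)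
  have hfixne : fixZ T' K' ≠ ⊥ := fun hb => by
    have h := (fixZ_spec c'.pT hK'c).1
    rw [hb, Subgroup.card_bot, ← hWeq, s.comp.2.2.2.2.1] at h
    omega
  obtain ⟨v, hv, hv1⟩ := (fixZ T' K').bot_or_exists_ne_one.resolve_left hfixne
  have hcW : ∀ v ∈ wOf K, v ≠ 1 → Subgroup.centralizer {v} ≤ L := by
    have hconj : ∀ g ∈ L, ∀ v, g * z * g⁻¹ = v → Subgroup.centralizer {v} ≤ L := by
      intro g hg v e y hy
      have hyv : y * v = v * y := Subgroup.mem_centralizer_singleton_iff.1 hy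
      have hzv : z = g⁻¹ * v * g := by rw [← e]; group
      have h1 : g⁻¹ * y * g ∈ L := hcz z hzZ hz1 (Subgroup.mem_centralizer_singleton_iff.2 (by
        calc g⁻¹ * y * g * z = g⁻¹ * (y * v) * g := by rw [hzv]; group
          _ = g⁻¹ * (v * y) * g := by rw [hyv]
          _ = z * (g⁻¹ * y * g) := by rw [hzv]; group))
      simpa [mul_assoc] using mul_mem (mul_mem hg h1) (inv_mem hg)
    intro v hv hv1
    rcases hfour v hv with h | h | h | h
    · exact absurd h hv1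
    · exact hconj 1 (one_mem _) v (by simp [h])
    · exact hconj k (hKL d.mem) v (by rw [h, hw])
    · refine hconj (k ^ 2) (pow_mem (hKL d.mem) 2) v ?_
      have hkz : k * z * k⁻¹ ∈ wOf K := hw ▸ hwW
      rw [h, hw]
      exact (eq_inv_of_mul_eq_one_right (d.nm_wOf hzW)).trans (El.inv_eq wOf_el (mul_mem hzW hkz))
  refine hK'M (le_trans (fun g hg => ?_) (hcW v (hWeq ▸ (Subgroup.mem_inf.1 hv).1) hv1))
  exact Subgroup.mem_centralizer_singleton_iff.2 (Subgroup.mem_centralizer_iff.1 (Subgroup.mem_inf.1 hv).2 g hg)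

/-- Some pair of four-groups over `T` doesn't commute. -/
theorem Ctx.exists_nc : ∃ M' K₁ K₂ : Subgroup G, Ctx M' T ∧ Side M' T K₁ ∧ Side M' T K₂ ∧
    locOf T K₂ ≠ locOf T K₁ ∧ ¬ wOf K₁ ≤ qOf T K₂ := by
  obtain ⟨S₀, hS₀⟩ := c.sub
  obtain ⟨K, ⟨hKc, -⟩, hKM, hcore⟩ := outside_nonempty c.amb hS₀ c.max
  have hy := c.outside_hy hKc hKM hcore
  obtain ⟨P, hP⟩ := c.pT.exists_le_sylow
  by_cases hTP : T ≠ (P : Subgroup G)
  · have s : Side M T K := ⟨hKc, hKM, hy⟩
    obtain ⟨x, hxP, hxN, -, -, -, hne⟩ := c.two_of_growth hKc hKM hy P.isPGroup' hP hTP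
    obtain ⟨n, hn⟩ := P.isPGroup' ⟨x, hxP⟩
    exact ⟨M, K, cj K x, c, s, s.conj c hxN, hne, c.nc_of_growth s hxN (congrArg Subtype.val hn) hne⟩
  push Not at hTP
  have hS : SylIn 2 T ⊤ := hTP ▸ sylIn_top P
  have c' := c.switch hS hKc hy hKM
  have hKN := comp_not_norm c.pT hKc
  set N := Subgroup.normalizer (thompsonSubgroupOf 2 T : Set G)
  have s : Side N T K := ⟨hKc, hKN, hy⟩
  obtain ⟨hmax, hKL, hJL⟩ := c'.loc_spec hKc hKN
  suffices hex : ∃ K', Side N T K' ∧ locOf T K' ≠ locOf T K by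
    obtain ⟨K', s', hne⟩ := hex
    obtain ⟨A, B, sA, sB, h1, h2⟩ := c'.nc_sylow hS s s' hne
    exact ⟨N, A, B, c', sA, sB, h1, h2⟩
  by_contra hno
  push Not at hno
  have h4 := (c'.spec hKc hKN hy).2
  have hfix := (fixZ_spec c'.pT hKc).1
  have hpos : 1 ≤ Nat.card ↥(fixZ T K) := Nat.card_pos
  rcases (show Nat.card ↥(zOf T) = 2 ∨ Nat.card ↥(zOf T) = 4 by omega) with h2 | h2
  swap
  · -- another component exists
    have hex : ∃ K', IsJComponent T K' ∧ locOf T K' ≠ locOf T K := by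
      by_contra h
      push Not at h
      have o : One T (locOf T K) := ⟨c', hS, hmax, h, K, hKc⟩
      have := (o.conclusion hKc).2
      omega
    obtain ⟨K', hK', hne⟩ := hex
    have hKN' := comp_not_norm c.pT hK'
    obtain ⟨v, hv, hv1⟩ := (fixZ T K').bot_or_exists_ne_one.resolve_left fun hb => by
      have h := (fixZ_spec c'.pT hK').1
      rw [hb, Subgroup.card_bot, h2] at h
      omega
    have hX : IsTwoLocal (Subgroup.normalizer (Subgroup.zpowers v : Set G)) :=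
      ⟨_, (isPGroup_elementary (omegaCenter_el _)).to_le (Subgroup.zpowers_le.2 (Subgroup.mem_inf.1 hv).1),
        fun hb => hv1 (Subgroup.zpowers_eq_bot.1 hb), rfl⟩
    have hTn : ∀ t ∈ T, t ∈ Subgroup.normalizer (Subgroup.zpowers v : Set G) := fun t ht =>
      le_normalizer_zpowers (s.z_central c' (Subgroup.mem_inf.1 hv).1 ht)
    have hTL' : T ≤ locOf T K' := fun t ht => c'.le_loc hK' hKN' hX (sup_le
      (fun g hg => le_normalizer_zpowers (Subgroup.mem_centralizer_iff.1 (Subgroup.mem_inf.1 hv).2 g hg))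
      (fun j hj => hTn j (J_le T hj))) (hTn t ht)
    obtain ⟨hmax', hKL', -⟩ := c'.loc_spec hK' hKN'
    exact hne (hno K' ⟨hK', hKN', (c'.main hmax'.1 (fun h' => hKN' (hKL'.trans h'))
      (isSylowTwoIn_of_sylIn (hS.mono hTL' le_top)) (J_le T)).2.2.1⟩)
  set L := locOf T K
  -- the normalizer of `J(T)`
  have hCN : ∀ v ∈ zOf T, v ≠ 1 → Subgroup.centralizer {v} ≤ Subgroup.normalizer (T : Set G) := by
    intro v hv hv1
    refine le_trans (fun y hyv => Subgroup.mem_centralizer_iff.2 fun u hu => ?_) (hTP ▸ c.amb.cen P)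
    obtain ⟨a, -, -, ha⟩ := exists_gen h2
    rcases ha u ((c'.zOf_eq hKc hKN hy).le hu) with e | e
    · rw [e, one_mul, mul_one]
    · rw [e, ← (ha v hv).resolve_left hv1]
      exact (Subgroup.mem_centralizer_singleton_iff.1 hyv).symm
  have hNT : N ≤ Subgroup.normalizer (T : Set G) := by
    intro g hg
    obtain ⟨a, ha, ha1, hall⟩ := exists_gen h2
    refine hCN a ha ha1 (Subgroup.mem_centralizer_singleton_iff.2 (mul_inv_eq_iff_eq_mul.1 ?_))
    exact (hall _ ((Subgroup.mem_normalizer_iff.1 (omegaCenter_norm hg) a).1 ha)).resolve_left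
      fun e => ha1 (conj_eq_one_iff.1 e)
  have hNJ : N ≤ L := fun g hg => maximal_self_norm hmax
    ((c'.loc_conj hKc hKN hg).trans (hno _ (s.conj c' (hNT hg))))
  have hT : T ∉ straddlingTwoSubgroups L := by
    rintro ⟨-, -, -, X, hX, hTX, hXL⟩
    obtain ⟨K', s', -, hle⟩ := c'.side_in hS hX hTX fun h => hXL (h.trans hNJ)
    exact hXL (hle.trans (hno K' s').le)
  have hne : (straddlingTwoSubgroups L).Nonempty := by
    by_cases hex : ∃ K', IsJComponent T K' ∧ locOf T K' ≠ L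
    · obtain ⟨K', hK', hne⟩ := hex
      obtain ⟨hmax', -, hJ'⟩ := c'.loc_spec hK' (comp_not_norm c.pT hK')
      exact ⟨thompsonSubgroupOf 2 T, c'.pJ, c'.J_ne, hJL, _, hmax'.1, hJ',
        fun hle => hne (hmax'.2 L hmax.1 hle).symm⟩
    · push Not at hex
      have o : One T L := ⟨c', hS, hmax, hex, K, hKc⟩
      rw [Set.nonempty_iff_ne_empty]
      exact fun he => o.not_strongly_embedded ((S2947.result c.amb.cty c.amb.loc c.amb.cen c.core P L hmax.1
        (by rw [← hTP]; exact hNJ)).2 he)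
  exact c'.lonely_false hS s hNJ (fun v hv hv1 => (hCN v hv hv1).trans ((normalizer_le_J T).trans hNJ)) hne hT

end Cfsg.Agent.JComp
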