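import Cfsg.Agent.Lib.JComp.SymFour
import Cfsg.Agent.Lib.Fusion.ThompsonTransferCyclic

/-!
# A noncommuting pair inside the subgroup generated by the elements of odd order
-/

set_option autoImplicit false
set_option linter.style.haveILetI false

open Cfsg
open scoped commutatorElement

namespace Cfsg.Agent.JComp

open Cfsg.Agent.Fusion

universe u

variable {G : Type u} [Group G] [Finite G] [Fact (Nat.Prime 2)] {M T : Subgroup G} (c : Ctx M T)
include c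

/-- Components lie in the subgroup generated by the elements of odd order. -/
theorem Side.le_odd {K : Subgroup G} (s : Side M T K) : K ≤ Subgroup.closure {g : G | Odd (orderOf g)} :=
  le_of_eq_of_le s.comp.1.symm (Subgroup.closure_mono fun _ hg => hg.2)

theorem Side.norm_T_loc {K : Subgroup G} (s : Side M T K) (hs : Shape T K) {n : G} (hn : n ∈ Subgroup.normalizer (T : Set G))
    (hnL : n ∈ locOf T K) : n ∈ T := by
  obtain ⟨k, z, w, d, -, -, hPQ, -, hzW, hz1, -, -, -, -, -, -, -, -, t, ht, htQ⟩ := s.frame c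
  obtain ⟨g, hg, t', ht', rfl⟩ := (mem_sup_iff_mul (s.norm c)).1 (hs.eq.le hnL)
  obtain ⟨p, hp, i, hi, rfl⟩ := d.split hg
  have hpT : p ∈ T := (Subgroup.mem_inf.1 (hPQ hp)).1
  rcases Nat.eq_zero_or_pos i with rfl | hi0
  · rw [pow_zero, mul_one]; exact mul_mem hpT ht'
  exfalso
  have hki : k ^ i ∈ Subgroup.normalizer (T : Set G) := by
    have h := mul_mem (mul_mem (inv_mem (Subgroup.le_normalizer hpT)) hn) (inv_mem (Subgroup.le_normalizer ht'))
    simpa [mul_assoc] using h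
  have hk : k ∈ Subgroup.normalizer (T : Set G) := by
    rcases (show i = 1 ∨ i = 2 by omega) with rfl | rfl
    · simpa using hki
    · have h := pow_mem hki 2
      rwa [← pow_mul, show 2 * 2 = 3 + 1 from rfl, pow_succ, d.cube, one_mul] at h
  obtain ⟨q, hq, hap⟩ := s.invert c d ht htQ
  have hqT : q ∈ T := (Subgroup.mem_inf.1 (hPQ hq)).1
  have h1 : k * t * k⁻¹ ∈ T := (Subgroup.mem_normalizer_iff.1 hk t).1 ht
  have h3 : k⁻¹ * q⁻¹ = (k * t * k⁻¹) * t⁻¹ := by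
    have e : (k * t * k⁻¹) * t⁻¹ = k * (t * k * t⁻¹)⁻¹ := by group
    rw [e, hap]; group
  have hkT : k⁻¹ ∈ T := by simpa using mul_mem (h3 ▸ mul_mem h1 (inv_mem ht) : k⁻¹ * q⁻¹ ∈ T) hqT
  obtain ⟨m, hm⟩ := c.pT ⟨k, by simpa using inv_mem hkT⟩
  have hk1 : k = 1 := eq_one_of_odd (n := m) (congrArg Subtype.val hm)
    (Odd.of_dvd_nat (by decide) (orderOf_dvd_of_pow_eq_one d.cube))
  exact hz1 (d.fpf hzW (by rw [hk1]; simp))

variable {K₁ K₂ : Subgroup G} (s₁ : Side M T K₁) (s₂ : Side M T K₂) (hne : locOf T K₂ ≠ locOf T K₁)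
  (hnc : ¬ wOf K₁ ≤ qOf T K₂)
include s₁ s₂ hne hnc

omit hnc in
theorem Ctx.loc_q_norm : Subgroup.normalizer (qOf T K₁ : Set G) ≤ locOf T K₁ := by
  have _ := hne
  have _ := s₂
  exact c.le_loc s₁.comp s₁.notM ⟨_, c.pT.to_inf_left, fun hb => wOf_ne_bot s₁.comp (le_bot_iff.1 (hb ▸ s₁.w_le_q c)),
    rfl⟩ ((sup_le_sup_left (J_le T) _).trans (s₁.q_norm c))

theorem Ctx.el_le {A : Subgroup G} (hA : El A) (hAT : A ≤ T) : A ≤ qOf T K₁ ∨ A ≤ qOf T K₂ := by
  obtain ⟨-, -, hinv, -⟩ := c.nc_spec s₁ s₂ hne hnc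
  by_cases h : A ≤ qOf T K₁
  · exact Or.inl h
  obtain ⟨v, hv, hvn⟩ := SetLike.not_le_iff_exists.1 h
  refine Or.inr fun u hu => by_contra fun hun => ?_
  have hu' := (hinv u (hAT hu) (hA.2 u hu)).resolve_right hun
  have hv' := (hinv v (hAT hv) (hA.2 v hv)).resolve_left hvn
  rcases hinv (v * u) (hAT (mul_mem hv hu)) (hA.2 _ (mul_mem hv hu)) with h | h
  · exact hvn ((Subgroup.mul_mem_cancel_right _ hu').1 h)
  · exact hun ((Subgroup.mul_mem_cancel_left _ hv').1 h)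

theorem Ctx.cj_q {n : G} (hn : cj (qOf T K₁) n ≤ T) : cj (qOf T K₁) n = qOf T K₁ ∨ cj (qOf T K₁) n = qOf T K₂ := by
  obtain ⟨h₁, h₂, -⟩ := c.nc_spec s₁ s₂ hne hnc
  have hel : El (cj (qOf T K₁) n) := (replFamily_elementary 2).map_equiv h₁.el (MulAut.conj n)
  rcases c.el_le s₁ s₂ hne hnc hel hn with h | h
  · exact Or.inl (Subgroup.eq_of_le_of_card_ge h (le_of_eq (card_cj _ _).symm))
  · exact Or.inr (Subgroup.eq_of_le_of_card_ge h (le_of_eq (by rw [card_cj, h₁.card, h₂.card])))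

theorem Ctx.norm_T {n : G} (hn : n ∈ Subgroup.normalizer (T : Set G)) :
    n ∈ T ∨ cj (qOf T K₁) n = qOf T K₂ := by
  obtain ⟨h₁, -⟩ := c.nc_spec s₁ s₂ hne hnc
  refine (c.cj_q s₁ s₂ hne hnc ((cj_mono inf_le_left n).trans (cj_eq_self hn).le)).imp_left fun e => ?_
  exact s₁.norm_T_loc c h₁ hn (c.loc_q_norm s₁ s₂ hne (mem_normalizer_iff_cj.2 e))

theorem Ctx.norm_T_mul {m n : G} (hm : m ∈ Subgroup.normalizer (T : Set G)) (hn : n ∈ Subgroup.normalizer (T : Set G))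
    (hmT : m ∉ T) (hnT : n ∉ T) : m⁻¹ * n ∈ T := by
  refine (c.norm_T s₁ s₂ hne hnc (mul_mem (inv_mem hm) hn)).resolve_right fun e => c.q_ne s₁ s₂ hne ?_
  rw [← e, ← cj_cj, (c.norm_T s₁ s₂ hne hnc hn).resolve_left hnT,
    ← (c.norm_T s₁ s₂ hne hnc hm).resolve_left hmT, cj_cj, inv_mul_cancel, cj_one]

theorem Ctx.sq_norm {n : G} (hn : n ∈ Subgroup.normalizer (T : Set G)) : n ^ 2 ∈ T := by
  by_cases h : n ∈ T
  · exact pow_mem h 2
  · have h' : n⁻¹ ∉ T := fun h' => h (by simpa using inv_mem h')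
    simpa [pow_two] using c.norm_T_mul s₁ s₂ hne hnc (inv_mem hn) hn h' h

omit hne hnc in
theorem Ctx.comm_q {z : G} (hz : z ∈ zOf T) (hz₁ : z ∈ wOf K₁) (hz1 : z ≠ 1) (hs : Shape T K₁) {a : G} (ha : a ∈ T)
    {q : G} (hq : q ∈ qOf T K₁) : a * q * a⁻¹ = q ∨ a * q * a⁻¹ = z * q := by
  have _ := s₂
  obtain ⟨-, z₀, w, -, -, -, -, hz₀Z, hz₀W, hz₀1, -, -, -, -, -, hfour, -, hswap, -⟩ := s₁.frame c
  obtain rfl : z₀ = z := s₁.line_eq c hz₀Z hz₀W hz₀1 hz hz₁ hz1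
  by_cases haQ : a ∈ qOf T K₁
  · exact Or.inl (by rw [Local.elemAb_commute hs.el haQ hq, mul_inv_cancel_right])
  obtain ⟨v, hv, σ, hσ, rfl⟩ := (mem_sup_iff_mul (show zOf T ≤ Subgroup.normalizer (wOf K₁ : Set G) from
    fun x hx => wOf_norm_of (s₁.norm c (c.z_mem_T hx)))).1 (hs.gen hq)
  have hσ' : a * σ * a⁻¹ = σ := by rw [s₁.z_central c hσ ha, mul_inv_cancel_right]
  have hzz : a * z₀ * a⁻¹ = z₀ := by rw [s₁.z_central c hz ha, mul_inv_cancel_right]
  have e : a * (v * σ) * a⁻¹ = (a * v * a⁻¹) * (a * σ * a⁻¹) := by group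
  rw [e, hσ']
  rcases hfour v hv with rfl | rfl | rfl | rfl
  · exact Or.inl (by simp)
  · exact Or.inl (by rw [hzz])
  · exact Or.inr (by rw [hswap a ha haQ, mul_assoc])
  · exact Or.inr (by rw [← conj_mul, hzz, hswap a ha haQ]; simp [mul_assoc])

/-- `N(T)` fixes the common line. -/
theorem Ctx.line_fixed {z : G} (hz : z ∈ zOf T) (hz₁ : z ∈ wOf K₁) (hz₂ : z ∈ wOf K₂) (hz1 : z ≠ 1) {n : G}
    (hn : n ∈ Subgroup.normalizer (T : Set G)) : n * z * n⁻¹ = z := by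
  obtain ⟨h₁, h₂, -⟩ := c.nc_spec s₁ s₂ hne hnc
  by_cases hnT : n ∈ T
  · rw [s₁.z_central c hz hnT, mul_inv_cancel_right]
  obtain ⟨-, z₀, w, -, -, -, -, hz₀Z, hz₀W, hz₀1, -, hwW, -, -, -, -, -, hswap, t, ht, htQ⟩ := s₁.frame c
  obtain rfl : z₀ = z := s₁.line_eq c hz₀Z hz₀W hz₀1 hz hz₁ hz1
  have hq : n * w * n⁻¹ ∈ qOf T K₂ :=
    ((c.norm_T s₁ s₂ hne hnc hn).resolve_left hnT).le (conj_mem_cj (s₁.w_le_q c hwW))
  have ha : n * t * n⁻¹ ∈ T := (Subgroup.mem_normalizer_iff.1 hn t).1 ht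
  have e : n * t * n⁻¹ * (n * w * n⁻¹) * (n * t * n⁻¹)⁻¹ = n * z₀ * n⁻¹ * (n * w * n⁻¹) := by
    calc n * t * n⁻¹ * (n * w * n⁻¹) * (n * t * n⁻¹)⁻¹ = n * (t * w * t⁻¹) * n⁻¹ := by group
      _ = _ := by rw [hswap t ht htQ]; group
  rcases c.comm_q s₂ s₁ hz hz₂ hz1 h₂ ha hq with h | h <;> rw [e] at h
  · exact absurd (conj_eq_one_iff.1 (mul_eq_right.1 h)) hz1
  · exact mul_right_cancel h

/-- Elementary subgroups outside `T` in its normalizer are small. -/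
theorem Ctx.el_out {z : G} (hz : z ∈ zOf T) (hz₁ : z ∈ wOf K₁) (hz₂ : z ∈ wOf K₂) (hz1 : z ≠ 1)
    (h4 : Nat.card ↥(zOf T) = 4) {A : Subgroup G} (hA : El A) (hAN : A ≤ Subgroup.normalizer (T : Set G))
    (hnot : ¬ A ≤ T) : Nat.card A ≤ 4 := by
  obtain ⟨h₁, h₂, hinv, -⟩ := c.nc_spec s₁ s₂ hne hnc
  obtain ⟨u, hu, huT⟩ := SetLike.not_le_iff_exists.1 hnot
  have huQ := (c.norm_T s₁ s₂ hne hnc (hAN hu)).resolve_left huT
  have hu2 : u * u = 1 := by rw [← pow_two]; exact hA.2 u hu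
  have huQ' : cj (qOf T K₂) u = qOf T K₁ := by rw [← huQ, cj_cj, hu2, cj_one]
  obtain ⟨e, he, he1⟩ := (fixZ T K₁).bot_or_exists_ne_one.resolve_left fun hb => by
    have := (fixZ_spec c.pT s₁.comp).1
    rw [hb, Subgroup.card_bot, h4] at this
    omega
  obtain ⟨heZ, heC⟩ := Subgroup.mem_inf.1 he
  have hez : e ≠ z := fun h => s₁.line_not_fix c hz₁ hz1 (h ▸ heC)
  have hle : A ⊓ T ≤ Subgroup.zpowers z := by
    intro a ha
    obtain ⟨haA, haT⟩ := Subgroup.mem_inf.1 ha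
    have hfix : u * a * u⁻¹ = a := by rw [Local.elemAb_commute hA hu haA, mul_inv_cancel_right]
    have hboth : a ∈ qOf T K₁ ⊓ qOf T K₂ := by
      rcases hinv a haT (hA.2 a haA) with h | h
      · exact ⟨h, hfix ▸ huQ.le (conj_mem_cj h)⟩
      · exact ⟨hfix ▸ huQ'.le (conj_mem_cj h), h⟩
    have haZ : a ∈ zOf T := by
      refine omega_le_zOf T (mem_omegaCenter haT (hA.2 a haA) fun t ht => ?_)
      by_cases htQ : t ∈ qOf T K₁
      · exact Local.elemAb_commute h₁.el htQ (Subgroup.mem_inf.1 hboth).1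
      · rcases c.comm_q s₁ s₂ hz hz₁ hz1 h₁ ht (Subgroup.mem_inf.1 hboth).1 with h | h
        · exact mul_inv_eq_iff_eq_mul.1 h
        · rcases c.comm_q s₂ s₁ hz hz₂ hz1 h₂ ht (Subgroup.mem_inf.1 hboth).2 with h' | h'
          · exact mul_inv_eq_iff_eq_mul.1 h'
          · exfalso
            -- `t` would move a central element
            obtain ⟨v, hv, hvn⟩ := SetLike.not_le_iff_exists.1 (fun h : wOf K₂ ≤ qOf T K₁ => hnc (c.comm_symm s₂ s₁ h))
            have hvT : v ∈ T := (Subgroup.mem_inf.1 (s₂.w_le_q c hv)).1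
            have hmul := Subgroup.mul_mem_iff_of_index_two
              (show ((qOf T K₁).subgroupOf T).index = 2 from s₁.relIndex_q c) (a := ⟨v, hvT⟩) (b := ⟨t, ht⟩)
            simp only [Subgroup.mem_subgroupOf, Subgroup.coe_mul] at hmul
            have hvt : v * t ∈ qOf T K₁ := hmul.2 ⟨fun h => absurd h hvn, fun h => absurd h htQ⟩
            have hcv : Commute v a := Local.elemAb_commute h₂.el (s₂.w_le_q c hv) (Subgroup.mem_inf.1 hboth).2
            have hcvt : Commute (v * t) a := Local.elemAb_commute h₁.el hvt (Subgroup.mem_inf.1 hboth).1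
            have hct : Commute t a := by
              have := hcv.inv_left.mul_left hcvt
              rwa [inv_mul_cancel_left] at this
            rw [hct.eq, mul_inv_cancel_right] at h
            exact hz1 (mul_eq_right.1 h.symm)
    rcases four_cases (omegaCenter_el _) h4 heZ hz he1 hz1 hez a haZ with h | h | h | h
    · rw [h]; exact one_mem _
    · exfalso
      rw [h] at hfix
      have huL : u ∈ locOf T K₁ :=
        s₁.centralizer_fix c he he1 (Subgroup.mem_centralizer_singleton_iff.2 (mul_inv_eq_iff_eq_mul.1 hfix))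
      exact huT (s₁.norm_T_loc c h₁ (hAN hu) huL)
    · rw [h]; exact Subgroup.mem_zpowers z
    · exfalso
      rw [h, ← conj_mul, c.line_fixed s₁ s₂ hne hnc hz hz₁ hz₂ hz1 (hAN hu)] at hfix
      have huL : u ∈ locOf T K₁ := s₁.centralizer_fix c he he1
        (Subgroup.mem_centralizer_singleton_iff.2 (mul_inv_eq_iff_eq_mul.1 (mul_right_cancel hfix)))
      exact huT (s₁.norm_T_loc c h₁ (hAN hu) huL)
  have hidx : (A ⊓ T).relIndex A ≤ 2 := by
    refine le_of_eq ((Subgroup.index_eq_two_iff (H := (A ⊓ T).subgroupOf A)).2 ⟨⟨u, hu⟩, fun b => ?_⟩)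
    simp only [Subgroup.mem_subgroupOf, Subgroup.coe_mul]
    by_cases hb : (b : G) ∈ T
    · exact Or.inr ⟨⟨b.2, hb⟩, fun h => huT ((Subgroup.mul_mem_cancel_left _ hb).1 (Subgroup.mem_inf.1 h).2)⟩
    · refine Or.inl ⟨⟨mul_mem b.2 hu, ?_⟩, fun h => hb (Subgroup.mem_inf.1 h).2⟩
      have hb' : (b : G)⁻¹ ∉ T := fun h => hb (by simpa using inv_mem h)
      simpa using c.norm_T_mul s₁ s₂ hne hnc (inv_mem (hAN b.2)) (hAN hu) hb' huT
  rw [← card_mul_relIndex_of_le (inf_le_left : A ⊓ T ≤ A)]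
  refine le_trans (Nat.mul_le_mul ((Subgroup.card_le_of_le hle).trans (le_of_eq ?_)) hidx) (le_refl (2 * 2))
  rw [Nat.card_zpowers, orderOf_eq_prime ((omegaCenter_el _).2 z hz) hz1]

omit hne hnc in
theorem Ctx.q_eight (hs : Shape T K₁) (h4 : Nat.card ↥(zOf T) = 4) : Nat.card ↥(qOf T K₁) = 8 := by
  have _ := s₁
  have _ := s₂
  rw [hs.card, h4]

theorem Ctx.T_le_sup : T ≤ qOf T K₁ ⊔ qOf T K₂ := by
  obtain ⟨v, hv, hvn⟩ := SetLike.not_le_iff_exists.1 (fun h : wOf K₂ ≤ qOf T K₁ => hnc (c.comm_symm s₂ s₁ h))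
  have hvq := s₂.w_le_q c hv
  intro t ht
  by_cases htQ : t ∈ qOf T K₁
  · exact Subgroup.mem_sup_left htQ
  · have hmul := Subgroup.mul_mem_iff_of_index_two (show ((qOf T K₁).subgroupOf T).index = 2 from s₁.relIndex_q c)
      (a := ⟨v, (Subgroup.mem_inf.1 hvq).1⟩) (b := ⟨t, ht⟩)
    simp only [Subgroup.mem_subgroupOf, Subgroup.coe_mul] at hmul
    have h := mul_mem (Subgroup.mem_sup_right (inv_mem hvq))
      (Subgroup.mem_sup_left (T := qOf T K₂) (hmul.2 ⟨fun h => absurd h hvn, fun h => absurd h htQ⟩))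
    rwa [inv_mul_cancel_left] at h

/-- A Sylow subgroup above `T` normalizes it, and so does its normalizer. -/
theorem Ctx.sylow_norm {z : G} (hz : z ∈ zOf T) (hz₁ : z ∈ wOf K₁) (hz₂ : z ∈ wOf K₂) (hz1 : z ≠ 1)
    (h4 : Nat.card ↥(zOf T) = 4) (P : Sylow 2 G) (hP : T ≤ (P : Subgroup G)) :
    (P : Subgroup G) ≤ Subgroup.normalizer (T : Set G) ∧
      Subgroup.normalizer ((P : Subgroup G) : Set G) ≤ Subgroup.normalizer (T : Set G) := by
  obtain ⟨h₁, h₂, -⟩ := c.nc_spec s₁ s₂ hne hnc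
  have key : ∀ {R : Subgroup G}, T ≤ R → R ≤ Subgroup.normalizer (T : Set G) →
      Subgroup.normalizer (R : Set G) ≤ Subgroup.normalizer (T : Set G) := by
    intro R hTR hR n hn
    refine mem_normalizer_of_cj_le ?_
    refine (cj_mono (c.T_le_sup s₁ s₂ hne hnc) n).trans ?_
    rw [cj_sup]
    have hq : ∀ {Q : Subgroup G}, El Q → Q ≤ T → Nat.card Q = 8 → cj Q n ≤ T := by
      intro Q hQ hQT h8
      by_contra hnot
      have := c.el_out s₁ s₂ hne hnc hz hz₁ hz₂ hz1 h4 ((replFamily_elementary 2).map_equiv hQ (MulAut.conj n))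
        (((cj_mono (hQT.trans hTR) n).trans (cj_eq_self hn).le).trans hR) hnot
      change Nat.card ↥(cj Q n) ≤ 4 at this
      rw [card_cj, h8] at this
      omega
    exact sup_le (hq h₁.el inf_le_left (c.q_eight s₁ s₂ h₁ h4)) (hq h₂.el inf_le_left (c.q_eight s₂ s₁ h₂ h4))
  have hPN : (P : Subgroup G) ≤ Subgroup.normalizer (T : Set G) := by
    by_contra hnot
    have hne' : (P : Subgroup G) ⊓ Subgroup.normalizer (T : Set G) ≠ (P : Subgroup G) :=
      fun e => hnot (inf_eq_left.1 e)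
    obtain ⟨x, hx, hxn⟩ := SetLike.exists_of_lt (SylIn.normalizer_growth inf_le_left hne' P.isPGroup')
    refine hxn (Subgroup.mem_inf.2 ⟨(Subgroup.mem_inf.1 hx).1, ?_⟩)
    exact key (le_inf hP Subgroup.le_normalizer) inf_le_right (Subgroup.mem_inf.1 hx).2
  exact ⟨hPN, key hP hPN⟩

/-- The element of `Z₀` fixed by `K₁` is not conjugate to the common line. -/
theorem Ctx.fix_not_conj {z f : G} (hz : z ∈ zOf T) (hz₁ : z ∈ wOf K₁) (hz₂ : z ∈ wOf K₂) (hz1 : z ≠ 1)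
    (h4 : Nat.card ↥(zOf T) = 4) (hf : f ∈ fixZ T K₁) (hf1 : f ≠ 1) (g : G) : g * f * g⁻¹ ≠ z := by
  intro hg
  obtain ⟨hfZ, hfC⟩ := Subgroup.mem_inf.1 hf
  have hfz : f ≠ z := fun h => s₁.line_not_fix c hz₁ hz1 (h ▸ hfC)
  have hfT : ∀ t ∈ T, t * f = f * t := fun t ht => s₁.z_central c hfZ ht
  have hzT : ∀ t ∈ T, t * z = z * t := fun t ht => s₁.z_central c hz ht
  obtain ⟨h₁, -⟩ := c.nc_spec s₁ s₂ hne hnc
  obtain ⟨P, hP⟩ := c.pT.exists_le_sylow
  by_cases hTP : T = (P : Subgroup G)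
  · obtain ⟨n, hn, e⟩ := P.conj_eq_normalizer_conj_of_mem_centralizer f g⁻¹
      (Subgroup.mem_centralizer_iff.2 fun t ht => hfT t (hTP ▸ ht))
      (by rw [inv_inv, hg]; exact Subgroup.mem_centralizer_iff.2 fun t ht => hzT t (hTP ▸ ht))
    rw [inv_inv, hg] at e
    have hn' : n ∈ Subgroup.normalizer (T : Set G) := hTP ▸ hn
    refine hfz ?_
    calc f = n * z * n⁻¹ := by rw [e]; group
      _ = z := c.line_fixed s₁ s₂ hne hnc hz hz₁ hz₂ hz1 hn'
  obtain ⟨x, hx, hxT⟩ := SetLike.exists_of_lt (SylIn.normalizer_growth hP hTP P.isPGroup')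
  obtain ⟨hxP, hxN⟩ := Subgroup.mem_inf.1 hx
  have hxf : x * f * x⁻¹ ≠ f := fun e => hxT (s₁.norm_T_loc c h₁ hxN
    (s₁.centralizer_fix c hf hf1 (Subgroup.mem_centralizer_singleton_iff.2 (mul_inv_eq_iff_eq_mul.1 e))))
  have hxz := c.line_fixed s₁ s₂ hne hnc hz hz₁ hz₂ hz1 hxN
  have hZle : omegaCenterOf (P : Subgroup G) ≤ zOf T := fun y hy => by
    have hyQ := s₁.hy.centralizer_Q fun q hq => omegaCenter_comm hy (hP (s₁.hy.Q_le_T hq))
    exact omega_le_zOf T (mem_omegaCenter (s₁.hy.Q_le_T hyQ) ((omegaCenter_el _).2 y hy)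
      fun t ht => omegaCenter_comm hy (hP ht))
  have hC : Subgroup.centralizer {z} ≤ Subgroup.normalizer ((P : Subgroup G) : Set G) := by
    refine le_trans (fun y hy => Subgroup.mem_centralizer_iff.2 fun w hw => ?_) (c.amb.cen P)
    have hxw : x * w * x⁻¹ = w := by rw [omegaCenter_comm hw hxP, mul_inv_cancel_right]
    rcases four_cases (omegaCenter_el _) h4 hfZ hz hf1 hz1 hfz w (hZle hw) with e | e | e | e
    · rw [e, one_mul, mul_one]
    · rw [e] at hxw; exact absurd hxw hxf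
    · rw [e]; exact (Subgroup.mem_centralizer_singleton_iff.1 hy).symm
    · rw [e, ← conj_mul, hxz] at hxw
      exact absurd (mul_right_cancel hxw) hxf
  obtain ⟨k, z₀, -, d, -, -, -, -, hz₀W, hz₀1, -⟩ := s₁.frame c
  have hn : g * k * g⁻¹ ∈ Subgroup.normalizer (T : Set G) :=
    (c.sylow_norm s₁ s₂ hne hnc hz hz₁ hz₂ hz1 h4 P hP).2 (hC (Subgroup.mem_centralizer_singleton_iff.2 (by
      rw [← hg]
      calc g * k * g⁻¹ * (g * f * g⁻¹) = g * (k * f) * g⁻¹ := by group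
        _ = g * (f * k) * g⁻¹ := by rw [Subgroup.mem_centralizer_iff.1 hfC k d.mem]
        _ = _ := by group)))
  obtain ⟨m, hm⟩ := c.pT ⟨_, c.sq_norm s₁ s₂ hne hnc hn⟩
  have hm' : (g * k * g⁻¹) ^ 2 ^ (m + 1) = 1 := by
    rw [pow_succ', pow_mul]; exact congrArg Subtype.val hm
  have h3 : (g * k * g⁻¹) ^ 3 = 1 := by rw [conj_pow, d.cube, mul_one, mul_inv_cancel]
  have hk1 : k = 1 := conj_eq_one_iff.1 (eq_one_of_odd hm'
    (Odd.of_dvd_nat (by decide) (orderOf_dvd_of_pow_eq_one h3)))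
  exact hz₀1 (d.fpf hz₀W (by rw [hk1]; simp))

/-- The elements of `C_T(W₁)` conjugate to the common line lie in `W₁`. -/
theorem Ctx.conj_mem_W {z : G} (hz : z ∈ zOf T) (hz₁ : z ∈ wOf K₁) (hz₂ : z ∈ wOf K₂) (hz1 : z ≠ 1)
    (h4 : Nat.card ↥(zOf T) = 4) {q g : G} (hq : q ∈ qOf T K₁) (hg : g * z * g⁻¹ = q) : q ∈ wOf K₁ := by
  obtain ⟨h₁, -⟩ := c.nc_spec s₁ s₂ hne hnc
  obtain ⟨k, z₀, w, d, -, -, -, hz₀Z, hz₀W, hz₀1, hw, hwW, -, -, -, hfour, -⟩ := s₁.frame c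
  obtain rfl : z₀ = z := s₁.line_eq c hz₀Z hz₀W hz₀1 hz hz₁ hz1
  obtain ⟨f, hf, hf1⟩ := (fixZ T K₁).bot_or_exists_ne_one.resolve_left fun hb => by
    have := (fixZ_spec c.pT s₁.comp).1
    rw [hb, Subgroup.card_bot, h4] at this
    omega
  obtain ⟨f', hf', hf'1⟩ := (fixZ T K₂).bot_or_exists_ne_one.resolve_left fun hb => by
    have := (fixZ_spec c.pT s₂.comp).1
    rw [hb, Subgroup.card_bot, h4] at this
    omega
  obtain ⟨hfZ, hfC⟩ := Subgroup.mem_inf.1 hf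
  have hfz : f ≠ z₀ := fun h => s₁.line_not_fix c hz₁ hz1 (h ▸ hfC)
  have hfour' := four_cases (omegaCenter_el _) h4 hfZ hz hf1 hz1 hfz
  have hf'e : f' = f * z₀ := by
    rcases hfour' f' (Subgroup.mem_inf.1 hf').1 with e | e | e | e
    · exact absurd e hf'1
    · exact absurd (Subgroup.mem_bot.1 (c.fixZ_inf s₁.comp s₁.notM s₂.comp s₂.notM hne ▸
        Subgroup.mem_inf.2 ⟨hf, e ▸ hf'⟩)) hf1
    · exact absurd (e ▸ (Subgroup.mem_inf.1 hf').2) (s₂.line_not_fix c hz₂ hz1)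
    · exact e
  have hnot := c.fix_not_conj s₁ s₂ hne hnc hz hz₁ hz₂ hz1 h4 hf hf1
  have hnot' := c.fix_not_conj s₂ s₁ hne.symm (fun h => hnc (c.comm_symm s₂ s₁ h)) hz hz₂ hz₁ hz1 h4 hf' hf'1
  obtain ⟨v, hv, σ, hσ, rfl⟩ := (mem_sup_iff_mul (show zOf T ≤ Subgroup.normalizer (wOf K₁ : Set G) from
    fun x hx => wOf_norm_of (s₁.norm c (c.z_mem_T hx)))).1 (h₁.gen hq)
  by_contra hnW
  obtain ⟨v', hv', hvf⟩ : ∃ v' ∈ wOf K₁, v * σ = v' * f := by
    rcases hfour' σ hσ with e | e | e | e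
    · exact absurd (by rw [e, mul_one]; exact hv) hnW
    · exact ⟨v, hv, by rw [e]⟩
    · exact absurd (by rw [e]; exact mul_mem hv hz₁) hnW
    · exact ⟨v * z₀, mul_mem hv hz₁, by rw [e, Local.elemAb_commute (omegaCenter_el _) hfZ hz, mul_assoc]⟩
  rw [hvf] at hg
  have hconj : ∀ {a b : G}, g * z₀ * g⁻¹ = a * b * a⁻¹ → (g⁻¹ * a) * b * (g⁻¹ * a)⁻¹ = z₀ := by
    intro a b e
    calc (g⁻¹ * a) * b * (g⁻¹ * a)⁻¹ = g⁻¹ * (a * b * a⁻¹) * g := by group
      _ = z₀ := by rw [← e]; group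
  have hzf : ∀ a ∈ K₁, a * (z₀ * f) * a⁻¹ = (a * z₀ * a⁻¹) * f := fun a ha => by
    rw [← conj_mul, Subgroup.mem_centralizer_iff.1 hfC a ha, mul_inv_cancel_right]
  have hzf' : f' = z₀ * f := by rw [hf'e, Local.elemAb_commute (omegaCenter_el _) hfZ hz]
  rcases hfour v' hv' with e | e | e | e
  · rw [e, one_mul] at hg
    exact hnot _ (hconj (a := 1) (b := f) (by rw [hg]; simp))
  · rw [e] at hg
    exact hnot' _ (hconj (a := 1) (b := f') (by rw [hg, hzf']; simp))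
  · rw [e, hw] at hg
    exact hnot' _ (hconj (a := k) (b := f') (by rw [hg, hzf', hzf k d.mem]))
  · refine hnot' _ (hconj (a := k ^ 2) (b := f') ?_)
    rw [hg, hzf', hzf _ (pow_mem d.mem 2), e, hw, eq_inv_of_mul_eq_one_right (d.nm_wOf hz₁),
      El.inv_eq wOf_el (mul_mem hz₁ (hw ▸ hwW))]

/-- The element of `Z₀` fixed by a component is not generated by the elements of odd order. -/
theorem Ctx.fix_not_odd (h4 : Nat.card ↥(zOf T) = 4) {f : G} (hf : f ∈ fixZ T K₁)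
    (hfR : f ∈ Subgroup.closure {g : G | Odd (orderOf g)}) : f = 1 := by
  by_contra hf1
  obtain ⟨h₁, h₂, hinv, -, z, hz, hz1, hz₁, hz₂⟩ := c.nc_spec s₁ s₂ hne hnc
  have hnc' : ¬ wOf K₂ ≤ qOf T K₁ := fun h => hnc (c.comm_symm s₂ s₁ h)
  obtain ⟨hfZ, hfC⟩ := Subgroup.mem_inf.1 hf
  have hfz : f ≠ z := fun h => s₁.line_not_fix c hz₁ hz1 (h ▸ hfC)
  have hfT : f ∈ T := c.z_mem_T hfZ
  have hf2 : f ^ 2 = 1 := (omegaCenter_el _).2 f hfZ
  have hnot := c.fix_not_conj s₁ s₂ hne hnc hz hz₁ hz₂ hz1 h4 hf hf1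
  set D := wOf K₁ ⊔ wOf K₂ with hD
  have hW₂N : wOf K₂ ≤ Subgroup.normalizer (wOf K₁ : Set G) :=
    fun x hx => wOf_norm_of (s₁.norm c (Subgroup.mem_inf.1 (s₂.w_le_q c hx)).1)
  have hDT : D ≤ T := sup_le ((s₁.w_le_q c).trans inf_le_left) ((s₂.w_le_q c).trans inf_le_left)
  have hfD : f ∉ D := by
    intro h
    obtain ⟨a, ha, b, hb, e⟩ := (mem_sup_iff_mul hW₂N).1 h
    obtain ⟨-, z₀, w, -, -, -, -, hz₀Z, hz₀W, hz₀1, -, -, -, -, -, hfour₂, -⟩ := s₂.frame c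
    have hbQ : b ∈ qOf T K₁ := by
      rw [show b = a⁻¹ * (a * b) by group, e]
      exact mul_mem (inv_mem (s₁.w_le_q c ha)) (s₁.zOf_le_q c hfZ)
    have hbW : b ∈ wOf K₁ := by
      have he : z₀ = z := s₂.line_eq c hz₀Z hz₀W hz₀1 hz hz₂ hz1
      subst he
      rcases hfour₂ b hb with h | h | h | h
      · rw [h]; exact one_mem _
      · rw [h]; exact hz₁
      all_goals
        exfalso
        refine hnc' fun x hx => ?_
        have hzq : z₀ ∈ qOf T K₁ := s₁.zOf_le_q c hz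
        have hwq : w ∈ qOf T K₁ := by
          first
            | (rw [h] at hbQ; exact hbQ)
            | (rw [h] at hbQ; exact (Subgroup.mul_mem_cancel_left _ hzq).1 hbQ)
        rcases hfour₂ x hx with r | r | r | r <;> rw [r]
        exacts [one_mem _, hzq, hwq, mul_mem hzq hwq]
    exact s₁.line_not_fix c (e ▸ mul_mem ha hbW : f ∈ wOf K₁) hf1 hfC
  have hTD : ∀ t ∈ T, t ∈ D ∨ f * t ∈ D := by
    have hle : T ≤ D ⊔ Subgroup.zpowers f := by
      refine (c.T_le_sup s₁ s₂ hne hnc).trans (sup_le (h₁.gen.trans ?_) (h₂.gen.trans ?_)) <;>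
        refine sup_le ?_ (fun σ hσ => ?_)
      · exact (le_sup_left : wOf K₁ ≤ D).trans le_sup_left
      rotate_left
      · exact (le_sup_right : wOf K₂ ≤ D).trans le_sup_left
      all_goals
        have hzD : z ∈ D ⊔ Subgroup.zpowers f := Subgroup.mem_sup_left ((le_sup_left : wOf K₁ ≤ D) hz₁)
        have hfD' : f ∈ D ⊔ Subgroup.zpowers f := Subgroup.mem_sup_right (Subgroup.mem_zpowers f)
        rcases four_cases (omegaCenter_el _) h4 hfZ hz hf1 hz1 hfz σ hσ with e | e | e | e <;> rw [e]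
        exacts [one_mem _, hfD', hzD, mul_mem hfD' hzD]
    intro t ht
    have hn : Subgroup.zpowers f ≤ Subgroup.normalizer (D : Set G) := Subgroup.zpowers_le.2
      (mem_normalizer_of_cj_le (by
        rintro _ ⟨x, hx, rfl⟩
        show f * x * f⁻¹ ∈ D
        rw [← s₁.z_central c hfZ (hDT hx), mul_inv_cancel_right]
        exact hx))
    obtain ⟨a, ha, b, hb, rfl⟩ := (mem_sup_iff_mul hn).1 (hle ht)
    obtain ⟨i, rfl⟩ := Subgroup.mem_zpowers_iff.1 hb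
    rcases Int.even_or_odd i with ⟨j, rfl⟩ | ⟨j, rfl⟩
    · refine Or.inl ?_
      rw [← two_mul, zpow_mul, zpow_ofNat, hf2, one_zpow, mul_one]; exact ha
    · refine Or.inr ?_
      rw [zpow_add_one, zpow_mul, zpow_ofNat, hf2, one_zpow, one_mul, ← s₁.z_central c hfZ
        (mul_mem (hDT ha) hfT), mul_assoc, ← pow_two, hf2, mul_one]
      exact ha
  obtain ⟨P, hP⟩ := c.pT.exists_le_sylow
  obtain ⟨hPN, -⟩ := c.sylow_norm s₁ s₂ hne hnc hz hz₁ hz₂ hz1 h4 P hP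
  -- `P` normalizes `D`
  have hconjW : ∀ {K : Subgroup G}, Side M T K → z ∈ wOf K → ∀ v ∈ wOf K, v = 1 ∨ ∃ g, g * z * g⁻¹ = v := by
    intro K s hzK v hv
    obtain ⟨k, z₀, w, d, -, -, -, hz₀Z, hz₀W, hz₀1, hw, hwW, -, -, -, hfour, -⟩ := s.frame c
    obtain rfl : z₀ = z := s.line_eq c hz₀Z hz₀W hz₀1 hz hzK hz1
    rcases hfour v hv with e | e | e | e
    · exact Or.inl e
    · exact Or.inr ⟨1, by rw [e]; simp⟩
    · exact Or.inr ⟨k, by rw [e, hw]⟩
    · refine Or.inr ⟨k ^ 2, ?_⟩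
      rw [e, hw, eq_inv_of_mul_eq_one_right (d.nm_wOf hzK), El.inv_eq wOf_el (mul_mem hzK (hw ▸ hwW))]
  have hPD : (P : Subgroup G) ≤ Subgroup.normalizer (D : Set G) := by
    intro x hx
    refine mem_normalizer_of_cj_le ?_
    rw [hD, cj_sup]
    rcases c.norm_T s₁ s₂ hne hnc (hPN hx) with h | h
    · rw [cj_eq_self (wOf_norm_of (s₁.norm c h)), cj_eq_self (wOf_norm_of (s₂.norm c h))]
    have h' : x ∈ T ∨ cj (qOf T K₂) x = qOf T K₁ := c.norm_T s₂ s₁ hne.symm hnc' (hPN hx)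
    rcases h' with h' | h'
    · rw [cj_eq_self (wOf_norm_of (s₁.norm c h')), cj_eq_self (wOf_norm_of (s₂.norm c h'))]
    refine sup_le ?_ ?_
    · rintro _ ⟨v, hv, rfl⟩
      show x * v * x⁻¹ ∈ D
      rcases hconjW s₁ hz₁ v hv with e | ⟨g, e⟩
      · rw [e, mul_one, mul_inv_cancel]; exact one_mem _
      · refine Subgroup.mem_sup_right (c.conj_mem_W s₂ s₁ hne.symm hnc' hz hz₂ hz₁ hz1 h4
          (h.le (conj_mem_cj (s₁.w_le_q c hv))) (g := x * g) ?_)
        rw [← e]; group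
    · rintro _ ⟨v, hv, rfl⟩
      show x * v * x⁻¹ ∈ D
      rcases hconjW s₂ hz₂ v hv with e | ⟨g, e⟩
      · rw [e, mul_one, mul_inv_cancel]; exact one_mem _
      · refine Subgroup.mem_sup_left (c.conj_mem_W s₁ s₂ hne hnc hz hz₁ hz₂ hz1 h4
          (h'.le (conj_mem_cj (s₂.w_le_q c hv))) (g := x * g) ?_)
        rw [← e]; group
  -- a normal subgroup with cyclic quotient avoiding `f`
  obtain ⟨R, hDR, hRP, hRn, hfR', hRT, γ, hγ, hcyc⟩ : ∃ R : Subgroup G, D ≤ R ∧ R ≤ (P : Subgroup G) ∧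
      (P : Subgroup G) ≤ Subgroup.normalizer (R : Set G) ∧ f ∉ R ∧ R ⊓ T ≤ D ∧
      ∃ γ ∈ (P : Subgroup G), ∀ y ∈ (P : Subgroup G), ∃ i : ℕ, (γ ^ i)⁻¹ * y ∈ R := by
    by_cases hxex : ∃ x ∈ (P : Subgroup G), x ∉ T
    swap
    · push Not at hxex
      refine ⟨D, le_rfl, hDT.trans hP, hPD, hfD, inf_le_left, f, hP hfT, fun y hy => ?_⟩
      rcases hTD y (hxex y hy) with h | h
      · exact ⟨0, by simpa using h⟩
      · exact ⟨1, by rwa [pow_one, inv_eq_of_mul_eq_one_left (by rw [← pow_two]; exact hf2)]⟩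
    obtain ⟨x, hxP, hxT⟩ := hxex
    have hcases : ∀ y ∈ (P : Subgroup G), y ∈ T ∨ x⁻¹ * y ∈ T := fun y hy => by
      by_cases hyT : y ∈ T
      · exact Or.inl hyT
      · exact Or.inr (c.norm_T_mul s₁ s₂ hne hnc (hPN hxP) (hPN hy) hxT hyT)
    have hx2 : x ^ 2 ∈ T := c.sq_norm s₁ s₂ hne hnc (hPN hxP)
    have hfi : f⁻¹ = f := inv_eq_of_mul_eq_one_left (by rw [← pow_two]; exact hf2)
    by_cases hx2D : x ^ 2 ∈ D
    · -- exponent two
      have hxD : Subgroup.zpowers x ≤ Subgroup.normalizer (D : Set G) := Subgroup.zpowers_le.2 (hPD hxP)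
      have hdec : ∀ r ∈ D ⊔ Subgroup.zpowers x, r ∈ D ∨ x⁻¹ * r ∈ D := by
        intro r hr
        obtain ⟨a, ha, b, hb, rfl⟩ := (mem_sup_iff_mul hxD).1 hr
        obtain ⟨i, rfl⟩ := Subgroup.mem_zpowers_iff.1 hb
        rcases Int.even_or_odd i with ⟨j, rfl⟩ | ⟨j, rfl⟩
        · refine Or.inl (mul_mem ha ?_)
          rw [← two_mul, zpow_mul, zpow_ofNat]
          exact zpow_mem hx2D j
        · refine Or.inr ?_
          rw [zpow_add_one, zpow_mul, zpow_ofNat, ← mul_assoc, ← mul_assoc]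
          have := (Subgroup.mem_normalizer_iff.1 (inv_mem (hPD hxP)) (a * (x ^ 2) ^ j)).1
            (mul_mem ha (zpow_mem hx2D j))
          simpa [mul_assoc] using this
      refine ⟨D ⊔ Subgroup.zpowers x, le_sup_left, sup_le (hDT.trans hP) (Subgroup.zpowers_le.2 hxP), ?_, ?_, ?_,
        f, hP hfT, fun y hy => ?_⟩
      · intro y hy
        refine mem_normalizer_of_cj_le ?_
        rw [cj_sup, cj_eq_self (hPD hy)]
        refine sup_le le_sup_left ?_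
        rw [cj, MonoidHom.map_zpowers]
        refine Subgroup.zpowers_le.2 ?_
        show y * x * y⁻¹ ∈ _
        have hDx := Subgroup.mem_sup_right (S := D) (Subgroup.mem_zpowers x)
        have hfxf : f * x * f⁻¹ ∈ D ⊔ Subgroup.zpowers x := by
          have hxf : x * f * x⁻¹ ∈ T := (Subgroup.mem_normalizer_iff.1 (hPN hxP) f).1 hfT
          rcases hTD _ hxf with h | h
          · exfalso
            exact hfD (by simpa [mul_assoc] using (Subgroup.mem_normalizer_iff.1 (inv_mem (hPD hxP)) _).1 h)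
          · have e : f * x * f⁻¹ = (f * (x * f * x⁻¹)) * x := by rw [hfi]; group
            rw [e]
            exact mul_mem (Subgroup.mem_sup_left h) hDx
        have hDc : ∀ {t}, t ∈ T → t * x * t⁻¹ ∈ D ⊔ Subgroup.zpowers x := by
          intro t ht
          rcases hTD t ht with h | h
          · exact mul_mem (mul_mem (Subgroup.mem_sup_left h) hDx) (inv_mem (Subgroup.mem_sup_left h))
          · have hd : f * t ∈ D ⊔ Subgroup.zpowers x := Subgroup.mem_sup_left h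
            have e' : t * x * t⁻¹ = (f * t) * (f⁻¹ * x * f) * (f * t)⁻¹ := by
              rw [show f * t = t * f from (s₁.z_central c hfZ ht).symm]; group
            rw [e', hfi]
            rw [hfi] at hfxf
            exact mul_mem (mul_mem hd hfxf) (inv_mem hd)
        rcases hcases y hy with h | h
        · exact hDc h
        · have e : y * x * y⁻¹ = x * ((x⁻¹ * y) * x * (x⁻¹ * y)⁻¹) * x⁻¹ := by group
          rw [e]
          exact mul_mem (mul_mem hDx (hDc h)) (inv_mem hDx)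
      · intro h
        rcases hdec f h with h | h
        · exact hfD h
        · exact hxT (by simpa using mul_mem hfT (inv_mem (hDT h)))
      · intro r hr
        obtain ⟨hr1, hr2⟩ := Subgroup.mem_inf.1 hr
        exact (hdec r hr1).resolve_right fun h => hxT (by simpa using mul_mem hr2 (inv_mem (hDT h)))
      · rcases hcases y hy with h | h
        · rcases hTD y h with h' | h'
          · exact ⟨0, by simpa using Subgroup.mem_sup_left h'⟩
          · exact ⟨1, by rw [pow_one, hfi]; exact Subgroup.mem_sup_left h'⟩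
        · rcases hTD _ h with h' | h'
          · refine ⟨0, ?_⟩
            simpa using mul_mem (Subgroup.mem_sup_right (S := D) (Subgroup.mem_zpowers x)) (Subgroup.mem_sup_left h')
          · refine ⟨1, ?_⟩
            have e : f * y = (f * x * f⁻¹) * (f * (x⁻¹ * y)) := by group
            rw [pow_one, hfi, e]
            refine mul_mem ?_ (Subgroup.mem_sup_left h')
            have hxf' : x * f * x⁻¹ ∈ T := (Subgroup.mem_normalizer_iff.1 (hPN hxP) f).1 hfT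
            rcases hTD _ hxf' with h0 | h0
            · exfalso
              exact hfD (by simpa [mul_assoc] using (Subgroup.mem_normalizer_iff.1 (inv_mem (hPD hxP)) _).1 h0)
            · have e0 : f * x * f⁻¹ = (f * (x * f * x⁻¹)) * x := by rw [hfi]; group
              rw [e0]
              exact mul_mem (Subgroup.mem_sup_left h0) (Subgroup.mem_sup_right (Subgroup.mem_zpowers x))
    · -- cyclic of order four
      have hfx2 : f * x ^ 2 ∈ D := (hTD _ hx2).resolve_left hx2D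
      refine ⟨D, le_rfl, hDT.trans hP, hPD, hfD, inf_le_left, x, hxP, fun y hy => ?_⟩
      have hfT' : ∀ t ∈ T, ∃ i : ℕ, (x ^ (2 * i))⁻¹ * t ∈ D := by
        intro t ht
        rcases hTD t ht with h | h
        · exact ⟨0, by simpa using h⟩
        · refine ⟨1, ?_⟩
          have e : (x ^ (2 * 1))⁻¹ * t = (f * x ^ 2)⁻¹ * (f * t) := by rw [mul_one]; group
          rw [e]
          exact mul_mem (inv_mem hfx2) h
      rcases hcases y hy with h | h
      · obtain ⟨i, hi⟩ := hfT' y h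
        exact ⟨2 * i, hi⟩
      · obtain ⟨i, hi⟩ := hfT' _ h
        refine ⟨2 * i + 1, ?_⟩
        rw [pow_succ', mul_inv_rev, mul_assoc]
        exact hi
  haveI hn : (R.subgroupOf (P : Subgroup G)).Normal := Subgroup.normal_subgroupOf_of_le_normalizer hRn
  have hcyc' : IsCyclic (↥(P : Subgroup G) ⧸ R.subgroupOf (P : Subgroup G)) := by
    refine ⟨⟨QuotientGroup.mk ⟨γ, hγ⟩, fun q => ?_⟩⟩
    obtain ⟨⟨y, hy⟩, rfl⟩ := QuotientGroup.mk_surjective q
    obtain ⟨i, hi⟩ := hcyc y hy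
    refine ⟨i, ?_⟩
    show QuotientGroup.mk (s := R.subgroupOf (P : Subgroup G)) ⟨γ, hγ⟩ ^ (i : ℤ) = _
    rw [zpow_natCast, ← QuotientGroup.mk_pow]
    exact QuotientGroup.eq.2 (Subgroup.mem_subgroupOf.2 hi)
  obtain ⟨g, hg, -, hgC⟩ := extremal_transfer_cyclic_of_kills P R hRP hcyc' (orderOf_eq_prime hf2 hf1) (hP hfT) hfR'
    fun φ => MonoidHom.mem_ker.1 ((Subgroup.closure_le φ.ker).2 (fun a ha => by
      obtain ⟨n, hn⟩ := (P.isPGroup'.to_quotient (R.subgroupOf (P : Subgroup G))) (φ a)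
      exact MonoidHom.mem_ker.2 (eq_one_of_odd hn (Odd.of_dvd_nat ha (orderOf_map_dvd φ a)))) hfR)
  set u := g * f * g⁻¹
  have hu1 : u ≠ 1 := fun e => hf1 (conj_eq_one_iff.1 e)
  have hu2 : u ^ 2 = 1 := by rw [conj_pow, hf2, mul_one, mul_inv_cancel]
  by_cases huT : u ∈ T
  · -- an involution of `D`
    have huD : u ∈ D := hRT ⟨hg, huT⟩
    have key : ∀ {K K' : Subgroup G}, Side M T K → Side M T K' → z ∈ wOf K → Shape T K →
        wOf K ⊔ wOf K' = D → u ∈ qOf T K → False := by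
      intro K K' s _ hzK hs hDe huQ
      obtain ⟨v, hv, σ, hσ, e⟩ := (mem_sup_iff_mul (show zOf T ≤ Subgroup.normalizer (wOf K : Set G) from
        fun x hx => wOf_norm_of (s.norm c (c.z_mem_T hx)))).1 (hs.gen huQ)
      have hσD : σ ∈ D := by
        rw [show σ = v⁻¹ * (v * σ) by group, e]
        exact mul_mem (inv_mem (hDe.le (Subgroup.mem_sup_left hv))) huD
      have hσW : σ ∈ wOf K := by
        rcases four_cases (omegaCenter_el _) h4 hfZ hz hf1 hz1 hfz σ hσ with r | r | r | r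
        · rw [r]; exact one_mem _
        · rw [r] at hσD; exact absurd hσD hfD
        · rw [r]; exact hzK
        · rw [r] at hσD
          exact absurd ((Subgroup.mul_mem_cancel_right _ ((le_sup_left : wOf K₁ ≤ D) hz₁)).1 hσD) hfD
      rcases hconjW s hzK u (e ▸ mul_mem hv hσW) with r | ⟨g', r⟩
      · exact hu1 r
      · refine hnot (g'⁻¹ * g) ?_
        calc g'⁻¹ * g * f * (g'⁻¹ * g)⁻¹ = g'⁻¹ * u * g' := by simp only [u]; group
          _ = z := by rw [← r]; group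
    rcases hinv u huT hu2 with h | h
    · exact key s₁ s₂ hz₁ h₁ rfl h
    · exact key s₂ s₁ hz₂ h₂ (sup_comm _ _) h
  -- an involution outside `T` centralizes no elementary subgroup of order eight
  have hTg : cj T g ≤ (P : Subgroup G) ⊓ Subgroup.centralizer {u} :=
    (cj_mono (le_inf hP fun t ht => Subgroup.mem_centralizer_singleton_iff.2 (s₁.z_central c hfZ ht)) g).trans hgC
  have huN : u ∈ Subgroup.normalizer (T : Set G) := hPN (hRP hg)
  have hQle : cj (qOf T K₁) g ≤ T := by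
    by_contra hnotT
    have := c.el_out s₁ s₂ hne hnc hz hz₁ hz₂ hz1 h4 ((replFamily_elementary 2).map_equiv h₁.el (MulAut.conj g))
      (((cj_mono inf_le_left g).trans hTg).trans (inf_le_left.trans hPN)) hnotT
    change Nat.card ↥(cj (qOf T K₁) g) ≤ 4 at this
    rw [card_cj, c.q_eight s₁ s₂ h₁ h4] at this
    omega
  have huC : u ∈ Subgroup.normalizer (cj (qOf T K₁) g : Set G) := mem_normalizer_of_cj_le (by
    rintro _ ⟨q, hq, rfl⟩
    show u * q * u⁻¹ ∈ cj (qOf T K₁) g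
    rw [← Subgroup.mem_centralizer_singleton_iff.1 (Subgroup.mem_inf.1 (hTg (cj_mono inf_le_left g hq))).2,
      mul_inv_cancel_right]
    exact hq)
  rcases c.cj_q s₁ s₂ hne hnc hQle with e | e <;> rw [e] at huC
  · exact huT (s₁.norm_T_loc c h₁ huN (c.loc_q_norm s₁ s₂ hne huC))
  · exact huT (s₂.norm_T_loc c h₂ huN (c.loc_q_norm s₂ s₁ hne.symm huC))

omit s₂ hne hnc K₂ in
/-- A maximal subgroup in a subgroup containing the component and the moving involution. -/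
theorem Side.residual_max (hs : Shape T K₁) {R : Subgroup G} (hKR : K₁ ≤ R) {v : G} (hv : v ∈ T)
    (hvQ : v ∉ qOf T K₁) (hv2 : v ^ 2 = 1) (hvR : v ∈ R) (hfix : ∀ f ∈ fixZ T K₁, f ∈ R → f = 1) :
    IsMaximalTwoLocal ((locOf T K₁).subgroupOf R) ∧
      Nonempty (↥((locOf T K₁).subgroupOf R) ≃* Equiv.Perm (Fin 4)) ∧ Nat.card ↥(locOf T K₁ ⊓ R) = 24 ∧
      qOf T K₁ ⊓ R = wOf K₁ := by
  obtain ⟨k, z, w, d, hkL, -, hPQ, hzZ, hzW, hz1, -⟩ := s₁.frame c
  obtain ⟨H, hHL, hHK, hH24, ⟨e⟩, -⟩ := s₁.exists_symFour c hs hv hvQ hv2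
  set L := locOf T K₁
  have hHR : H ≤ R := hHK.trans (sup_le hKR (Subgroup.zpowers_le.2 hvR))
  have hWR : wOf K₁ ≤ R := (wOf_le_omega.trans ((omegaCenterOf_le _).trans (pCoreOf_le K₁))).trans hKR
  -- `Q ⊓ R = W`
  have hQR : qOf T K₁ ⊓ R = wOf K₁ := by
    refine le_antisymm (fun q hq => ?_) (le_inf (s₁.w_le_q c) hWR)
    obtain ⟨hqQ, hqR⟩ := Subgroup.mem_inf.1 hq
    obtain ⟨a, ha, σ, hσ, rfl⟩ := (mem_sup_iff_mul (show zOf T ≤ Subgroup.normalizer (wOf K₁ : Set G) from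
      fun x hx => wOf_norm_of (s₁.norm c (c.z_mem_T hx)))).1 (hs.gen hqQ)
    refine mul_mem ha ?_
    have hσR : σ ∈ R := (Subgroup.mul_mem_cancel_left _ (hWR ha)).1 hqR
    obtain ⟨-, hsup⟩ := center_split c.pT s₁.comp
    obtain ⟨l, hl, b, hb, rfl⟩ := (mem_sup_iff_mul (show _ ≤ Subgroup.normalizer ((zOf T ⊓ wOf K₁ : Subgroup G) : Set G)
      from fun y hy => mem_normalizer_of_cj_le (by
        rintro _ ⟨u, hu, rfl⟩
        show y * u * y⁻¹ ∈ _
        rw [Local.elemAb_commute (omegaCenter_el _) (Subgroup.mem_inf.1 hy).1 (Subgroup.mem_inf.1 hu).1,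
          mul_inv_cancel_right]
        exact hu))).1 ((hsup.ge.trans (sup_comm _ _).le) hσ)
    have hlW := (Subgroup.mem_inf.1 hl).2
    rw [hfix b (Subgroup.mem_inf.2 ⟨(Subgroup.mem_inf.1 hb).1, Subgroup.mem_centralizer_iff.2 fun x hx =>
      Subgroup.mem_centralizer_iff.1 (Subgroup.mem_inf.1 (Subgroup.mem_inf.1 hb).2).2 x (Subgroup.mem_sup_left hx)⟩)
      ((Subgroup.mul_mem_cancel_left _ (hWR hlW)).1 hσR), mul_one]
    exact hlW
  have hcardL : Nat.card ↥L = 12 * Nat.card ↥(zOf T) := by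
    rw [← card_mul_relIndex_of_le s₁.hy.T_le, hs.index,
      ← card_mul_relIndex_of_le (inf_le_left : qOf T K₁ ≤ T), s₁.relIndex_q c, hs.card]
    omega
  have hfpos : 1 ≤ Nat.card ↥(fixZ T K₁) := Nat.card_pos
  have hZ := (c.spec s₁.comp s₁.notM s₁.hy).2
  have hfz := (fixZ_spec c.pT s₁.comp).1
  have hH : L ⊓ R = H := by
    refine (Subgroup.eq_of_le_of_card_ge (le_inf hHL hHR) ?_).symm
    rcases (show Nat.card ↥(zOf T) = 2 ∨ Nat.card ↥(zOf T) = 4 by omega) with h | h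
    · rw [hH24]
      refine (Subgroup.card_le_of_le inf_le_left).trans ?_
      omega
    · obtain ⟨f, hf, hf1⟩ := (fixZ T K₁).bot_or_exists_ne_one.resolve_left fun hb => by
        rw [hb, Subgroup.card_bot, h] at hfz
        omega
      have hfL : f ∈ L := s₁.hy.T_le (c.z_mem_T (Subgroup.mem_inf.1 hf).1)
      have hlt : (L ⊓ R).relIndex L ≠ 1 := fun he =>
        hf1 (hfix f hf (Subgroup.mem_inf.1 (Subgroup.relIndex_eq_one.1 he hfL)).2)
      have hne0 : (L ⊓ R).relIndex L ≠ 0 := by rw [Subgroup.relIndex]; exact Subgroup.index_ne_zero_of_finite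
      have h1 := card_mul_relIndex_of_le (inf_le_left : L ⊓ R ≤ L)
      have h2 : 2 ≤ (L ⊓ R).relIndex L := by omega
      have h3 := Nat.mul_le_mul_left (Nat.card ↥(L ⊓ R)) h2
      rw [hH24]
      omega
  have hsub : L.subgroupOf R = H.subgroupOf R := by
    rw [← hH, Subgroup.inf_subgroupOf_right]
  refine ⟨?_, ⟨(MulEquiv.subgroupCongr hsub).trans ((Subgroup.subgroupOfEquivOfLe hHR).trans e)⟩, hH ▸ hH24, hQR⟩
  have hnW : Subgroup.normalizer (wOf K₁ : Set G) = L := le_antisymm (c.norm_W_le s₁.comp s₁.notM)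
    (hs.eq.le.trans (sup_le wOf_norm fun t ht => wOf_norm_of (s₁.norm c ht)))
  have hP : IsTwoLocal (L.subgroupOf R) := by
    refine ⟨(wOf K₁).subgroupOf R, ?_, fun hb => wOf_ne_bot s₁.comp ?_, ?_⟩
    · exact (isPGroup_elementary wOf_el).of_equiv (Subgroup.subgroupOfEquivOfLe hWR).symm
    · rw [← inf_eq_left.2 hWR]
      exact disjoint_iff.1 (Subgroup.subgroupOf_eq_bot.1 hb)
    · rw [← Subgroup.subgroupOf_normalizer_eq hWR, hnW]
  refine ⟨hP, fun N hN hle => le_antisymm ?_ hle⟩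
  obtain ⟨X₀, hX₀, hX₀1, rfl⟩ := hN
  set X := X₀.map R.subtype
  have hXR : X ≤ R := Subgroup.map_subtype_le _
  have hXp : IsPGroup 2 ↥X := hX₀.map _
  have hX1 : X ≠ ⊥ := fun hb => hX₀1 ((Subgroup.map_eq_bot_iff_of_injective _ R.subtype_injective).1 hb)
  have hXeq : X.subgroupOf R = X₀ := Subgroup.comap_map_eq_self_of_injective R.subtype_injective _
  have hn : L ⊓ R ≤ Subgroup.normalizer (X : Set G) := by
    intro g hg
    obtain ⟨hgL, hgR⟩ := Subgroup.mem_inf.1 hg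
    have hg' : (⟨g, hgR⟩ : ↥R) ∈ Subgroup.normalizer (X₀ : Set ↥R) := hle (Subgroup.mem_subgroupOf.2 hgL)
    rw [← hXeq, ← Subgroup.subgroupOf_normalizer_eq hXR] at hg'
    exact hg'
  have hKn : K₁ ≤ Subgroup.normalizer (X : Set G) :=
    (le_inf (c.loc_spec s₁.comp s₁.notM).2.1 hKR).trans hn
  -- `W` lies in `X`
  have hWL : wOf K₁ ≤ L ⊓ R := le_inf ((s₁.w_le_q c).trans (inf_le_left.trans s₁.hy.T_le)) hWR
  have hCX : ∀ y ∈ X, (∀ a ∈ wOf K₁, a * y = y * a) → y ∈ wOf K₁ := fun y hy hc => by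
    have hyC : y ∈ Subgroup.centralizer (wOf K₁ : Set G) := Subgroup.mem_centralizer_iff.2 hc
    rw [← hQR]
    exact Subgroup.mem_inf.2 ⟨hs.cent.le ⟨hnW.le (Subgroup.centralizer_le_normalizer _ hyC), hyC⟩, hXR hy⟩
  obtain ⟨x, hx, hx1, hxC⟩ := exists_fixed (isPGroup_elementary wOf_el) hXp hX1 (hWL.trans hn)
  have hxW := hCX x hx hxC
  have hWX : wOf K₁ ≤ X := by
    have hkx : k * x * k⁻¹ ∈ X := (Subgroup.mem_normalizer_iff.1 (hKn d.mem) x).1 hx
    intro y hy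
    rcases four_cases wOf_el s₁.comp.2.2.2.2.1 hxW ((Subgroup.mem_normalizer_iff.1 (wOf_norm d.mem) x).1 hxW) hx1
      (fun h => hx1 (conj_eq_one_iff.1 h)) (fun h => hx1 (d.fpf hxW h.symm)) y hy with r | r | r | r <;> rw [r]
    exacts [one_mem _, hx, hkx, mul_mem hx hkx]
  -- `X` equals `W`
  have hXW : X = wOf K₁ := by
    by_contra hne'
    obtain ⟨y, hy, hyn⟩ := SetLike.exists_of_lt (SylIn.normalizer_growth hWX (Ne.symm hne') hXp)
    obtain ⟨hyX, hyN⟩ := Subgroup.mem_inf.1 hy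
    refine hyn ?_
    obtain ⟨g, hg, t, ht, hgt⟩ := (mem_sup_iff_mul (s₁.norm c)).1 (hs.eq.le (hnW.le hyN))
    have hyK : y ∈ Subgroup.normalizer (K₁ : Set G) :=
      hgt ▸ mul_mem (Subgroup.le_normalizer hg) (s₁.norm c ht)
    set r := ⁅k, y⁆ with hr
    have hrK : r ∈ K₁ := (commutator_elem_mem d.mem hyK).1
    have hrX : r ∈ X := mul_mem ((Subgroup.mem_normalizer_iff.1 (hKn d.mem) y).1 hyX) (inv_mem hyX)
    obtain ⟨n, hn2⟩ := hXp ⟨r, hrX⟩
    have hrP : r ∈ pCoreOf 2 K₁ := by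
      obtain ⟨p, hp, i, -, e⟩ := d.split hrK
      refine mem_of_pow_two_odd (n := n) (o := 3) (by decide)
        (by rw [show r ^ 2 ^ n = 1 from congrArg Subtype.val hn2]; exact one_mem _) ?_
      have hki : k ^ i ∈ Subgroup.normalizer (pCoreOf 2 K₁ : Set G) :=
        le_normalizer_pCoreOf K₁ (pow_mem d.mem i)
      have h := pow_mul_mem hp hki 3
      rw [show (k ^ i) ^ 3 = 1 by rw [← pow_mul, mul_comm, pow_mul, d.cube, one_pow], inv_one, mul_one, e] at h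
      exact h
    have hrC : ∀ a ∈ wOf K₁, r * a = a * r := fun a ha =>
      (Subgroup.mem_centralizer_iff.1 (Subgroup.mem_inf.1 (hPQ hrP)).2 a ha).symm
    have hyW : y ∈ Subgroup.normalizer (wOf K₁ : Set G) := hyN
    obtain ⟨z₀, hz₀, hz₀1, hfixed⟩ := exists_fixed (A := Subgroup.zpowers y) (hXp.to_le (Subgroup.zpowers_le.2 hyX))
      (isPGroup_elementary wOf_el) (wOf_ne_bot s₁.comp) (Subgroup.zpowers_le.2 hyW)
    have hyz : Commute y z₀ := hfixed y (Subgroup.mem_zpowers y)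
    have hkz : k * z₀ * k⁻¹ ∈ wOf K₁ := (Subgroup.mem_normalizer_iff.1 (wOf_norm d.mem) z₀).1 hz₀
    have hyk : Commute y (k * z₀ * k⁻¹) := by
      refine mul_inv_eq_iff_eq_mul.1 ?_
      have e : k * y = r * (y * k) := by simp only [r, commutatorElement_def]; group
      have hyk' : y * k = r⁻¹ * (k * y) := by rw [e]; group
      calc y * (k * z₀ * k⁻¹) * y⁻¹ = (y * k) * z₀ * (y * k)⁻¹ := by group
        _ = r⁻¹ * (k * (y * z₀ * y⁻¹) * k⁻¹) * r := by rw [hyk']; group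
        _ = r⁻¹ * (k * z₀ * k⁻¹) * r := by rw [hyz.eq, mul_inv_cancel_right]
        _ = k * z₀ * k⁻¹ := by rw [mul_assoc, ← hrC _ hkz, inv_mul_cancel_left]
    refine hCX y hyX fun a ha => ?_
    rcases four_cases wOf_el s₁.comp.2.2.2.2.1 hz₀ hkz hz₀1 (fun h => hz₀1 (conj_eq_one_iff.1 h)) (fun h => hz₀1 (d.fpf hz₀ h.symm)) a ha with
      r | r | r | r <;> rw [r]
    · rw [one_mul, mul_one]
    · exact hyz.eq.symm
    · exact hyk.eq.symm
    · exact (hyz.mul_right hyk).eq.symm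
  rw [← hXeq, ← Subgroup.subgroupOf_normalizer_eq hXR, hXW, hnW]

/-- The pair gives two maximal two-local subgroups, symmetric of degree four, meeting in a group of order eight. -/
theorem Ctx.nc_residual {R : Subgroup G} (hR : R = Subgroup.closure {g : G | Odd (orderOf g)}) :
    ∃ M₁ M₂ : Subgroup R, M₁ ≠ M₂ ∧ IsMaximalTwoLocal M₁ ∧ IsMaximalTwoLocal M₂ ∧
      Nonempty (M₁ ≃* Equiv.Perm (Fin 4)) ∧ Nonempty (M₂ ≃* Equiv.Perm (Fin 4)) ∧
      Nat.card ↥(M₁ ⊓ M₂) = 8 := by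
  subst hR
  set R := Subgroup.closure {g : G | Odd (orderOf g)}
  have hnc' : ¬ wOf K₂ ≤ qOf T K₁ := fun h => hnc (c.comm_symm s₂ s₁ h)
  obtain ⟨h₁, h₂, -⟩ := c.nc_spec s₁ s₂ hne hnc
  have hWR : ∀ {K : Subgroup G}, Side M T K → wOf K ≤ R := fun s =>
    (wOf_le_omega.trans ((omegaCenterOf_le _).trans (pCoreOf_le _))).trans (s.le_odd c)
  have hfix : ∀ {K K' : Subgroup G}, Side M T K → Side M T K' → locOf T K' ≠ locOf T K → ¬ wOf K ≤ qOf T K' →
      ∀ f ∈ fixZ T K, f ∈ R → f = 1 := by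
    intro K K' s s' hne hnc f hf hfR
    by_contra hf1
    have h4 : Nat.card ↥(zOf T) = 4 := by
      have h1 := (c.spec s.comp s.notM s.hy).2
      have h2 := (fixZ_spec c.pT s.comp).1
      have : 1 < Nat.card ↥(fixZ T K) :=
        (Subgroup.one_lt_card_iff_ne_bot _).2 fun hb => hf1 (Subgroup.mem_bot.1 (hb ▸ hf))
      omega
    exact hf1 (c.fix_not_odd s s' hne hnc h4 hf hfR)
  obtain ⟨v₁, hv₁, hv₁n⟩ := SetLike.not_le_iff_exists.1 hnc'
  obtain ⟨v₂, hv₂, hv₂n⟩ := SetLike.not_le_iff_exists.1 hnc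
  have hv₁T := (Subgroup.mem_inf.1 (s₂.w_le_q c hv₁)).1
  obtain ⟨hm₁, he₁, h24₁, hq₁⟩ := s₁.residual_max c h₁ (s₁.le_odd c) hv₁T hv₁n
    (wOf_el.2 v₁ hv₁) (hWR s₂ hv₁) (hfix s₁ s₂ hne hnc)
  obtain ⟨hm₂, he₂, h24₂, -⟩ := s₂.residual_max c h₂ (s₂.le_odd c) (Subgroup.mem_inf.1 (s₁.w_le_q c hv₂)).1 hv₂n
    (wOf_el.2 v₂ hv₂) (hWR s₁ hv₂) (hfix s₂ s₁ hne.symm hnc')
  set L₁ := locOf T K₁
  set L₂ := locOf T K₂
  have hneq : L₁ ⊓ R ≠ L₂ ⊓ R := by
    intro e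
    refine hne (c.eq_loc s₁.comp s₁.notM (c.loc_spec s₂.comp s₂.notM).1 (sup_le ?_ ((J_le T).trans s₂.hy.T_le)))
    exact (le_inf (c.loc_spec s₁.comp s₁.notM).2.1 (s₁.le_odd c)).trans (e.le.trans inf_le_left)
  refine ⟨L₁.subgroupOf R, L₂.subgroupOf R, fun e => hneq (Subgroup.subgroupOf_inj.1 e), hm₁, hm₂, he₁, he₂, ?_⟩
  rw [show L₁.subgroupOf R ⊓ L₂.subgroupOf R = (L₁ ⊓ L₂).subgroupOf R from (Subgroup.comap_inf _ _ _).symm,
    ← Subgroup.inf_subgroupOf_right,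
    Nat.card_congr (Subgroup.subgroupOfEquivOfLe (inf_le_right : L₁ ⊓ L₂ ⊓ R ≤ R)).toEquiv]
  -- the intersection contains `T ⊓ R` of order at least eight
  have hbig : 8 ≤ Nat.card ↥(T ⊓ R) := by
    have h1 : wOf K₁ ≤ qOf T K₁ ⊓ R := le_inf (s₁.w_le_q c) (hWR s₁)
    have h2 := card_mul_relIndex_of_le (inf_le_inf_right R inf_le_left : qOf T K₁ ⊓ R ≤ T ⊓ R)
    rw [hq₁, s₁.comp.2.2.2.2.1] at h2
    have h3 : (wOf K₁).relIndex (T ⊓ R) ≠ 1 := fun he =>
      hv₁n (s₁.w_le_q c (Subgroup.relIndex_eq_one.1 he (Subgroup.mem_inf.2 ⟨hv₁T, hWR s₂ hv₁⟩)))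
    have h4 : (wOf K₁).relIndex (T ⊓ R) ≠ 0 := by rw [Subgroup.relIndex]; exact Subgroup.index_ne_zero_of_finite
    have h5 := Nat.mul_le_mul_left 4 (show 2 ≤ (wOf K₁).relIndex (T ⊓ R) by omega)
    omega
  have hle : T ⊓ R ≤ L₁ ⊓ L₂ ⊓ R := inf_le_inf_right R (le_inf s₁.hy.T_le s₂.hy.T_le)
  have hle₁ : L₁ ⊓ L₂ ⊓ R ≤ L₁ ⊓ R := inf_le_inf_right R inf_le_left
  have hd1 := Subgroup.card_dvd_of_le hle
  have hd2 := Subgroup.card_dvd_of_le hle₁
  rw [h24₁] at hd2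
  obtain ⟨n, hn⟩ := IsPGroup.iff_card.1 (c.pT.to_inf_left (K := R))
  have hne24 : Nat.card ↥(L₁ ⊓ L₂ ⊓ R) ≠ 24 := by
    intro h
    have e₁ := Subgroup.eq_of_le_of_card_ge hle₁ (by rw [h, h24₁])
    have e₂ := Subgroup.eq_of_le_of_card_ge (inf_le_inf_right R inf_le_right : L₁ ⊓ L₂ ⊓ R ≤ L₂ ⊓ R)
      (by rw [h, h24₂])
    exact hneq (e₁.symm.trans e₂)
  have hn3 : n ≤ 3 := by
    by_contra hn3
    have h16 : 16 ∣ 24 := ((show 2 ^ 4 ∣ 2 ^ n from pow_dvd_pow 2 (by omega)).trans (hn ▸ hd1)).trans hd2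
    omega
  have hTR : Nat.card ↥(T ⊓ R) = 8 := by
    have : Nat.card ↥(T ⊓ R) ≤ 2 ^ 3 := hn ▸ Nat.pow_le_pow_right two_pos hn3
    omega
  rw [hTR] at hd1
  obtain ⟨a, ha⟩ := hd1
  have hale := Nat.le_of_dvd (by norm_num) hd2
  rw [ha] at hd2 hne24 hale ⊢
  have : a ≤ 3 := by omega
  interval_cases a <;> omega

end Cfsg.Agent.JComp
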