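import Cfsg.Prelude.Def_CaseTheorems
import Cfsg.Agent.Lib.JComp.Basic
import Cfsg.Agent.Lib.LocalEven.Reduced

/-!
# The overgroups in which the Thompson subgroup is not contained in the core
-/

set_option autoImplicit false

open Cfsg
open scoped commutatorElement

namespace Cfsg.Agent.JComp

open Cfsg.Agent.Fusion

universe u

variable {G : Type u} [Group G]

/-- The hypotheses on the ambient group. -/
structure Amb (G : Type u) [Group G] : Prop where
  cty : IsCharacteristicTwoType G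
  loc : ∀ N : Subgroup G, IsTwoLocal N → Group.IsSolvable ↥N
  cen : ∀ S : Sylow 2 G, Subgroup.centralizer (omegaCenterOf (S : Subgroup G) : Set G) ≤
    Subgroup.normalizer ((S : Subgroup G) : Set G)

/-- A nontrivial `2`-group with one of its overgroups. -/
structure Hy (T L : Subgroup G) : Prop where
  amb : Amb G
  pT : IsPGroup 2 T
  neT : T ≠ ⊥
  mem : L ∈ jOvergroups T

/-- `Ω₁(Z(O₂(L)))`. -/
abbrev vOf (L : Subgroup G) : Subgroup G := omegaCenterOf (pCoreOf 2 L)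

/-- The kernel of the action of `L` on it. -/
abbrev cOf (L : Subgroup G) : Subgroup G := L ⊓ Subgroup.centralizer (vOf L : Set G)

/-- The normal closure of `J(T)` in `L`. -/
abbrev yOf (T L : Subgroup G) : Subgroup G := ⨆ l : ↥L, cj (thompsonSubgroupOf 2 T) l

variable {T L : Subgroup G}

theorem mem_omegaCenter {X : Subgroup G} {x : G} (hx : x ∈ X) (h2 : x ^ 2 = 1) (hc : ∀ y ∈ X, y * x = x * y) :
    x ∈ omegaCenterOf X :=
  Subgroup.subset_closure ⟨⟨hx, Subgroup.mem_centralizer_iff.2 hc⟩, h2⟩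

theorem omegaCenterOf_le (X : Subgroup G) : omegaCenterOf X ≤ X :=
  (Subgroup.closure_le _).2 fun _ hx => hx.1.1

theorem omegaCenter_comm {X : Subgroup G} {x y : G} (hx : x ∈ omegaCenterOf X) (hy : y ∈ X) : y * x = x * y := by
  have h : omegaCenterOf X ≤ Subgroup.centralizer (X : Set G) := (Subgroup.closure_le _).2 fun _ hx => hx.1.2
  exact Subgroup.mem_centralizer_iff.1 (h hx) y hy

theorem omegaCenter_el (X : Subgroup G) : El (omegaCenterOf X) :=
  Local.elemAb_closure _ (fun a ha _ hb => Subgroup.mem_centralizer_iff.1 hb.1.2 a ha.1.1) fun _ ha => ha.2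

theorem omegaCenter_norm [Finite G] {X : Subgroup G} {g : G} (h : g ∈ Subgroup.normalizer (X : Set G)) :
    g ∈ Subgroup.normalizer (omegaCenterOf X : Set G) := by
  rw [mem_normalizer_iff_cj, omegaCenterOf_cj, cj_eq_self h]

theorem commutator_elem_mem {V : Subgroup G} {v g : G} (hv : v ∈ V) (hg : g ∈ Subgroup.normalizer (V : Set G)) :
    ⁅v, g⁆ ∈ V ∧ ⁅g, v⁆ ∈ V := by
  constructor
  · rw [commutatorElement_def, show v * g * v⁻¹ * g⁻¹ = v * (g * v⁻¹ * g⁻¹) by group]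
    exact mul_mem hv ((Subgroup.mem_normalizer_iff.1 hg _).1 (inv_mem hv))
  · rw [commutatorElement_def]
    exact mul_mem ((Subgroup.mem_normalizer_iff.1 hg _).1 hv) (inv_mem hv)

namespace Hy

variable [Finite G] [Fact (Nat.Prime 2)] (h : Hy T L)
include h

theorem syl : SylIn 2 T L := sylIn_of_isSylowTwoIn h.mem.1

omit [Finite G] [Fact (Nat.Prime 2)] in
theorem T_le : T ≤ L := h.mem.1.1

theorem Q_le_T : pCoreOf 2 L ≤ T := pCoreOf_le_sylIn h.syl

omit [Finite G] [Fact (Nat.Prime 2)] in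
theorem centralizer_Q {x : G} (hx : ∀ q ∈ pCoreOf 2 L, q * x = x * q) : x ∈ pCoreOf 2 L :=
  h.mem.2.2 (Subgroup.mem_centralizer_iff.2 hx)

omit [Finite G] [Fact (Nat.Prime 2)] in
theorem Q_ne_bot : pCoreOf 2 L ≠ ⊥ := fun hb => h.neT (eq_bot_iff.2 fun x _ =>
  hb ▸ h.centralizer_Q fun q hq => by rw [hb, Subgroup.mem_bot] at hq; rw [hq, one_mul, mul_one])

theorem solvable : Group.IsSolvable ↥L := by
  haveI : Group.IsSolvable ↥(Subgroup.normalizer (pCoreOf 2 L : Set G)) :=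
    h.amb.loc _ ⟨_, isPGroup_pCoreOf L, h.Q_ne_bot, rfl⟩
  exact Group.isSolvable_of_isSolvable_injective (Subgroup.inclusion_injective (le_normalizer_pCoreOf L))

theorem V_le_T : vOf L ≤ T := (omegaCenterOf_le _).trans h.Q_le_T

omit h in
theorem L_norm_V (L : Subgroup G) : L ≤ Subgroup.normalizer (vOf L : Set G) := fun _ hl =>
  omegaCenter_norm (le_normalizer_pCoreOf L hl)

omit h in
theorem L_norm_C (L : Subgroup G) : L ≤ Subgroup.normalizer (cOf L : Set G) := fun l hl => by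
  rw [mem_normalizer_iff_cj, cj_inf, cj_eq_self (Subgroup.le_normalizer hl), cj_centralizer,
    cj_eq_self (L_norm_V L hl)]

omit h in
theorem Q_le_C (L : Subgroup G) : pCoreOf 2 L ≤ cOf L := fun q hq =>
  ⟨pCoreOf_le L hq, Subgroup.mem_centralizer_iff.2 fun _ hv => (omegaCenter_comm hv hq).symm⟩

/-- The kernel normalizes `T`. -/
theorem C_norm_T : cOf L ≤ Subgroup.normalizer (T : Set G) := by
  obtain ⟨S, hS⟩ := h.pT.exists_le_sylow
  have hTS : T = (S : Subgroup G) ⊓ L :=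
    (h.syl.eq_of_le (S.isPGroup'.to_inf_left) (le_inf hS h.T_le) inf_le_right).symm
  have hZV : omegaCenterOf (S : Subgroup G) ≤ vOf L := (Subgroup.closure_le _).2 fun x hx => by
    have hxQ : x ∈ pCoreOf 2 L := h.centralizer_Q fun q hq =>
      Subgroup.mem_centralizer_iff.1 hx.1.2 q (hS (h.Q_le_T hq))
    exact mem_omegaCenter hxQ hx.2 fun q hq => Subgroup.mem_centralizer_iff.1 hx.1.2 q (hS (h.Q_le_T hq))
  intro c hc
  have h1 : c ∈ Subgroup.normalizer ((S : Subgroup G) : Set G) :=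
    h.amb.cen S (Subgroup.centralizer_le hZV hc.2)
  rw [mem_normalizer_iff_cj, hTS, cj_inf, cj_eq_self h1, cj_eq_self (Subgroup.le_normalizer hc.1)]

theorem inf_C_le_Q : T ⊓ cOf L ≤ pCoreOf 2 L := by
  have hs : SylIn 2 (T ⊓ cOf L) (cOf L) := h.syl.inf_normal inf_le_left (L_norm_C L)
  refine le_pCoreOf (inf_le_right.trans inf_le_left) h.pT.to_inf_left fun l hl => ?_
  obtain ⟨c, hc, he⟩ := (hs.cj' (L_norm_C L hl)).conj_eq hs
  have hcn : cj (T ⊓ cOf L) c⁻¹ = T ⊓ cOf L := by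
    rw [cj_inf, cj_eq_self (h.C_norm_T (inv_mem hc)), cj_eq_self (Subgroup.le_normalizer (inv_mem hc))]
  rw [mem_normalizer_iff_cj]
  calc cj (T ⊓ cOf L) l = cj (cj (cj (T ⊓ cOf L) l) c) c⁻¹ := (cj_cj_inv _ c).symm
    _ = cj (T ⊓ cOf L) c⁻¹ := by rw [he]
    _ = _ := hcn

/-- The `2`-elements of the kernel lie in the core. -/
theorem two_mem {x : G} (hx : x ∈ cOf L) {n : ℕ} (hn : x ^ 2 ^ n = 1) : x ∈ pCoreOf 2 L := by
  obtain ⟨m, -, hm⟩ := (Nat.dvd_prime_pow Nat.prime_two).1 (orderOf_dvd_of_pow_eq_one hn)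
  have hp : IsPGroup 2 (Subgroup.zpowers x) := IsPGroup.of_card (n := m) (by rw [Nat.card_zpowers, hm])
  have hs : SylIn 2 (T ⊓ cOf L) (cOf L) := h.syl.inf_normal inf_le_left (L_norm_C L)
  obtain ⟨c, hc, hle⟩ := hs.conj_le hp (Subgroup.zpowers_le.2 hx)
  have h1 := h.inf_C_le_Q (hle (conj_mem_cj (Subgroup.mem_zpowers x)))
  exact (Subgroup.mem_normalizer_iff.1 (le_normalizer_pCoreOf L hc.1) x).2 h1

theorem J_le_L : thompsonSubgroupOf 2 T ≤ L := (J_le T).trans h.T_le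

theorem Y_le : yOf T L ≤ L := iSup_le fun l => (cj_mono h.J_le_L _).trans (cj_eq_self_of_mem l.2).le

omit [Finite G] [Fact (Nat.Prime 2)] h in
theorem J_le_Y : thompsonSubgroupOf 2 T ≤ yOf T L := le_iSup_of_le 1 (by simp [cj_one])

omit h in
theorem L_norm_Y : L ≤ Subgroup.normalizer (yOf T L : Set G) := by
  intro l hl
  refine mem_normalizer_of_cj_le ?_
  rw [yOf, cj, Subgroup.map_iSup]
  refine iSup_le fun k => le_iSup_of_le ⟨l * k, mul_mem hl k.2⟩ ?_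
  exact (cj_cj (thompsonSubgroupOf 2 T) (k : G) l).le

/-- The kernel is centralized by `Y` modulo the core. -/
theorem cent {c y : G} (hc : c ∈ cOf L) (hy : y ∈ yOf T L) : ⁅c, y⁆ ∈ pCoreOf 2 L := by
  set Q := pCoreOf 2 L
  have hTc : ∀ t ∈ T, ∀ c ∈ cOf L, ⁅c, t⁆ ∈ Q := by
    intro t ht c hc
    refine h.inf_C_le_Q ⟨?_, ?_⟩
    · exact (commutator_elem_mem ht (h.C_norm_T hc)).2
    · exact (commutator_elem_mem hc (L_norm_C L (h.T_le ht))).1
  suffices hD : yOf T L ≤ Subgroup.closure {g : G | g ∈ L ∧ ∀ c ∈ cOf L, ⁅c, g⁆ ∈ Q} by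
    have hg := hD hy
    clear hy
    suffices y ∈ L ∧ ∀ c ∈ cOf L, ⁅c, y⁆ ∈ Q from this.2 c hc
    induction hg using Subgroup.closure_induction with
    | mem g hg => exact hg
    | one => exact ⟨one_mem L, fun c _ => by rw [commutatorElement_one_right]; exact one_mem Q⟩
    | mul a b _ _ iha ihb =>
      refine ⟨mul_mem iha.1 ihb.1, fun c hc => ?_⟩
      rw [show ⁅c, a * b⁆ = ⁅c, a⁆ * (a * ⁅c, b⁆ * a⁻¹) by simp only [commutatorElement_def]; group]
      exact mul_mem (iha.2 c hc)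
        ((Subgroup.mem_normalizer_iff.1 (le_normalizer_pCoreOf L iha.1) _).1 (ihb.2 c hc))
    | inv a _ iha =>
      refine ⟨inv_mem iha.1, fun c hc => ?_⟩
      rw [show ⁅c, a⁻¹⁆ = a⁻¹ * ⁅c, a⁆⁻¹ * a⁻¹⁻¹ by simp only [commutatorElement_def]; group]
      exact (Subgroup.mem_normalizer_iff.1 (le_normalizer_pCoreOf L (inv_mem iha.1)) _).1
        (inv_mem (iha.2 c hc))
  refine iSup_le fun l => ?_
  rintro _ ⟨j, hj, rfl⟩
  refine Subgroup.subset_closure ⟨mul_mem (mul_mem l.2 (h.J_le_L hj)) (inv_mem l.2), fun c hc => ?_⟩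
  show ⁅c, (l : G) * j * (l : G)⁻¹⁆ ∈ Q
  rw [show ⁅c, (l : G) * j * (l : G)⁻¹⁆ = l * ⁅(l : G)⁻¹ * c * l, j⁆ * (l : G)⁻¹ by
    simp only [commutatorElement_def]; group]
  refine (Subgroup.mem_normalizer_iff.1 (le_normalizer_pCoreOf L l.2) _).1 (hTc j (J_le T hj) _ ?_)
  simpa using (Subgroup.mem_normalizer_iff.1 (L_norm_C L (inv_mem l.2)) c).1 hc

theorem mx_sub : mx T ⊆ mx L := fun _ hA =>
  ⟨hA.1.trans h.T_le, hA.2.1, fun _ hC hC' => card_le_of_sylIn h.syl hA hC' hC⟩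

theorem mx_le_Y {A : Subgroup G} (hA : A ∈ mx L) : A ≤ yOf T L := by
  obtain ⟨A₀, hA₀⟩ := mx_nonempty T
  obtain ⟨x, hx, hxT⟩ := h.syl.conj_le (isPGroup_elementary hA.2.1) hA.1
  have hmem : cj A x ∈ mx T := ⟨hxT, (replFamily_elementary 2).map_equiv hA.2.1 (MulAut.conj x),
    fun C hC hC' => (hA₀.2.2 C hC hC').trans ((hA.2.2 _ (hA₀.1.trans h.T_le) hA₀.2.1).trans (card_cj A x).ge)⟩
  rw [← cj_cj_inv A x]
  exact (cj_mono (mx_le_J hmem) x⁻¹).trans (le_iSup_of_le ⟨x⁻¹, inv_mem hx⟩ le_rfl)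

omit h in
/-- Conjugates under the normal closure itself suffice. -/
theorem Y_eq (h : Hy T L) : yOf T L ≤ ⨆ y : ↥(yOf T L), cj (thompsonSubgroupOf 2 T) y := by
  set Y := yOf T L
  have hP : SylIn 2 (T ⊓ Y) Y := h.syl.inf_normal h.Y_le L_norm_Y
  refine iSup_le fun l => ?_
  obtain ⟨y, hy, hyl⟩ := frattini_conj hP L_norm_Y l.2
  have hJeq : thompsonSubgroupOf 2 (T ⊓ Y) = thompsonSubgroupOf 2 T :=
    (J_eq_of_sylIn h.syl h.pT.to_inf_left (inf_le_left.trans h.T_le) (le_inf (J_le T) J_le_Y))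
  have hN : cj (thompsonSubgroupOf 2 T) (y * l) = thompsonSubgroupOf 2 T := by
    rw [← hJeq, thompson_cj, cj_eq_self hyl]
  refine le_iSup_of_le ⟨y⁻¹, inv_mem hy⟩ ?_
  show cj _ (l : G) ≤ cj _ y⁻¹
  conv_rhs => rw [← hN, cj_cj, inv_mul_cancel_left]

theorem not_J_le_C : ¬ thompsonSubgroupOf 2 T ≤ cOf L := fun hle =>
  h.mem.2.1 ((le_inf (J_le T) hle).trans h.inf_C_le_Q)

/-- No normal `2`-group over the kernel. -/
theorem core_mod {D : Subgroup G} (hCD : cOf L ≤ D) (hDL : D ≤ L) (hn : L ≤ Subgroup.normalizer (D : Set G))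
    (hp : ∀ x ∈ D, ∃ n : ℕ, x ^ 2 ^ n ∈ cOf L) : D ≤ cOf L := by
  haveI hD : (D.subgroupOf L).Normal := Subgroup.normal_subgroupOf_of_le_normalizer hn
  haveI hC : ((cOf L).subgroupOf L).Normal := Subgroup.normal_subgroupOf_of_le_normalizer (L_norm_C L)
  obtain ⟨P, hP⟩ := h.syl.exists_sylow_subgroupOf
  have hd : D ≤ cOf L ⊔ (T ⊓ D) := by
    intro x hx
    have h1 := LocalEven.Red.le_sup_sylow P (D.subgroupOf L) ((cOf L).subgroupOf L)
      (fun y hy => hCD hy) (fun y hy => hp (y : G) hy) (show (⟨x, hDL hx⟩ : ↥L) ∈ D.subgroupOf L from hx)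
    have h2 := Subgroup.mem_map_of_mem L.subtype h1
    rw [Subgroup.map_sup, Subgroup.map_subgroupOf_eq_of_le inf_le_left, Subgroup.map_inf _ _ _ L.subtype_injective,
      hP, Subgroup.map_subgroupOf_eq_of_le h.T_le, Subgroup.map_subgroupOf_eq_of_le hDL] at h2
    exact h2
  have hQ : pCoreOf 2 L ≤ T ⊓ D := le_inf h.Q_le_T ((Q_le_C L).trans hCD)
  have hnorm : D ≤ Subgroup.normalizer ((T ⊓ D : Subgroup G) : Set G) := by
    refine hd.trans (sup_le (fun c hc => ?_) Subgroup.le_normalizer)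
    refine mem_normalizer_of_cj_le (H := T ⊓ D) ?_
    rintro _ ⟨s, hs, rfl⟩
    show c * s * c⁻¹ ∈ T ⊓ D
    obtain ⟨hs1, hs2⟩ := Subgroup.mem_inf.1 hs
    refine Subgroup.mem_inf.2 ⟨(Subgroup.mem_normalizer_iff.1 (h.C_norm_T hc) s).1 hs1, ?_⟩
    exact D.mul_mem (D.mul_mem (hCD hc) hs2) (D.inv_mem (hCD hc))
  have hs : SylIn 2 (T ⊓ D) D := h.syl.inf_normal hDL hn
  have hQ' : T ⊓ D ≤ pCoreOf 2 L := le_pCoreOf (inf_le_right.trans hDL) h.pT.to_inf_left fun l hl => by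
    obtain ⟨d, hdd, he⟩ := (hs.cj' (hn hl)).conj_eq hs
    rw [mem_normalizer_iff_cj]
    calc cj (T ⊓ D) l = cj (cj (cj (T ⊓ D) l) d) d⁻¹ := (cj_cj_inv _ d).symm
      _ = cj (T ⊓ D) d⁻¹ := by rw [he]
      _ = _ := cj_eq_self (hnorm (inv_mem hdd))
  exact hd.trans (sup_le le_rfl (hQ'.trans (Q_le_C L)))

end Hy

end Cfsg.Agent.JComp
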