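import Cfsg.Agent.Lib.JComp.Double

/-!
# A pair of four-groups not centralizing each other
-/

set_option autoImplicit false
set_option linter.style.haveILetI false

open Cfsg
open scoped commutatorElement

namespace Cfsg.Agent.JComp

open Cfsg.Agent.Fusion

universe u

variable {G : Type u} [Group G] [Finite G] [Fact (Nat.Prime 2)]

/-- The conclusion about one side. -/
structure Shape (T K : Subgroup G) : Prop where
  el : El (qOf T K)
  core : pCoreOf 2 (locOf T K) = qOf T K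
  eq : locOf T K = K ⊔ T
  index : T.relIndex (locOf T K) = 3
  card : Nat.card ↥(qOf T K) = 2 * Nat.card ↥(zOf T)
  gen : qOf T K ≤ wOf K ⊔ zOf T
  cent : locOf T K ⊓ Subgroup.centralizer (wOf K : Set G) = qOf T K

variable {M T : Subgroup G} (c : Ctx M T)
include c

theorem Side.shape_of {K : Subgroup G} (s : Side M T K) (hel : El (qOf T K))
    (hcard : Nat.card ↥(qOf T K) = 2 * Nat.card ↥(zOf T)) : Shape T K := by
  have h := s.hy
  obtain ⟨k, z, w, d, hkL, hkC, hPQ, hzZ, hzW, hz1, hw, hwW, hwT, hw1, hwz, hfour, hline, hswap, t, ht, htQ⟩ :=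
    s.frame c
  set Q := qOf T K
  set L := locOf T K
  have hKL : K ≤ L := (c.loc_spec s.comp s.notM).2.1
  -- generation
  have hle : wOf K ⊔ zOf T ≤ Q := sup_le (s.w_le_q c) (s.zOf_le_q c)
  have hgen : wOf K ⊔ zOf T = Q := by
    refine Subgroup.eq_of_le_of_card_ge hle ?_
    have h1 := set_card_le (le_sup_left : wOf K ≤ wOf K ⊔ zOf T) le_sup_right
    rw [s.comp.2.2.2.2.1, inf_comm, show Nat.card ↥(zOf T ⊓ wOf K) = 2 from (center_split c.pT s.comp).1] at h1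
    omega
  -- the core of the maximal subgroup
  obtain ⟨F⟩ := h.factors
  have hcoreq : pCoreOf 2 L = Q := by
    have h1 : pCoreOf 2 L ≤ Q := fun p hp => Subgroup.mem_inf.2 ⟨h.Q_le_T hp, Subgroup.mem_centralizer_iff.2 fun w hw =>
      (core_centralizes d s.comp.2.2.2.2.1 hKL (h.Q_le_T.trans (s.norm c)) p hp w hw).symm⟩
    exact le_antisymm h1 fun q hq => h.centralizer_Q fun p hp => Local.elemAb_commute hel (h1 hp) hq
  have hV : vOf L ≤ Q := (omegaCenterOf_le _).trans hcoreq.le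
  -- the component is unique
  have hLn : L ≤ Subgroup.normalizer (K : Set G) := by
    intro l hl
    obtain ⟨y, hy, hn⟩ := h.frattini hl
    obtain ⟨k', E, d'⟩ := component_in h F h rfl s.comp hKL
    have hyK : y ∈ Subgroup.normalizer (K : Set G) := d'.normal (Subgroup.mem_sup_left hy)
    have hK' : IsJComponent T (cj K (y * l)) := component_conj s.comp hn
    have hK'L : cj K (y * l) ≤ L :=
      (cj_mono hKL _).trans (cj_eq_self_of_mem (mul_mem (h.Y_le hy) hl)).le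
    have e : cj K (y * l) = K := by
      by_contra hne
      have hdis : wOf K ⊓ wOf (cj K (y * l)) = ⊥ := by
        by_contra hb
        exact hne (component_eq h F h rfl s.comp hKL h rfl hK' hK'L hb).symm
      obtain ⟨k'', E'', d''⟩ := component_in h F h rfl hK' hK'L
      have hV' : wOf (cj K (y * l)) ≤ vOf L := d''.plane.trans (Subgroup.commutator_le.2 fun v hv g hg =>
        (commutator_elem_mem hv (Hy.L_norm_V L (hK'L hg))).1)
      have h1 := set_card_le (s.w_le_q c : wOf K ≤ Q) (hV'.trans hV)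
      rw [hdis, Subgroup.card_bot, s.comp.2.2.2.2.1, hK'.2.2.2.2.1, hcard] at h1
      have h4 := (c.spec s.comp s.notM s.hy).2
      omega
    simpa using mul_mem (inv_mem hyK) (mem_normalizer_iff_cj.2 e)
  -- the centralizer of the four-group
  have hcent : L ⊓ Subgroup.centralizer (wOf K : Set G) = Q := by
    refine le_antisymm (fun g hg => ?_) (fun q hq => Subgroup.mem_inf.2
      ⟨h.T_le (Subgroup.mem_inf.1 hq).1, (Subgroup.mem_inf.1 hq).2⟩)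
    obtain ⟨hgL, hgC⟩ := Subgroup.mem_inf.1 hg
    have hgQ : g ∈ Subgroup.normalizer (Q : Set G) := hcoreq ▸ le_normalizer_pCoreOf L hgL
    rw [← hcoreq]
    refine h.centralizer_Q fun p hp => ?_
    refine Subgroup.mem_centralizer_singleton_iff.1 ((?_ : Q ≤ Subgroup.centralizer {g}) (hcoreq ▸ hp))
    rw [← hgen]
    have hWC : wOf K ≤ Subgroup.centralizer {g} := fun w hw => Subgroup.mem_centralizer_singleton_iff.2
      (Subgroup.mem_centralizer_iff.1 hgC w hw)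
    refine sup_le hWC ?_
    obtain ⟨-, hsup⟩ := center_split c.pT s.comp
    refine hsup.ge.trans (sup_le (fun f hf => ?_) (inf_le_right.trans hWC))
    obtain ⟨hfZ, hfK⟩ := Subgroup.mem_inf.1 hf
    have hfK' : f ∈ fixZ T K := Subgroup.mem_inf.2 ⟨hfZ, Subgroup.mem_centralizer_iff.2 fun x hx =>
      Subgroup.mem_centralizer_iff.1 (Subgroup.mem_inf.1 hfK).2 x (Subgroup.mem_sup_left hx)⟩
    refine Subgroup.mem_centralizer_singleton_iff.2 (mul_inv_eq_iff_eq_mul.1 ?_).symm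
    rcases eq_or_ne f 1 with rfl | hf1
    · simp
    -- the image is fixed by `K`
    have hf'Q : g * f * g⁻¹ ∈ Q := (Subgroup.mem_normalizer_iff.1 hgQ f).1 (s.zOf_le_q c hfZ)
    have hf'K : ∀ x ∈ K, x * (g * f * g⁻¹) = g * f * g⁻¹ * x := by
      intro x hx
      have hx' : g⁻¹ * x * g ∈ K := by simpa using (Subgroup.mem_normalizer_iff.1 (inv_mem (hLn hgL)) x).1 hx
      calc x * (g * f * g⁻¹) = g * ((g⁻¹ * x * g) * f) * g⁻¹ := by group
        _ = g * (f * (g⁻¹ * x * g)) * g⁻¹ := by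
          rw [Subgroup.mem_centralizer_iff.1 (Subgroup.mem_inf.1 hfK').2 _ hx']
        _ = _ := by group
    obtain ⟨v, hv, σ, hσ, hvσ⟩ := (mem_sup_iff_mul (show zOf T ≤ Subgroup.normalizer (wOf K : Set G) from
      fun x hx => wOf_norm_of (s.norm c (c.z_mem_T hx)))).1 (hgen.ge hf'Q)
    obtain ⟨a, ha, b, hb, hab⟩ := (mem_sup_iff_mul (show zOf T ⊓ wOf K ≤ Subgroup.normalizer
      ((zOf T ⊓ ((K ⊔ thompsonSubgroupOf 2 T) ⊓ Subgroup.centralizer ((K ⊔ thompsonSubgroupOf 2 T : Subgroup G) :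
        Set G)) : Subgroup G) : Set G) from fun y hy => mem_normalizer_of_cj_le (by
          rintro _ ⟨u, hu, rfl⟩
          show y * u * y⁻¹ ∈ _
          rw [Local.elemAb_commute (omegaCenter_el _) (Subgroup.mem_inf.1 hy).1 (Subgroup.mem_inf.1 hu).1,
            mul_inv_cancel_right]
          exact hu))).1 (hsup.ge hσ)
    have ha' : a ∈ fixZ T K := Subgroup.mem_inf.2 ⟨(Subgroup.mem_inf.1 ha).1, Subgroup.mem_centralizer_iff.2
      fun x hx => Subgroup.mem_centralizer_iff.1 (Subgroup.mem_inf.1 (Subgroup.mem_inf.1 ha).2).2 x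
        (Subgroup.mem_sup_left hx)⟩
    have hbW := (Subgroup.mem_inf.1 hb).2
    have hcomm : a * b = b * a :=
      Local.elemAb_commute (omegaCenter_el _) (Subgroup.mem_inf.1 ha).1 (Subgroup.mem_inf.1 hb).1
    have hvb : v * b = 1 := by
      refine d.fpf (mul_mem hv hbW) ?_
      have e1 : v * b = g * f * g⁻¹ * a⁻¹ := by
        rw [← hvσ, ← hab, hcomm, ← mul_assoc, mul_inv_cancel_right]
      have e2 : Commute k (g * f * g⁻¹ * a⁻¹) := (show Commute k (g * f * g⁻¹) from hf'K k d.mem).mul_right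
        (show Commute k a from Subgroup.mem_centralizer_iff.1 (Subgroup.mem_inf.1 ha').2 k d.mem).inv_right
      rw [e1, e2.eq, mul_inv_cancel_right]
    have e : g * f * g⁻¹ = a := by rw [← hvσ, ← hab, hcomm, ← mul_assoc, hvb, one_mul]
    rw [e]
    exact s.fix_eq c ha' (fun h0 => hf1 (conj_eq_one_iff.1 (e.trans h0))) hfK' hf1
  -- the maximal subgroup
  have heq : L = K ⊔ T := by
    refine le_antisymm (fun l hl => ?_) (sup_le hKL h.T_le)
    obtain ⟨p, hp, hpl⟩ := s.move_into c (hLn hl)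
    have h1 : p⁻¹ * l ∈ Q := hcent ▸ Subgroup.mem_inf.2 ⟨mul_mem (inv_mem ((sup_le hKL h.T_le) hp)) hl, hpl⟩
    simpa using mul_mem hp ((le_sup_right : T ≤ K ⊔ T) (Subgroup.mem_inf.1 h1).1)
  refine ⟨hel, hcoreq, heq, ?_, hcard, hgen.ge, hcent⟩
  -- three cosets
  have hkn : ∀ i : ℕ, i < 3 → k ^ i ∈ T → i = 0 := by
    intro i hi hiT
    obtain ⟨n, hn⟩ := c.pT ⟨_, hiT⟩
    have hn' : (k ^ i) ^ 2 ^ n = 1 := congrArg Subtype.val hn
    have h1 : k ^ i = 1 := eq_one_of_odd hn' (Odd.of_dvd_nat (by decide : Odd 3)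
      (orderOf_dvd_of_pow_eq_one (by rw [← pow_mul, mul_comm, pow_mul, d.cube, one_pow])))
    by_contra hi0
    refine hz1 (d.fpf hzW ?_)
    rcases (show i = 1 ∨ i = 2 by omega) with rfl | rfl
    · rw [pow_one] at h1; rw [h1]; simp
    · have : k = 1 := by
        calc k = k ^ 3 * (k ^ 2)⁻¹ := by group
          _ = 1 := by rw [d.cube, h1, inv_one, one_mul]
      rw [this]; simp
  let f : Fin 3 → ↥L ⧸ T.subgroupOf L := fun i => QuotientGroup.mk ⟨k ^ (i : ℕ), pow_mem hkL i⟩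
  have hf : Function.Bijective f := by
    refine ⟨fun i j hij => ?_, fun x => ?_⟩
    · have hm : (k ^ (i : ℕ))⁻¹ * k ^ (j : ℕ) ∈ T := Subgroup.mem_subgroupOf.1 (QuotientGroup.eq.1 hij)
      have e : (k ^ (i : ℕ))⁻¹ * k ^ (j : ℕ) = k ^ ((j + (3 - i) : ℕ) % 3) := by
        rw [← pow_eq_pow_mod _ d.cube, inv_mul_eq_iff_eq_mul, ← pow_add,
          show (i : ℕ) + (j + (3 - i)) = j + 3 by omega, pow_add, d.cube, mul_one]
      have := hkn _ (Nat.mod_lt _ (by omega)) (e ▸ hm)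
      exact Fin.ext (by omega)
    · obtain ⟨⟨l, hl⟩, rfl⟩ := QuotientGroup.mk_surjective x
      obtain ⟨g, hg, t', ht', rfl⟩ := (mem_sup_iff_mul (s.norm c)).1 (heq ▸ hl : l ∈ K ⊔ T)
      obtain ⟨p, hp, i, hi, rfl⟩ := d.split hg
      refine ⟨⟨i, hi⟩, QuotientGroup.eq.2 (Subgroup.mem_subgroupOf.2 ?_)⟩
      show (k ^ i)⁻¹ * (p * k ^ i * t') ∈ T
      rw [← mul_assoc, ← mul_assoc]
      refine mul_mem ?_ ht'
      have hp' : (k ^ i)⁻¹ * p * (k ^ i)⁻¹⁻¹ ∈ pCoreOf 2 K :=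
        (Subgroup.mem_normalizer_iff.1 (le_normalizer_pCoreOf K (inv_mem (pow_mem d.mem i))) p).1 hp
      rw [inv_inv] at hp'
      exact (Subgroup.mem_inf.1 (hPQ hp')).1
  rw [Subgroup.relIndex, Subgroup.index_eq_card, ← Nat.card_eq_of_bijective f hf, Nat.card_eq_fintype_card,
    Fintype.card_fin]

variable {K₁ K₂ : Subgroup G} (s₁ : Side M T K₁) (s₂ : Side M T K₂) (hne : locOf T K₂ ≠ locOf T K₁)
  (hnc : ¬ wOf K₁ ≤ qOf T K₂)
include s₁ s₂ hne hnc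

omit hne in
theorem Ctx.nc_mem {z w : G} (hzZ : z ∈ zOf T) (hwT : w ∈ T)
    (hfour : ∀ x ∈ wOf K₁, x = 1 ∨ x = z ∨ x = w ∨ x = z * w) : w ∉ qOf T K₂ := by
  intro hw
  have _ := hwT
  refine hnc fun x hx => ?_
  rcases hfour x hx with rfl | rfl | rfl | rfl
  exacts [one_mem _, s₂.zOf_le_q c hzZ, hw, mul_mem (s₂.zOf_le_q c hzZ) hw]

/-- The structure of a pair of four-groups not centralizing each other. -/
theorem Ctx.nc_spec : Shape T K₁ ∧ Shape T K₂ ∧ (∀ t ∈ T, t ^ 2 = 1 → t ∈ qOf T K₁ ∨ t ∈ qOf T K₂) ∧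
    Nat.card T = 4 * Nat.card ↥(zOf T) ∧ ∃ z ∈ zOf T, z ≠ 1 ∧ z ∈ wOf K₁ ∧ z ∈ wOf K₂ := by
  have hnc' : ¬ wOf K₂ ≤ qOf T K₁ := fun h => hnc (c.comm_symm s₂ s₁ h)
  obtain ⟨-, z₁, w₁, -, -, -, -, hz₁Z, hz₁W, hz₁1, -, hw₁W, hw₁T, -, -, hfour₁, -, hswap₁, -⟩ := s₁.frame c
  obtain ⟨-, z₂, w₂, -, -, -, -, hz₂Z, hz₂W, hz₂1, -, hw₂W, hw₂T, -, -, hfour₂, -, hswap₂, -⟩ := s₂.frame c
  have hw₁Q : w₁ ∉ qOf T K₂ := c.nc_mem s₁ s₂ hnc hz₁Z hw₁T hfour₁
  have hw₂Q : w₂ ∉ qOf T K₁ := c.nc_mem s₂ s₁ hnc' hz₂Z hw₂T hfour₂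
  have hw₁q : w₁ ∈ qOf T K₁ := s₁.w_le_q c hw₁W
  have hw₂q : w₂ ∈ qOf T K₂ := s₂.w_le_q c hw₂W
  -- squares
  have hdec : ∀ {K K' : Subgroup G} {w : G}, Side M T K' → w ∈ wOf K → w ∈ T → w ∉ qOf T K' → ∀ q ∈ qOf T K,
      ∃ u ∈ qOf T K ⊓ qOf T K', u ^ 2 = q ^ 2 ∧ (q = u ∨ q = w * u) := by
    intro K K' w s' hwW hwT hwn q hq
    by_cases h : q ∈ qOf T K'
    · exact ⟨q, Subgroup.mem_inf.2 ⟨hq, h⟩, rfl, Or.inl rfl⟩
    · have hqw : Commute w q := Subgroup.mem_centralizer_iff.1 (Subgroup.mem_inf.1 hq).2 w hwW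
      have hww : w * w = 1 := by rw [← pow_two]; exact wOf_el.2 w hwW
      refine ⟨w * q, Subgroup.mem_inf.2 ⟨Subgroup.mem_inf.2 ⟨mul_mem hwT (Subgroup.mem_inf.1 hq).1,
        mul_mem (Subgroup.mem_centralizer_iff.2 fun x hx => Local.elemAb_commute wOf_el hx hwW)
          (Subgroup.mem_inf.1 hq).2⟩, ?_⟩, ?_, Or.inr (by rw [← mul_assoc, hww, one_mul])⟩
      · have h2 := Subgroup.index_eq_two_iff.1 (show ((qOf T K').subgroupOf T).index = 2 from s'.relIndex_q c)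
        obtain ⟨a, ha⟩ := h2
        have hmul := Subgroup.mul_mem_iff_of_index_two (show ((qOf T K').subgroupOf T).index = 2 from s'.relIndex_q c)
          (a := ⟨w, hwT⟩) (b := ⟨q, (Subgroup.mem_inf.1 hq).1⟩)
        simp only [Subgroup.mem_subgroupOf, Subgroup.coe_mul] at hmul
        exact hmul.2 ⟨fun h' => absurd h' hwn, fun h' => absurd h' h⟩
      · rw [hqw.mul_pow, wOf_el.2 w hwW, one_mul]
  set D := qOf T K₁ ⊓ qOf T K₂
  set U := Subgroup.closure {x : G | ∃ q ∈ D, x = q ^ 2}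
  have hUeq : ∀ {K K' : Subgroup G} {w : G}, Side M T K → Side M T K' → w ∈ wOf K → w ∈ T → w ∉ qOf T K' →
      qOf T K ⊓ qOf T K' = D → K ⊔ T ≤ Subgroup.normalizer (U : Set G) := by
    intro K K' w s s' hwW hwT hwn hD g hg
    refine mem_normalizer_of_cj_le ?_
    rw [cj, MonoidHom.map_closure]
    refine (Subgroup.closure_le _).2 ?_
    rintro _ ⟨_, ⟨q, hq, rfl⟩, rfl⟩
    have hq' : g * q * g⁻¹ ∈ qOf T K :=
      (Subgroup.mem_normalizer_iff.1 (s.q_norm c hg) q).1 (inf_le_left (b := qOf T K') (hD.ge hq))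
    obtain ⟨u, hu, e, -⟩ := hdec s' hwW hwT hwn _ hq'
    refine Subgroup.subset_closure ⟨u, hD.le hu, ?_⟩
    show g * q ^ 2 * g⁻¹ = u ^ 2
    rw [e, conj_pow]
  have hU1 : U = ⊥ := by
    by_contra hU
    refine c.no_common s₁.comp s₁.notM s₂.comp s₂.notM hne ⟨U, ?_, hU, rfl⟩
      ((sup_le_sup_left (J_le T) _).trans (hUeq s₁ s₂ hw₁W hw₁T hw₁Q rfl))
      (le_sup_left.trans (hUeq s₂ s₁ hw₂W hw₂T hw₂Q (inf_comm _ _)))
    refine c.pT.to_le ((Subgroup.closure_le _).2 ?_)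
    rintro _ ⟨q, hq, rfl⟩
    exact pow_mem (Subgroup.mem_inf.1 (Subgroup.mem_inf.1 hq).1).1 2
  have hsq : ∀ q ∈ D, q ^ 2 = 1 := fun q hq =>
    Subgroup.mem_bot.1 (hU1.le (Subgroup.subset_closure ⟨q, hq, rfl⟩))
  have hel : ∀ {K K' : Subgroup G} {w : G}, Side M T K' → w ∈ wOf K → w ∈ T → w ∉ qOf T K' →
      qOf T K ⊓ qOf T K' = D → El (qOf T K) := by
    intro K K' w s' hwW hwT hwn hD
    have hexp : ∀ q ∈ qOf T K, q ^ 2 = 1 := fun q hq => by
      obtain ⟨u, hu, e, -⟩ := hdec s' hwW hwT hwn q hq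
      rw [← e]; exact hsq u (hD.le hu)
    have h := Local.elemAb_closure (qOf T K : Set G) (fun x hx y hy => ?_) hexp
    · rwa [Subgroup.closure_eq] at h
    · have e1 : ∀ {x}, x ∈ qOf T K → x⁻¹ = x := fun hx =>
        inv_eq_of_mul_eq_one_left (by rw [← pow_two]; exact hexp _ hx)
      have e2 := e1 (mul_mem hx hy)
      rw [mul_inv_rev, e1 hx, e1 hy] at e2
      exact e2.symm
  have hel₁ : El (qOf T K₁) := hel s₂ hw₁W hw₁T hw₁Q rfl
  have hel₂ : El (qOf T K₂) := hel s₁ hw₂W hw₂T hw₂Q (inf_comm _ _)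
  -- the intersection is central
  have hout : ∀ t ∈ T, t ∉ qOf T K₁ → w₂ * t ∈ qOf T K₁ := fun t ht h => by
    have hmul := Subgroup.mul_mem_iff_of_index_two (show ((qOf T K₁).subgroupOf T).index = 2 from s₁.relIndex_q c)
      (a := ⟨w₂, hw₂T⟩) (b := ⟨t, ht⟩)
    simp only [Subgroup.mem_subgroupOf, Subgroup.coe_mul] at hmul
    exact hmul.2 ⟨fun h' => absurd h' hw₂Q, fun h' => absurd h' h⟩
  have hww₂ : w₂ * w₂ = 1 := by rw [← pow_two]; exact wOf_el.2 w₂ hw₂W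
  have hDZ : D = zOf T := by
    refine le_antisymm (fun q hq => ?_) (le_inf (s₁.zOf_le_q c) (s₂.zOf_le_q c))
    obtain ⟨hq₁, hq₂⟩ := Subgroup.mem_inf.1 hq
    refine omega_le_zOf T (mem_omegaCenter (Subgroup.mem_inf.1 hq₁).1 (hsq q hq) fun t ht => ?_)
    by_cases h : t ∈ qOf T K₁
    · exact Local.elemAb_commute hel₁ h hq₁
    · have h1 : Commute (w₂ * (w₂ * t)) q :=
        Commute.mul_left (Local.elemAb_commute hel₂ hw₂q hq₂) (Local.elemAb_commute hel₁ (hout t ht h) hq₁)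
      rwa [← mul_assoc, hww₂, one_mul] at h1
  have hcard : ∀ {K K' : Subgroup G} {w : G}, Side M T K' → w ∈ wOf K → w ∈ T → w ∉ qOf T K' →
      qOf T K ⊓ qOf T K' = D → Nat.card ↥(qOf T K) = 2 * Nat.card ↥(zOf T) := by
    intro K K' w s' hwW hwT hwn hD
    rw [← hDZ, ← hD, ← card_mul_relIndex_of_le (inf_le_left : qOf T K ⊓ qOf T K' ≤ qOf T K), mul_comm]
    congr 1
    refine (Subgroup.index_eq_two_iff (H := (qOf T K ⊓ qOf T K').subgroupOf (qOf T K))).2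
      ⟨⟨w, Subgroup.mem_inf.2 ⟨hwT, Subgroup.mem_centralizer_iff.2 fun x hx => Local.elemAb_commute wOf_el hx hwW⟩⟩,
        fun b => ?_⟩
    simp only [Subgroup.mem_subgroupOf, Subgroup.coe_mul]
    simp only [Subgroup.mem_inf (p := qOf T K)]
    have hmul := Subgroup.mul_mem_iff_of_index_two (show ((qOf T K').subgroupOf T).index = 2 from s'.relIndex_q c)
      (a := ⟨b, (Subgroup.mem_inf.1 b.2).1⟩) (b := ⟨w, hwT⟩)
    simp only [Subgroup.mem_subgroupOf, Subgroup.coe_mul] at hmul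
    by_cases hb : (b : G) ∈ qOf T K'
    · exact Or.inr ⟨⟨b.2, hb⟩, fun h => hwn ((hmul.1 h.2).1 hb)⟩
    · exact Or.inl ⟨⟨mul_mem b.2 (Subgroup.mem_inf.2 ⟨hwT, Subgroup.mem_centralizer_iff.2 fun x hx =>
        Local.elemAb_commute wOf_el hx hwW⟩), hmul.2 ⟨fun h => absurd h hb, fun h => absurd h hwn⟩⟩, fun h => hb h.2⟩
  have hc₁ := hcard s₂ hw₁W hw₁T hw₁Q rfl
  have hc₂ := hcard s₁ hw₂W hw₂T hw₂Q (inf_comm _ _)
  -- the common line
  have hww₁ : w₁ * w₁ = 1 := by rw [← pow_two]; exact wOf_el.2 w₁ hw₁W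
  have e1 : w₂ * w₁ * w₂⁻¹ = z₁ * w₁ := hswap₁ w₂ hw₂T hw₂Q
  have e2 : w₁ * w₂ * w₁⁻¹ = z₂ * w₂ := hswap₂ w₁ hw₁T hw₁Q
  rw [show w₂⁻¹ = w₂ from inv_eq_of_mul_eq_one_left hww₂] at e1
  rw [show w₁⁻¹ = w₁ from inv_eq_of_mul_eq_one_left hww₁] at e2
  have hzeq : z₁ = z₂ := by
    calc z₁ = w₁ * (z₁ * w₁) := by
          rw [← mul_assoc, show w₁ * z₁ = z₁ * w₁ from s₁.z_central c hz₁Z hw₁T, mul_assoc, hww₁, mul_one]
      _ = (w₁ * w₂ * w₁) * w₂ := by rw [← e1]; group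
      _ = z₂ := by rw [e2, mul_assoc, hww₂, mul_one]
  refine ⟨s₁.shape_of c hel₁ hc₁, s₂.shape_of c hel₂ hc₂, fun t ht ht2 => ?_, ?_, z₁, hz₁Z, hz₁1, hz₁W, hzeq ▸ hz₂W⟩
  · by_contra hno
    push Not at hno
    obtain ⟨hn₁, hn₂⟩ := hno
    -- `t` is `w₂ w₁` times a central element
    obtain ⟨u, hu, -, e⟩ := hdec s₂ hw₁W hw₁T hw₁Q _ (hout t ht hn₁)
    have hte : t = w₂ * (w₂ * t) := by rw [← mul_assoc, hww₂, one_mul]
    rcases e with e | e
    · rw [e] at hte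
      exact hn₂ (hte ▸ mul_mem hw₂q (Subgroup.mem_inf.1 hu).2)
    · rw [e] at hte
      have huz : ∀ {s}, s ∈ T → Commute s u := fun hs => s₁.z_central c (hDZ.le hu) hs
      have hu2 : u * u = 1 := by rw [← pow_two]; exact hsq u hu
      refine hz₁1 ?_
      calc z₁ = z₁ * (w₁ * w₁) * (u * u) := by rw [hww₁, hu2, mul_one, mul_one]
        _ = (w₂ * w₁ * w₂) * w₁ * (u * u) := by rw [e1]; group
        _ = (w₂ * w₁) * ((w₂ * w₁) * u) * u := by group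
        _ = (w₂ * w₁) * (u * (w₂ * w₁)) * u := by rw [((huz (mul_mem hw₂T hw₁T))).eq]
        _ = t ^ 2 := by rw [hte, pow_two]; group
        _ = 1 := ht2
  · rw [← card_mul_relIndex_of_le (inf_le_left : qOf T K₁ ≤ T), s₁.relIndex_q c, hc₁]
    omega

/-- The conclusion for a pair of four-groups not centralizing each other. -/
theorem Ctx.nc_amalgam : K₁ ≠ K₂ ∧ pCoreOf 2 ((K₁ ⊔ T) ⊔ (K₂ ⊔ T)) = ⊥ ∧
    ∀ P ∈ [K₁ ⊔ T, K₂ ⊔ T],
      Subgroup.centralizer (pCoreOf 2 P : Set G) ≤ pCoreOf 2 P ∧ IsSylowTwoIn T P ∧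
      (pCoreOf 2 P).relIndex P = 6 ∧ ¬ ⁅P, P⁆ ≤ pCoreOf 2 P ∧ ⁅omegaCenterOf T, P⁆ ≠ ⊥ ∧
      ∃ L : Subgroup G, IsMaximalTwoLocal L ∧ P ≤ L ∧ IsSylowTwoIn T L ∧
        ∀ L' : Subgroup G, IsMaximalTwoLocal L' → P ≤ L' → L' = L := by
  obtain ⟨h₁, h₂, -⟩ := c.nc_spec s₁ s₂ hne hnc
  refine ⟨fun e => hne (by rw [e]), ?_, ?_⟩
  · by_contra hX
    have hn := le_normalizer_pCoreOf ((K₁ ⊔ T) ⊔ (K₂ ⊔ T))
    exact c.no_common s₁.comp s₁.notM s₂.comp s₂.notM hne ⟨_, isPGroup_pCoreOf _, hX, rfl⟩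
      (((sup_le_sup_left (J_le T) _).trans le_sup_left).trans hn) ((le_sup_left.trans le_sup_right).trans hn)
  suffices key : ∀ {K : Subgroup G}, Side M T K → Shape T K →
      Subgroup.centralizer (pCoreOf 2 (K ⊔ T) : Set G) ≤ pCoreOf 2 (K ⊔ T) ∧ IsSylowTwoIn T (K ⊔ T) ∧
      (pCoreOf 2 (K ⊔ T)).relIndex (K ⊔ T) = 6 ∧ ¬ ⁅K ⊔ T, K ⊔ T⁆ ≤ pCoreOf 2 (K ⊔ T) ∧
      ⁅omegaCenterOf T, K ⊔ T⁆ ≠ ⊥ ∧ ∃ L : Subgroup G, IsMaximalTwoLocal L ∧ K ⊔ T ≤ L ∧ IsSylowTwoIn T L ∧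
        ∀ L' : Subgroup G, IsMaximalTwoLocal L' → K ⊔ T ≤ L' → L' = L by
    intro P hP
    simp only [List.mem_cons, List.not_mem_nil, or_false] at hP
    rcases hP with rfl | rfl
    · exact key s₁ h₁
    · exact key s₂ h₂
  intro K s hs
  obtain ⟨k, z, w, d, -, -, hPQ, hzZ, hzW, hz1, -, -, -, -, -, -, -, -, t, ht, htQ⟩ := s.frame c
  have hmax := (c.loc_spec s.comp s.notM).1
  rw [← hs.eq]
  refine ⟨s.hy.mem.2.2, s.hy.mem.1, ?_, ?_, ?_, _, hmax, le_rfl, s.hy.mem.1, fun L' hL' hle =>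
    hmax.2 L' hL'.1 hle⟩
  · rw [hs.core, ← Subgroup.relIndex_mul_relIndex (qOf T K) T (locOf T K) inf_le_left s.hy.T_le, s.relIndex_q c,
      hs.index]
  · intro hle
    rw [hs.core] at hle
    obtain ⟨p, hp, hap⟩ := s.invert c d ht htQ
    have h1 : ⁅t, k⁆ ∈ qOf T K :=
      hle (Subgroup.commutator_mem_commutator (s.hy.T_le ht) ((c.loc_spec s.comp s.notM).2.1 d.mem))
    rw [commutatorElement_def, hap, show p * k ^ 2 * k⁻¹ = p * k by group] at h1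
    have hk : k ∈ qOf T K := (Subgroup.mul_mem_cancel_left _ (hPQ hp)).1 h1
    exact hz1 (d.fpf hzW (by
      rw [← Subgroup.mem_centralizer_iff.1 (Subgroup.mem_inf.1 hk).2 z hzW, mul_inv_cancel_right]))
  · intro hb
    have h1 : ⁅z, k⁆ = 1 := Subgroup.mem_bot.1 (hb ▸ Subgroup.commutator_mem_commutator
      ((c.zOf_eq s.comp s.notM s.hy).ge hzZ) ((c.loc_spec s.comp s.notM).2.1 d.mem))
    exact hz1 (d.fpf hzW (by rw [← commutatorElement_eq_one_iff_mul_comm.1 h1, mul_inv_cancel_right]))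

end Cfsg.Agent.JComp
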