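import Cfsg.Agent.Lib.JComp.Cases

/-!
# A component normalized by `T` and the part of `T` centralizing its four-group
-/

set_option autoImplicit false
set_option linter.style.haveILetI false

open Cfsg
open scoped commutatorElement

namespace Cfsg.Agent.JComp

open Cfsg.Agent.Fusion

universe u

variable {G : Type u} [Group G] [Finite G] [Fact (Nat.Prime 2)]

/-- A component outside `M` with `T` in the maximal two-local subgroup above it. -/
structure Side (M T K : Subgroup G) : Prop where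
  comp : IsJComponent T K
  notM : ¬ K ≤ M
  hy : Hy T (locOf T K)

/-- The part of `T` centralizing `W_K`. -/
abbrev qOf (T K : Subgroup G) : Subgroup G := T ⊓ Subgroup.centralizer (wOf K : Set G)

variable {M T K : Subgroup G} (c : Ctx M T) (s : Side M T K)
include c s

theorem Side.norm : T ≤ Subgroup.normalizer (K : Set G) := (c.spec s.comp s.notM s.hy).1

theorem Side.z_central {z : G} (hz : z ∈ zOf T) {t : G} (ht : t ∈ T) : t * z = z * t :=
  omegaCenter_comm ((c.zOf_eq s.comp s.notM s.hy).ge hz) ht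

omit s in
theorem Ctx.z_mem_T {z : G} (hz : z ∈ zOf T) : z ∈ T := have _ := c; J_le T (omegaCenterOf_le _ hz)

/-- The four-group, its line in the centre, and the action of `T`. -/
theorem Side.frame : ∃ k z w, KGen K k ∧ k ∈ locOf T K ∧ k ∉ Subgroup.centralizer (wOf K : Set G) ∧
    pCoreOf 2 K ≤ qOf T K ∧ z ∈ zOf T ∧ z ∈ wOf K ∧ z ≠ 1 ∧ w = k * z * k⁻¹ ∧ w ∈ wOf K ∧ w ∈ T ∧
    w ≠ 1 ∧ w ≠ z ∧ (∀ x ∈ wOf K, x = 1 ∨ x = z ∨ x = w ∨ x = z * w) ∧
    (∀ x ∈ zOf T, x ∈ wOf K → x = 1 ∨ x = z) ∧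
    (∀ t ∈ T, t ∉ qOf T K → t * w * t⁻¹ = z * w) ∧ ∃ t ∈ T, t ∉ qOf T K := by
  obtain ⟨hgen, -, hidx, -, h4, -⟩ := id s.comp
  obtain ⟨k, d, -⟩ := exists_kgen hgen hidx
  obtain ⟨-, hKL, -⟩ := c.loc_spec s.comp s.notM
  obtain ⟨F⟩ := s.hy.factors
  obtain ⟨k', E, d'⟩ := component_in s.hy F s.hy rfl s.comp hKL
  have hPT : pCoreOf 2 K ≤ T := d'.core.trans s.hy.Q_le_T
  have hPQ : pCoreOf 2 K ≤ qOf T K := fun p hp => Subgroup.mem_inf.2 ⟨hPT hp,
    Subgroup.mem_centralizer_iff.2 fun w hw => (omegaCenter_comm (wOf_le_omega hw) hp).symm⟩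
  obtain ⟨z, hz, hz1⟩ := (zOf T ⊓ wOf K).bot_or_exists_ne_one.resolve_left (fixZ_spec c.pT s.comp).2
  obtain ⟨hzZ, hzW⟩ := Subgroup.mem_inf.1 hz
  obtain ⟨g, -, -, hg⟩ := exists_gen (center_split c.pT s.comp).1
  have hline : ∀ x ∈ zOf T, x ∈ wOf K → x = 1 ∨ x = z := fun x hx hxW => by
    rcases hg x (Subgroup.mem_inf.2 ⟨hx, hxW⟩) with e | e
    · exact Or.inl e
    · rcases hg z hz with e' | e'
      · exact absurd e' hz1
      · exact Or.inr (e.trans e'.symm)
  set w := k * z * k⁻¹ with hw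
  have hwW : w ∈ wOf K := (Subgroup.mem_normalizer_iff.1 (wOf_norm d.mem) z).1 hzW
  have hw1 : w ≠ 1 := fun e => hz1 (conj_eq_one_iff.1 e)
  have hwz : w ≠ z := fun e => hz1 (d.fpf hzW e)
  have hfour : ∀ x ∈ wOf K, x = 1 ∨ x = z ∨ x = w ∨ x = z * w :=
    four_cases wOf_el h4 hzW hwW hz1 hw1 hwz.symm
  have hfix : ∀ {t : G}, t ∈ T → t * w * t⁻¹ = w → t ∈ qOf T K := by
    intro t ht htw
    refine Subgroup.mem_inf.2 ⟨ht, Subgroup.mem_centralizer_iff.2 fun x hx => ?_⟩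
    have h1 : Commute t w := mul_inv_eq_iff_eq_mul.1 htw
    have h2 : Commute t z := s.z_central c hzZ ht
    rcases hfour x hx with rfl | rfl | rfl | rfl
    · rw [one_mul, mul_one]
    · exact h2.eq.symm
    · exact h1.eq.symm
    · exact (h2.mul_right h1).eq.symm
  refine ⟨k, z, w, d, hKL d.mem, fun hk => hz1 (d.fpf hzW ?_), hPQ, hzZ, hzW, hz1, rfl, hwW,
    hPT (omegaCenterOf_le _ (wOf_le_omega hwW)), hw1, hwz, hfour, hline, fun t ht htQ => ?_, ?_⟩
  · rw [← Subgroup.mem_centralizer_iff.1 hk z hzW, mul_inv_cancel_right]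
  · have htz : t * z * t⁻¹ = z := by rw [s.z_central c hzZ ht, mul_inv_cancel_right]
    rcases hfour _ ((Subgroup.mem_normalizer_iff.1 (wOf_norm_of (s.norm c ht)) w).1 hwW) with e | e | e | e
    · exact absurd (conj_eq_one_iff.1 e) hw1
    · exact absurd (mul_left_cancel (mul_right_cancel (e.trans htz.symm))) hwz
    · exact absurd (hfix ht e) htQ
    · exact e
  · by_contra hno
    push Not at hno
    have hWZ : wOf K ≤ zOf T := by
      intro x hx
      have hxT : x ∈ T := hPT (omegaCenterOf_le _ (wOf_le_omega hx))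
      exact omega_le_zOf T (mem_omegaCenter hxT (wOf_el.2 x hx) fun t ht =>
        (Subgroup.mem_centralizer_iff.1 (Subgroup.mem_inf.1 (hno t ht)).2 x hx).symm)
    rcases hline w (hWZ hwW) hwW with e | e
    · exact hw1 e
    · exact hwz e

theorem Side.zOf_le_q : zOf T ≤ qOf T K := fun z hz => by
  obtain ⟨F⟩ := s.hy.factors
  obtain ⟨k', E, d'⟩ := component_in s.hy F s.hy rfl s.comp (c.loc_spec s.comp s.notM).2.1
  refine Subgroup.mem_inf.2 ⟨c.z_mem_T hz, Subgroup.mem_centralizer_iff.2 fun w hw => ?_⟩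
  exact s.z_central c hz (s.hy.Q_le_T (d'.core (omegaCenterOf_le _ (wOf_le_omega hw))))

theorem Side.w_le_q : wOf K ≤ qOf T K := by
  obtain ⟨k, z, w, d, -, -, hPQ, -⟩ := s.frame c
  exact (wOf_le_omega.trans (omegaCenterOf_le _)).trans hPQ

theorem Side.relIndex_q : (qOf T K).relIndex T = 2 := by
  obtain ⟨k, z, w, d, -, -, -, hzZ, hzW, -, -, hwW, -, -, hwz, hfour, -, hswap, t₀, ht₀, ht₀Q⟩ := s.frame c
  refine (Subgroup.index_eq_two_iff (H := (qOf T K).subgroupOf T)).2 ⟨⟨t₀, ht₀⟩, fun b => ?_⟩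
  simp only [Subgroup.mem_subgroupOf, Subgroup.coe_mul]
  by_cases hb : (b : G) ∈ qOf T K
  · exact Or.inr ⟨hb, fun h => ht₀Q ((Subgroup.mul_mem_cancel_left _ hb).1 h)⟩
  · refine Or.inl ⟨Subgroup.mem_inf.2 ⟨mul_mem b.2 ht₀, Subgroup.mem_centralizer_iff.2 fun x hx => ?_⟩, hb⟩
    have hzb : Commute (b : G) z := s.z_central c hzZ b.2
    have hz0 : Commute t₀ z := s.z_central c hzZ ht₀
    have e : (b : G) * t₀ * w * ((b : G) * t₀)⁻¹ = w := by
      calc (b : G) * t₀ * w * ((b : G) * t₀)⁻¹ = b * (t₀ * w * t₀⁻¹) * (b : G)⁻¹ := by group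
        _ = (b * z * (b : G)⁻¹) * (b * w * (b : G)⁻¹) := by rw [hswap t₀ ht₀ ht₀Q]; group
        _ = z * (z * w) := by rw [hzb.eq, mul_inv_cancel_right, hswap b b.2 hb]
        _ = w := by rw [← mul_assoc, ← pow_two, wOf_el.2 z hzW, one_mul]
    have h1 : Commute ((b : G) * t₀) w := mul_inv_eq_iff_eq_mul.1 e
    have h2 : Commute ((b : G) * t₀) z := hzb.mul_left hz0
    rcases hfour x hx with rfl | rfl | rfl | rfl
    · rw [one_mul, mul_one]
    · exact h2.eq.symm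
    · exact h1.eq.symm
    · exact (h2.mul_right h1).eq.symm

theorem Side.q_norm : K ⊔ T ≤ Subgroup.normalizer (qOf T K : Set G) := by
  obtain ⟨k, z, w, d, -, hkC, hPQ, hzZ, hzW, hz1, hw, -⟩ := s.frame c
  have hsup : (K ⊔ T) ⊓ Subgroup.centralizer (wOf K : Set G) = qOf T K := by
    refine le_antisymm (fun y hy => Subgroup.mem_inf.2 ⟨?_, (Subgroup.mem_inf.1 hy).2⟩) (inf_le_inf_right _ le_sup_right)
    obtain ⟨hy1, hyC⟩ := Subgroup.mem_inf.1 hy
    obtain ⟨g, hg, t, ht, rfl⟩ := (mem_sup_iff_mul (s.norm c)).1 hy1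
    obtain ⟨p, hp, i, hi, rfl⟩ := d.split hg
    have h0 := Subgroup.mem_centralizer_iff.1 hyC z hzW
    have h1 : k ^ i * z * (k ^ i)⁻¹ = z := by
      calc k ^ i * z * (k ^ i)⁻¹ = p⁻¹ * (p * k ^ i * (z * t) * t⁻¹ * (k ^ i)⁻¹ * p⁻¹) * p := by group
        _ = p⁻¹ * (p * k ^ i * (t * z) * t⁻¹ * (k ^ i)⁻¹ * p⁻¹) * p := by rw [s.z_central c hzZ ht]
        _ = p⁻¹ * ((p * k ^ i * t * z) * (p * k ^ i * t)⁻¹) * p := by group
        _ = p⁻¹ * z * p := by rw [← h0, mul_inv_cancel_right]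
        _ = z := by rw [mul_assoc, ← omegaCenter_comm (wOf_le_omega hzW) hp, inv_mul_cancel_left]
    have hi0 : i = 0 := by
      by_contra hi0
      refine hz1 (d.fpf hzW ?_)
      rcases (show i = 1 ∨ i = 2 by omega) with rfl | rfl
      · simpa using h1
      · calc k * z * k⁻¹ = k * (k ^ 2 * z * (k ^ 2)⁻¹) * k⁻¹ := by rw [h1]
          _ = k ^ 3 * z * (k ^ 3)⁻¹ := by group
          _ = z := by rw [d.cube, one_mul, inv_one, mul_one]
    rw [hi0, pow_zero, mul_one]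
    exact mul_mem (Subgroup.mem_inf.1 (hPQ hp)).1 ht
  intro g hg
  have hgW : g ∈ Subgroup.normalizer (wOf K : Set G) :=
    wOf_norm_of ((sup_le Subgroup.le_normalizer (s.norm c) : K ⊔ T ≤ Subgroup.normalizer (K : Set G)) hg)
  rw [← hsup, mem_normalizer_iff_cj, cj_inf, cj_eq_self (Subgroup.le_normalizer hg), cj_centralizer,
    cj_eq_self hgW]

/-- An element inverting `k` modulo the core. -/
theorem Side.invert {k : G} (d : KGen K k) {t : G} (ht : t ∈ T) (htQ : t ∉ qOf T K) :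
    ∃ p ∈ pCoreOf 2 K, t * k * t⁻¹ = p * k ^ 2 := by
  obtain ⟨p, hp, i, hi, e⟩ := d.split ((Subgroup.mem_normalizer_iff.1 (s.norm c ht) k).1 d.mem)
  rcases (show i = 0 ∨ i = 1 ∨ i = 2 by omega) with rfl | rfl | rfl
  · exfalso
    rw [pow_zero, mul_one] at e
    obtain ⟨n, hn⟩ := isPGroup_pCoreOf K ⟨p, hp⟩
    have h1 : t * k * t⁻¹ = 1 := by
      refine e ▸ eq_one_of_odd (n := n) (congrArg Subtype.val hn) ?_
      rw [e, show t * k * t⁻¹ = (MulAut.conj t).toMonoidHom k from rfl, orderOf_injective _ (MulAut.conj t).injective]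
      exact Odd.of_dvd_nat (by decide) (orderOf_dvd_of_pow_eq_one d.cube)
    obtain ⟨z, hz, hz1⟩ := (wOf K).bot_or_exists_ne_one.resolve_left (wOf_ne_bot s.comp)
    exact hz1 (d.fpf hz (by rw [conj_eq_one_iff.1 h1]; simp))
  · exfalso
    refine htQ ?_
    obtain ⟨k', z, w, -, -, -, -, hzZ, hzW, hz1, -⟩ := s.frame c
    have hfour := four_cases wOf_el s.comp.2.2.2.2.1 hzW ((Subgroup.mem_normalizer_iff.1 (wOf_norm d.mem) z).1 hzW)
      hz1 (fun h => hz1 (conj_eq_one_iff.1 h)) (fun h => hz1 (d.fpf hzW h.symm))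
    rw [pow_one] at e
    have hkz : k * z * k⁻¹ ∈ wOf K := (Subgroup.mem_normalizer_iff.1 (wOf_norm d.mem) z).1 hzW
    have h1 : Commute t z := s.z_central c hzZ ht
    have h2 : Commute t (k * z * k⁻¹) := mul_inv_eq_iff_eq_mul.1 (by
      calc t * (k * z * k⁻¹) * t⁻¹ = (t * k * t⁻¹) * (t * z * t⁻¹) * (t * k * t⁻¹)⁻¹ := by group
        _ = (p * k) * z * (p * k)⁻¹ := by rw [← e, h1.eq, mul_inv_cancel_right]
        _ = p * (k * z * k⁻¹) * p⁻¹ := by group
        _ = k * z * k⁻¹ := by rw [omegaCenter_comm (wOf_le_omega hkz) hp, mul_inv_cancel_right])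
    refine Subgroup.mem_inf.2 ⟨ht, Subgroup.mem_centralizer_iff.2 fun x hx => ?_⟩
    rcases hfour x hx with rfl | rfl | rfl | rfl
    · rw [one_mul, mul_one]
    · exact h1.eq.symm
    · exact h2.eq.symm
    · exact (h1.mul_right h2).eq.symm
  · exact ⟨p, hp, e.symm⟩

/-- The centralizer of an element of `Z₀` fixed by `K` lies above `K J(T)`. -/
theorem Side.centralizer_fix {v : G} (hv : v ∈ fixZ T K) (hv1 : v ≠ 1) : Subgroup.centralizer {v} ≤ locOf T K := by
  obtain ⟨hvZ, hvK⟩ := Subgroup.mem_inf.1 hv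
  have hX : IsTwoLocal (Subgroup.normalizer (Subgroup.zpowers v : Set G)) :=
    ⟨_, (isPGroup_elementary (omegaCenter_el _)).to_le (Subgroup.zpowers_le.2 hvZ),
      fun hb => hv1 (Subgroup.zpowers_eq_bot.1 hb), rfl⟩
  have hcle : ∀ {y : G}, y * v = v * y → y ∈ Subgroup.normalizer (Subgroup.zpowers v : Set G) := fun {y} hy => by
    rw [mem_normalizer_iff_cj, cj, MonoidHom.map_zpowers]
    show Subgroup.zpowers (y * v * y⁻¹) = _
    rw [hy, mul_inv_cancel_right]
  exact fun y hy => c.le_loc s.comp s.notM hX (sup_le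
    (fun k hk => hcle (Subgroup.mem_centralizer_iff.1 hvK k hk))
    (fun j hj => hcle (omegaCenter_comm hvZ hj))) (hcle (Subgroup.mem_centralizer_singleton_iff.1 hy))

omit s in
/-- A two-local subgroup above two components outside `M` is above components with the same maximal overgroup. -/
theorem Ctx.no_common {K' : Subgroup G} (hK : IsJComponent T K) (hKM : ¬ K ≤ M) (hK' : IsJComponent T K')
    (hKM' : ¬ K' ≤ M) (hne : locOf T K' ≠ locOf T K) {X : Subgroup G} (hX : IsTwoLocal X)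
    (h1 : K ⊔ thompsonSubgroupOf 2 T ≤ X) (h2 : K' ≤ X) : False :=
  hne (c.eq_loc hK' hKM' (c.loc_spec hK hKM).1
    (sup_le (h2.trans (c.le_loc hK hKM hX h1)) (c.loc_spec hK hKM).2.2)).symm

end Cfsg.Agent.JComp
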