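import Cfsg.Agent.Lib.JComp.Orient

/-!
# With two bad lines the conjugates of a four-group commute with it
-/

set_option autoImplicit false
set_option linter.style.haveILetI false

open Cfsg
open scoped commutatorElement

namespace Cfsg.Agent.JComp

open Cfsg.Agent.Fusion

universe u

variable {G : Type u} [Group G] [Finite G] [Fact (Nat.Prime 2)] {M T K₁ K₂ : Subgroup G}
  (c : Ctx M T) (s₁ : Side M T K₁) (s₂ : Side M T K₂)
include c s₁ s₂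

/-- The action of `C_T(W₂)` on the conjugates of the involution moved by `T`. -/
theorem Ctx.act_conj {k z w : G} (hk : k ∈ K₂) (hzZ : z ∈ zOf T) (hzK : z ∈ Subgroup.centralizer (K₂ : Set G))
    (hact : ∀ t ∈ T, t ∉ qOf T K₁ → t * w * t⁻¹ = z * w) (hwW : w ∈ wOf K₁) {q : G} (hq : q ∈ qOf T K₂) :
    q * (k * w * k⁻¹) * q⁻¹ = k * w * k⁻¹ ∨ q * (k * w * k⁻¹) * q⁻¹ = z * (k * w * k⁻¹) := by
  have _ := hzZ
  have hq' : k⁻¹ * q * k ∈ qOf T K₂ := by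
    simpa using (Subgroup.mem_normalizer_iff.1 (s₂.q_norm c (Subgroup.mem_sup_left (inv_mem hk))) q).1 hq
  have e : q * (k * w * k⁻¹) * q⁻¹ = k * ((k⁻¹ * q * k) * w * (k⁻¹ * q * k)⁻¹) * k⁻¹ := by group
  by_cases h : k⁻¹ * q * k ∈ qOf T K₁
  · refine Or.inl ?_
    rw [e, ← Subgroup.mem_centralizer_iff.1 (Subgroup.mem_inf.1 h).2 w hwW, mul_inv_cancel_right]
  · refine Or.inr ?_
    rw [e, hact _ (Subgroup.mem_inf.1 hq').1 h]
    have hkz : k * z = z * k := Subgroup.mem_centralizer_iff.1 hzK k hk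
    calc k * (z * w) * k⁻¹ = (k * z) * w * k⁻¹ := by group
      _ = (z * k) * w * k⁻¹ := by rw [hkz]
      _ = _ := by group

theorem Ctx.conj_pow_commute (hne : locOf T K₂ ≠ locOf T K₁) (hc : wOf K₁ ≤ qOf T K₂)
    {k z w : G} (d : KGen K₂ k) (hzZ : z ∈ zOf T) (hzW : z ∈ wOf K₁) (hz1 : z ≠ 1)
    (hzK : z ∈ Subgroup.centralizer (K₂ : Set G)) (hwW : w ∈ wOf K₁)
    (hfour : ∀ x ∈ wOf K₁, x = 1 ∨ x = z ∨ x = w ∨ x = z * w)
    (hact : ∀ t ∈ T, t ∉ qOf T K₁ → t * w * t⁻¹ = z * w) (hbad : Bad T K₂ K₁) :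
    Commute w (k * w * k⁻¹) := by
  by_contra hnc
  obtain ⟨z', hz'Z, hz'W, hz'1, hz'K⟩ := hbad
  obtain ⟨-, z'', y, d', -, -, -, hzZ'', hzW'', hz1'', -, hyW, -, -, -, -, -, hact', -⟩ := s₂.frame c
  obtain rfl : z'' = z' := s₂.line_eq c hzZ'' hzW'' hz1'' hz'Z hz'W hz'1
  obtain ⟨k₁, -, -, d₁, -⟩ := s₁.frame c
  have hzz' : z ≠ z'' := fun e => s₂.line_not_fix c hz'W hz'1 (e ▸ hzK)
  -- the conjugates of `w`
  set w₁ := k * w * k⁻¹ with hw₁
  set w₂ := k * w₁ * k⁻¹ with hw₂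
  have hkz : k * z * k⁻¹ = z := by
    rw [Subgroup.mem_centralizer_iff.1 hzK k d.mem, mul_inv_cancel_right]
  have hk3 : k * w₂ * k⁻¹ = w := by
    calc k * w₂ * k⁻¹ = k ^ 3 * w * (k ^ 3)⁻¹ := by simp [w₂, w₁, pow_succ, mul_assoc]
      _ = w := by rw [d.cube, one_mul, inv_one, mul_one]
  have hkk : k * k * w * (k * k)⁻¹ = w₂ := by simp only [w₂, w₁]; group
  have hwq : w ∈ qOf T K₂ := hc hwW
  have hkn : k ∈ Subgroup.normalizer (qOf T K₂ : Set G) := s₂.q_norm c (Subgroup.mem_sup_left d.mem)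
  have hw₁q : w₁ ∈ qOf T K₂ := (Subgroup.mem_normalizer_iff.1 hkn w).1 hwq
  have hw₂q : w₂ ∈ qOf T K₂ := (Subgroup.mem_normalizer_iff.1 hkn w₁).1 hw₁q
  have hwT : w ∈ T := (Subgroup.mem_inf.1 hwq).1
  have hcomm : ∀ {q}, q ∈ qOf T K₂ → Commute q z := fun hq => s₁.z_central c hzZ (Subgroup.mem_inf.1 hq).1
  have hww : w * w = 1 := by rw [← pow_two]; exact wOf_el.2 w hwW
  have hzz : z * z = 1 := by rw [← pow_two]; exact (omegaCenter_el _).2 z hzZ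
  have hw₁w₁ : w₁ * w₁ = 1 := by
    calc w₁ * w₁ = k * (w * w) * k⁻¹ := by simp only [w₁]; group
      _ = 1 := by rw [hww, mul_one, mul_inv_cancel]
  have hw₂w₂ : w₂ * w₂ = 1 := by
    calc w₂ * w₂ = k * (w₁ * w₁) * k⁻¹ := by simp only [w₂]; group
      _ = 1 := by rw [hw₁w₁, mul_one, mul_inv_cancel]
  have r10 : w₁ * w = z * (w * w₁) := by
    rcases c.act_conj s₁ s₂ d.mem hzZ hzK hact hwW hwq with e | e
    · exact absurd (mul_inv_eq_iff_eq_mul.1 e) hnc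
    · have h : w * w₁ = z * (w₁ * w) := (mul_inv_eq_iff_eq_mul.1 e).trans (mul_assoc _ _ _)
      rw [h, ← mul_assoc, hzz, one_mul]
  have hkconj : ∀ {x y : G}, y * x = z * (x * y) →
      (k * y * k⁻¹) * (k * x * k⁻¹) = z * ((k * x * k⁻¹) * (k * y * k⁻¹)) := by
    intro x y h
    calc (k * y * k⁻¹) * (k * x * k⁻¹) = k * (y * x) * k⁻¹ := by group
      _ = k * (z * (x * y)) * k⁻¹ := by rw [h]
      _ = (k * z * k⁻¹) * ((k * x * k⁻¹) * (k * y * k⁻¹)) := by group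
      _ = _ := by rw [hkz]
  have r21 : w₂ * w₁ = z * (w₁ * w₂) := hkconj r10
  have r02 : w * w₂ = z * (w₂ * w) := by have := hkconj r21; rwa [← hw₂, hk3] at this
  -- the product and its square
  set f := w * w₁ * w₂ with hf
  have hfq : f ∈ qOf T K₂ := mul_mem (mul_mem hwq hw₁q) hw₂q
  have hw₂w : w₂ * w = z * (w * w₂) := by rw [r02, ← mul_assoc, hzz, one_mul]
  have hfw : f * w = w * f := by
    calc f * w = w * w₁ * (w₂ * w) := by rw [hf, mul_assoc]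
      _ = w * (w₁ * z) * (w * w₂) := by rw [hw₂w]; group
      _ = (w * z) * (w₁ * w) * w₂ := by rw [(hcomm hw₁q).eq]; group
      _ = (w * z * z) * (w * w₁ * w₂) := by rw [r10]; group
      _ = w * f := by rw [mul_assoc w z z, hzz, mul_one, hf]
  have hf2 : f * f = z := by
    calc f * f = f * w * (w₁ * w₂) := by rw [hf]; group
      _ = w * f * (w₁ * w₂) := by rw [hfw]
      _ = (w * w) * w₁ * (w₂ * w₁) * w₂ := by rw [hf]; group
      _ = w₁ * (z * (w₁ * w₂)) * w₂ := by rw [hww, r21, one_mul]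
      _ = (w₁ * z) * w₁ * (w₂ * w₂) := by group
      _ = z * (w₁ * w₁) := by rw [(hcomm hw₁q).eq, hw₂w₂, mul_one, mul_assoc]
      _ = z := by rw [hw₁w₁, mul_one]
  have hfQ₁ : f ∈ qOf T K₁ := by
    refine Subgroup.mem_inf.2 ⟨(Subgroup.mem_inf.1 hfq).1, Subgroup.mem_centralizer_iff.2 fun x hx => ?_⟩
    have h2 : Commute f z := hcomm hfq
    rcases hfour x hx with rfl | rfl | rfl | rfl
    · rw [one_mul, mul_one]
    · exact h2.eq.symm
    · exact hfw.symm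
    · exact (h2.mul_right hfw).eq.symm
  -- the conjugate of `y` by `k₁ ^ 2`
  have hyQ : y ∈ qOf T K₁ := c.comm_symm s₁ s₂ hc hyW
  have hk₁n : ∀ i : ℕ, k₁ ^ i ∈ Subgroup.normalizer (qOf T K₁ : Set G) := fun i =>
    s₁.q_norm c (Subgroup.mem_sup_left (pow_mem d₁.mem i))
  set y₂ := k₁ ^ 2 * y * (k₁ ^ 2)⁻¹ with hy₂
  have hy₂Q : y₂ ∈ qOf T K₁ := (Subgroup.mem_normalizer_iff.1 (hk₁n 2) y).1 hyQ
  have hy₂T : y₂ ∈ T := (Subgroup.mem_inf.1 hy₂Q).1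
  have hyy : y₂ * y₂ = 1 := by
    calc y₂ * y₂ = k₁ ^ 2 * y ^ 2 * (k₁ ^ 2)⁻¹ := by simp only [y₂, pow_two]; group
      _ = 1 := by rw [wOf_el.2 y hyW, mul_one, mul_inv_cancel]
  have hside : y₂ * f * y₂⁻¹ = f ∨ y₂ * f * y₂⁻¹ = z * f := by
    by_cases hq : y₂ ∈ qOf T K₂
    · have hfix : y₂ * w * y₂⁻¹ = w := by
        rw [← Subgroup.mem_centralizer_iff.1 (Subgroup.mem_inf.1 hy₂Q).2 w hwW, mul_inv_cancel_right]
      have hyz : ∀ {x}, x ∈ qOf T K₂ → Commute x z := hcomm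
      have e : y₂ * f * y₂⁻¹ = (y₂ * w * y₂⁻¹) * (y₂ * w₁ * y₂⁻¹) * (y₂ * w₂ * y₂⁻¹) := by rw [hf]; group
      have h2 : y₂ * w₂ * y₂⁻¹ = w₂ ∨ y₂ * w₂ * y₂⁻¹ = z * w₂ := by
        have := c.act_conj s₁ s₂ (mul_mem d.mem d.mem) hzZ hzK hact hwW hq
        rwa [hkk] at this
      rw [e, hfix]
      rcases c.act_conj s₁ s₂ d.mem hzZ hzK hact hwW hq with e1 | e1 <;> rcases h2 with e2 | e2 <;>
        rw [e1, e2]
      · exact Or.inl rfl
      · exact Or.inr (by rw [← mul_assoc (w * w₁) z, (hyz (mul_mem hwq hw₁q)).eq, hf]; simp only [mul_assoc])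
      · exact Or.inr (by rw [← mul_assoc w z, (hyz hwq).eq, hf]; simp only [w₁, mul_assoc])
      · exact Or.inl (by
          rw [← mul_assoc w z, (hyz hwq).eq, mul_assoc z w, mul_assoc z (w * w₁) (z * w₂), ← mul_assoc (w * w₁) z,
            (hyz (mul_mem hwq hw₁q)).eq, mul_assoc z (w * w₁), ← mul_assoc z z, hzz, one_mul, hf])
    · refine Or.inr ?_
      obtain ⟨p, hp, hap⟩ := s₂.invert c d hy₂T hq
      have hpq : p ∈ qOf T K₂ := by
        obtain ⟨-, -, -, -, -, -, hPQ, -⟩ := s₂.frame c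
        exact hPQ hp
      have hyw : y₂ * w * y₂⁻¹ = w := by
        rw [← Subgroup.mem_centralizer_iff.1 (Subgroup.mem_inf.1 hy₂Q).2 w hwW, mul_inv_cancel_right]
      have e1 : y₂ * w₁ * y₂⁻¹ = p * w₂ * p⁻¹ := by
        calc y₂ * w₁ * y₂⁻¹ = (y₂ * k * y₂⁻¹) * (y₂ * w * y₂⁻¹) * (y₂ * k * y₂⁻¹)⁻¹ := by
              simp only [w₁]; group
          _ = _ := by rw [hap, hyw, ← hkk, pow_two]; group
      obtain ⟨δ, hδ, hδz, hδy, e2⟩ : ∃ δ, δ * δ = 1 ∧ Commute w δ ∧ Commute y₂ δ ∧ y₂ * w₁ * y₂⁻¹ = δ * w₂ := by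
        have := c.act_conj s₁ s₂ (mul_mem d.mem d.mem) hzZ hzK hact hwW hpq
        rw [hkk] at this
        rcases this with e | e
        · exact ⟨1, one_mul 1, Commute.one_right _, Commute.one_right _, by rw [e1, e, one_mul]⟩
        · exact ⟨z, hzz, hcomm hwq, s₁.z_central c hzZ hy₂T, by rw [e1, e]⟩
      have e3 : y₂ * w₂ * y₂⁻¹ = δ * w₁ := by
        have hinv : y₂⁻¹ = y₂ := inv_eq_of_mul_eq_one_left hyy
        calc y₂ * w₂ * y₂⁻¹ = y₂ * (δ * (δ * w₂)) * y₂⁻¹ := by rw [← mul_assoc δ δ, hδ, one_mul]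
          _ = (y₂ * δ) * (y₂ * w₁ * y₂⁻¹) * y₂⁻¹ := by rw [e2]; group
          _ = δ * ((y₂ * y₂) * w₁ * (y₂ * y₂)⁻¹) := by rw [hδy.eq]; group
          _ = δ * w₁ := by rw [hyy, one_mul, inv_one, mul_one]
      have hδw₂ : δ * w₂ * δ = w₂ := by
        have : y₂ * w₁ * y₂⁻¹ * (y₂ * w₁ * y₂⁻¹) = 1 := by
          calc _ = y₂ * (w₁ * w₁) * y₂⁻¹ := by group
            _ = 1 := by rw [hw₁w₁, mul_one, mul_inv_cancel]
        rw [e2] at this
        calc δ * w₂ * δ = δ * w₂ * δ * (w₂ * w₂) := by rw [hw₂w₂, mul_one]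
          _ = (δ * w₂ * (δ * w₂)) * w₂ := by group
          _ = w₂ := by rw [this, one_mul]
      calc y₂ * f * y₂⁻¹ = (y₂ * w * y₂⁻¹) * (y₂ * w₁ * y₂⁻¹) * (y₂ * w₂ * y₂⁻¹) := by rw [hf]; group
        _ = w * (δ * w₂ * δ) * w₁ := by rw [hyw, e2, e3]; group
        _ = w * (w₂ * w₁) := by rw [hδw₂, mul_assoc]
        _ = (w * z) * (w₁ * w₂) := by rw [r21]; group
        _ = z * f := by rw [(hcomm hwq).eq, hf]; group
  have hy₂f : y₂ * f * y₂⁻¹ = f := by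
    have hfy : y * 1 = y := mul_one y
    have h := c.act_conj s₂ s₁ (pow_mem d₁.mem 2) hz'Z hz'K hact' hyW hfQ₁
    rw [← hy₂] at h
    rcases h with e | e
    · have h1 : Commute f y₂ := mul_inv_eq_iff_eq_mul.1 e
      rw [h1.symm.eq, mul_inv_cancel_right]
    · rcases hside with e' | e'
      · exact e'
      · exfalso
        have h1 : f * y₂ = z'' * y₂ * f := mul_inv_eq_iff_eq_mul.1 e
        have h2 : y₂ * f = z * f * y₂ := mul_inv_eq_iff_eq_mul.1 e'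
        have h3 : (1 : G) * (f * y₂) = z'' * z * (f * y₂) := by
          rw [one_mul]
          calc f * y₂ = z'' * y₂ * f := h1
            _ = z'' * (y₂ * f) := mul_assoc _ _ _
            _ = _ := by rw [h2]; group
        have h4 : z'' * z = 1 := (mul_right_cancel h3).symm
        refine hzz' ?_
        calc z = z''⁻¹ := eq_inv_of_mul_eq_one_right h4
          _ = z'' := El.inv_eq (omegaCenter_el _) hz'Z
  -- the conjugate of `f` by `k₁` is a square root of a moved involution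
  set f' := k₁ * f * k₁⁻¹ with hf'
  have hf'Q : f' ∈ qOf T K₁ := by
    simpa using (Subgroup.mem_normalizer_iff.1 (hk₁n 1) f).1 hfQ₁
  have hf'q : f' ∈ qOf T K₂ := by
    refine Subgroup.mem_inf.2 ⟨(Subgroup.mem_inf.1 hf'Q).1, ?_⟩
    have hy : k₁ * y₂ * k₁⁻¹ = y := by
      calc k₁ * y₂ * k₁⁻¹ = k₁ ^ 3 * y * (k₁ ^ 3)⁻¹ := by simp [y₂, pow_succ, mul_assoc]
        _ = y := by rw [d₁.cube, one_mul, inv_one, mul_one]
    have hf'y : y * f' * y⁻¹ = f' := by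
      rw [← hy]
      calc k₁ * y₂ * k₁⁻¹ * f' * (k₁ * y₂ * k₁⁻¹)⁻¹ = k₁ * (y₂ * f * y₂⁻¹) * k₁⁻¹ := by simp only [f']; group
        _ = f' := by rw [hy₂f]
    obtain ⟨-, z₃, y₃, -, -, -, -, hz₃Z, hz₃W, hz₃1, -, hy₃W, -, hy₃1, hy₃z, hfour', -⟩ := s₂.frame c
    obtain rfl : z₃ = z'' := s₂.line_eq c hz₃Z hz₃W hz₃1 hz'Z hz'W hz'1
    obtain ⟨-, -, y₀, -⟩ := s₂.frame c
    refine Subgroup.mem_centralizer_iff.2 fun x hx => ?_
    have h1 : Commute f' z₃ := s₂.z_central c hz₃Z (Subgroup.mem_inf.1 hf'Q).1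
    have h2 : Commute f' y := (mul_inv_eq_iff_eq_mul.1 hf'y).symm
    obtain ⟨t₀, ht₀, ht₀Q⟩ : ∃ t ∈ T, t ∉ qOf T K₂ := by
      by_contra hno
      push Not at hno
      have := s₂.relIndex_q c
      rw [Subgroup.relIndex_eq_one.2 hno] at this
      omega
    have hy' := hact' t₀ ht₀ ht₀Q
    have hy1 : y ≠ 1 := fun e => by
      rw [e, mul_one, mul_inv_cancel, mul_one] at hy'; exact hz₃1 hy'.symm
    have hyz₃ : z₃ ≠ y := fun e => by
      rw [← e, s₂.z_central c hz₃Z ht₀, mul_inv_cancel_right] at hy'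
      exact hz₃1 (mul_eq_right.1 hy'.symm)
    rcases four_cases wOf_el s₂.comp.2.2.2.2.1 hz₃W hyW hz₃1 hy1 hyz₃ x hx with rfl | rfl | rfl | rfl
    · rw [one_mul, mul_one]
    · exact h1.eq.symm
    · exact h2.eq.symm
    · exact (h1.mul_right h2).eq.symm
  have hsq : Commute (f' * f') w₁ := by
    have hzf : Commute f' z := hcomm hf'q
    rcases c.act_conj s₁ s₂ d.mem hzZ hzK hact hwW hf'q with e | e
    · exact (Commute.mul_left (mul_inv_eq_iff_eq_mul.1 e) (mul_inv_eq_iff_eq_mul.1 e))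
    · refine mul_inv_eq_iff_eq_mul.1 ?_
      calc f' * f' * w₁ * (f' * f')⁻¹ = f' * (f' * w₁ * f'⁻¹) * f'⁻¹ := by group
        _ = f' * (z * w₁) * f'⁻¹ := by rw [e]
        _ = (f' * z * f'⁻¹) * (f' * w₁ * f'⁻¹) := by group
        _ = z * (z * w₁) := by rw [hzf.eq, mul_inv_cancel_right, e]
        _ = w₁ := by rw [← mul_assoc, hzz, one_mul]
  have hk₁z : f' * f' = k₁ * z * k₁⁻¹ := by
    calc f' * f' = k₁ * (f * f) * k₁⁻¹ := by simp only [f']; group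
      _ = _ := by rw [hf2]
  rw [hk₁z] at hsq
  refine hnc ?_
  rcases hfour _ ((Subgroup.mem_normalizer_iff.1 (wOf_norm d₁.mem) z).1 hzW) with e | e | e | e
  · exact absurd (conj_eq_one_iff.1 e) hz1
  · exact absurd (d₁.fpf hzW e) hz1
  · rwa [e] at hsq
  · rw [e] at hsq
    have h := (Commute.inv_left (hcomm hw₁q).symm).mul_left hsq
    rwa [inv_mul_cancel_left] at h

/-- With two bad lines the conjugates of `W₁` under `K₂` centralize it. -/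
theorem Ctx.conj_commute (hne : locOf T K₂ ≠ locOf T K₁) (hc : wOf K₁ ≤ qOf T K₂) (h₁ : Bad T K₁ K₂)
    (h₂ : Bad T K₂ K₁) {g : G} (hg : g ∈ K₂ ⊔ T) {x y : G} (hx : x ∈ wOf K₁) (hy : y ∈ wOf K₁) :
    Commute (g * x * g⁻¹) y := by
  obtain ⟨z, hzZ, hzW, hz1, hzK⟩ := h₁
  obtain ⟨-, z₀, w, -, -, -, -, hz₀Z, hz₀W, hz₀1, -, hwW, hwT, -, -, hfour, -, hact, -⟩ := s₁.frame c
  obtain rfl : z₀ = z := s₁.line_eq c hz₀Z hz₀W hz₀1 hzZ hzW hz1
  obtain ⟨k, -, -, d, -, -, hPQ, -⟩ := s₂.frame c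
  obtain ⟨g', hg', t, ht, rfl⟩ := (mem_sup_iff_mul (s₂.norm c)).1 hg
  obtain ⟨p, hp, i, hi, rfl⟩ := d.split hg'
  -- move `t` and `p` away
  have hT : T ≤ Subgroup.normalizer (wOf K₁ : Set G) := fun t ht => wOf_norm_of (s₁.norm c ht)
  have hpT : p ∈ T := (Subgroup.mem_inf.1 (hPQ hp)).1
  have hx' : t * x * t⁻¹ ∈ wOf K₁ := (Subgroup.mem_normalizer_iff.1 (hT ht) x).1 hx
  have hy' : p⁻¹ * y * p ∈ wOf K₁ := by simpa using (Subgroup.mem_normalizer_iff.1 (hT (inv_mem hpT)) y).1 hy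
  suffices h : ∀ a ∈ wOf K₁, ∀ b ∈ wOf K₁, Commute (k ^ i * a * (k ^ i)⁻¹) b by
    show p * k ^ i * t * x * (p * k ^ i * t)⁻¹ * y = y * (p * k ^ i * t * x * (p * k ^ i * t)⁻¹)
    calc p * k ^ i * t * x * (p * k ^ i * t)⁻¹ * y
        = p * ((k ^ i * (t * x * t⁻¹) * (k ^ i)⁻¹) * (p⁻¹ * y * p)) * p⁻¹ := by group
      _ = p * ((p⁻¹ * y * p) * (k ^ i * (t * x * t⁻¹) * (k ^ i)⁻¹)) * p⁻¹ := by rw [(h _ hx' _ hy').eq]
      _ = _ := by group
  intro a ha b hb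
  rcases (show i = 0 ∨ i = 1 ∨ i = 2 by omega) with rfl | rfl | rfl
  · rw [pow_zero, one_mul, inv_one, mul_one]; exact Local.elemAb_commute wOf_el ha hb
  all_goals
    have hw0 := c.conj_pow_commute s₁ s₂ hne hc d hzZ hzW hz1 hzK hwW hfour hact h₂
    have hkz : ∀ j : ℕ, k ^ j * z₀ * (k ^ j)⁻¹ = z₀ := fun j => by
      rw [Subgroup.mem_centralizer_iff.1 hzK _ (pow_mem d.mem j), mul_inv_cancel_right]
    have hwz : Commute w z₀ := s₁.z_central c hzZ hwT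
    have hk2 : ∀ j : ℕ, j = 1 ∨ j = 2 → Commute (k ^ j * w * (k ^ j)⁻¹) w := by
      rintro j (rfl | rfl)
      · simpa using hw0.symm
      · have e : k ^ 2 * (k * w * k⁻¹) * (k ^ 2)⁻¹ = w := by
          calc k ^ 2 * (k * w * k⁻¹) * (k ^ 2)⁻¹ = k ^ 3 * w * (k ^ 3)⁻¹ := by simp [pow_succ, mul_assoc]
            _ = w := by rw [d.cube, one_mul, inv_one, mul_one]
        have h := congrArg (fun v => k ^ 2 * v * (k ^ 2)⁻¹) hw0.eq
        show k ^ 2 * w * (k ^ 2)⁻¹ * w = w * (k ^ 2 * w * (k ^ 2)⁻¹)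
        calc k ^ 2 * w * (k ^ 2)⁻¹ * w = k ^ 2 * w * (k ^ 2)⁻¹ * (k ^ 2 * (k * w * k⁻¹) * (k ^ 2)⁻¹) := by rw [e]
          _ = k ^ 2 * (w * (k * w * k⁻¹)) * (k ^ 2)⁻¹ := by group
          _ = k ^ 2 * ((k * w * k⁻¹) * w) * (k ^ 2)⁻¹ := by rw [hw0.eq]
          _ = (k ^ 2 * (k * w * k⁻¹) * (k ^ 2)⁻¹) * (k ^ 2 * w * (k ^ 2)⁻¹) := by group
          _ = _ := by rw [e]
    have hzc : ∀ v, v ∈ wOf K₁ → ∀ j : ℕ, j = 1 ∨ j = 2 → Commute (k ^ j * w * (k ^ j)⁻¹) v := by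
      intro v hv j hj
      have hz' : Commute (k ^ j * w * (k ^ j)⁻¹) z₀ := by
        show k ^ j * w * (k ^ j)⁻¹ * z₀ = z₀ * (k ^ j * w * (k ^ j)⁻¹)
        calc k ^ j * w * (k ^ j)⁻¹ * z₀ = k ^ j * w * (k ^ j)⁻¹ * (k ^ j * z₀ * (k ^ j)⁻¹) := by rw [hkz]
          _ = k ^ j * (w * z₀) * (k ^ j)⁻¹ := by group
          _ = k ^ j * (z₀ * w) * (k ^ j)⁻¹ := by rw [hwz.eq]
          _ = (k ^ j * z₀ * (k ^ j)⁻¹) * (k ^ j * w * (k ^ j)⁻¹) := by group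
          _ = _ := by rw [hkz]
      rcases hfour v hv with rfl | rfl | rfl | rfl
      exacts [Commute.one_right _, hz', hk2 j hj, hz'.mul_right (hk2 j hj)]
    have hzb : Commute z₀ b := Local.elemAb_commute wOf_el hzW hb
    rcases hfour a ha with rfl | rfl | rfl | rfl
    · simpa using Commute.one_left b
    · rw [hkz]; exact hzb
    · exact hzc b hb _ (by decide)
    · rw [← conj_mul, hkz]
      exact hzb.mul_left (hzc b hb _ (by decide))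

end Cfsg.Agent.JComp
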