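import Cfsg.Agent.Lib.JComp.Struct

/-!
# Components with the normalizer condition
-/

set_option autoImplicit false

open Cfsg
open scoped commutatorElement

namespace Cfsg.Agent.JComp

open Cfsg.Agent.Fusion

universe u

variable {G : Type u} [Group G] [Finite G] [Fact (Nat.Prime 2)]

/-- Two-local subgroups are constrained in `G`. -/
theorem two_local_char (ha : Amb G) {L : Subgroup G} (hL : IsTwoLocal L) :
    Subgroup.centralizer (pCoreOf 2 L : Set G) ≤ pCoreOf 2 L := by
  obtain ⟨P, hP, hP1, rfl⟩ := hL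
  intro g hg
  have hPQ : P ≤ pCoreOf 2 (Subgroup.normalizer (P : Set G)) := le_pCoreOf Subgroup.le_normalizer hP le_rfl
  have hgN : g ∈ Subgroup.normalizer (P : Set G) := by
    refine mem_normalizer_of_cj_le ?_
    rintro _ ⟨p, hp, rfl⟩
    show g * p * g⁻¹ ∈ P
    rw [← Subgroup.mem_centralizer_iff.1 hg p (hPQ hp), mul_inv_cancel_right]
    exact hp
  have h1 : (⟨g, hgN⟩ : ↥(Subgroup.normalizer (P : Set G))) ∈ pCore 2 ↥(Subgroup.normalizer (P : Set G)) :=
    ha.cty.2 P hP hP1 (Subgroup.mem_centralizer_iff.2 fun q hq =>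
      Subtype.ext (Subgroup.mem_centralizer_iff.1 hg (q : G) ⟨q, hq, rfl⟩))
  exact ⟨_, h1, rfl⟩

theorem J_norm_component {T K : Subgroup G} (hK : IsJComponent T K) :
    thompsonSubgroupOf 2 T ≤ Subgroup.normalizer (K : Set G) := by
  have h1 := Subgroup.normalizer_commutator_ge_right K (thompsonSubgroupOf 2 T)
  rwa [hK.2.1] at h1

theorem component_ne_two {T K : Subgroup G} (hK : IsJComponent T K) {Q : Subgroup G} (hQ : IsPGroup 2 Q) :
    ¬ K ≤ Q := by
  intro hle
  have h1 : K ≤ pCoreOf 2 K := le_of_closure_odd hK.1 fun x hx ho => by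
    obtain ⟨n, hn⟩ := hQ ⟨x, hle hx⟩
    have hx1 : x = 1 := eq_one_of_odd (n := n) (congrArg Subtype.val hn) ho
    rw [hx1]; exact one_mem _
  have h2 := hK.2.2.1
  rw [Subgroup.relIndex_eq_one.2 h1] at h2
  omega

theorem wOf_ne_bot {T K : Subgroup G} (hK : IsJComponent T K) : wOf K ≠ ⊥ := fun h => by
  have := hK.2.2.2.2.1
  rw [h, Subgroup.card_bot] at this
  omega

/-- `J(T)` is not in the core of an overgroup of a component. -/
theorem not_J_le {T K X : Subgroup G} (hK : IsJComponent T K) (hKX : K ≤ X) :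
    ¬ thompsonSubgroupOf 2 T ≤ pCoreOf 2 X := fun hle => by
  refine component_ne_two hK (isPGroup_pCoreOf X) ?_
  rw [← hK.2.1, Subgroup.commutator_le]
  exact fun g hg j hj => (commutator_elem_mem (hle hj) (le_normalizer_pCoreOf X (hKX hg))).2

/-- The normalizer of the four-group of such a component normalizes it. -/
theorem zero_norm (ha : Amb G) {T K : Subgroup G} (hT : IsPGroup 2 T) (hK : K ∈ jComponentsZero T) :
    Subgroup.normalizer (K : Set G) = Subgroup.normalizer (wOf K : Set G) ∧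
      ∀ g : G, thompsonSubgroupOf 2 (cj T g) ≤ Subgroup.normalizer (wOf K : Set G) →
        IsJComponent (cj T g) K := by
  obtain ⟨hKc, hzero⟩ := hK
  set X := Subgroup.normalizer (wOf K : Set G)
  set J := thompsonSubgroupOf 2 T
  have hKN : ∀ {g}, g ∈ Subgroup.normalizer (K : Set G) → g ∈ X := fun hg => wOf_norm_of hg
  obtain ⟨S, hS, hJS⟩ := exists_sylIn_ge (hT.to_le (J_le T)) (fun j hj => hKN (J_norm_component hKc hj))
  have hJeq : thompsonSubgroupOf 2 S = J := hzero S hJS (isSylowTwoIn_of_sylIn hS)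
  have hX : IsTwoLocal X := ⟨wOf K, isPGroup_elementary wOf_el, wOf_ne_bot hKc, rfl⟩
  have hKX : K ≤ X := Subgroup.le_normalizer.trans fun g hg => hKN hg
  have hJne : J ≠ ⊥ := fun hb => not_J_le hKc hKX (le_of_eq_of_le hb bot_le)
  have h : Hy S X := ⟨ha, hS.isPGroup, fun hb => hJne (le_bot_iff.1 (hb ▸ hJS)),
    isSylowTwoIn_of_sylIn hS, by rw [hJeq]; exact not_J_le hKc hKX, two_local_char ha hX⟩
  obtain ⟨F⟩ := h.factors
  have hKS : IsJComponent S K := component_congr hJeq.symm hKc
  have hXK : X ≤ Subgroup.normalizer (K : Set G) := by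
    intro x hx
    refine mem_normalizer_iff_cj.2 (component_eq h F (h.cj hx) (yOf_cj hx) (component_cj hKS x)
      ((cj_mono hKX x).trans (cj_eq_self_of_mem hx).le) h rfl hKS hKX ?_)
    rw [← wOf_cj, cj_eq_self hx, inf_idem]
    exact wOf_ne_bot hKc
  refine ⟨le_antisymm (fun g hg => hKN hg) hXK, fun g hg => ?_⟩
  obtain ⟨S', hS', hJS'⟩ := exists_sylIn_ge ((isPGroup_cj hT g).to_le (J_le _)) hg
  obtain ⟨x, hx, rfl⟩ := hS.conj_eq hS'
  have hle : thompsonSubgroupOf 2 (cj T g) ≤ cj J x := by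
    rw [J_eq]
    refine sSup_le fun B hB => ?_
    rw [← hJeq, thompson_cj]
    refine mx_le_J ⟨(mx_le_J hB).trans hJS', hB.2.1, fun C hC hC' => ?_⟩
    obtain ⟨A, hA⟩ := mx_nonempty S
    have h1 : Nat.card A ≤ Nat.card B := by
      have hAT : cj A g ≤ cj T g := cj_mono (((mx_le_J hA).trans hJeq.le).trans (J_le T)) g
      have := hB.2.2 _ hAT ((replFamily_elementary 2).map_equiv hA.2.1 (MulAut.conj g))
      rwa [show Nat.card ↥(A.map (MulAut.conj g).toMonoidHom) = Nat.card A from card_cj A g] at this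
    exact (card_le_of_sylIn hS hA hC' (hC.trans hS'.le)).trans h1
  have heq : thompsonSubgroupOf 2 (cj T g) = cj J x := by
    refine Subgroup.eq_of_le_of_card_ge hle (le_of_eq ?_)
    rw [← thompson_cj, card_cj, card_cj]
  have h2 := component_cj hKc x
  rw [cj_eq_self (hXK hx)] at h2
  exact component_congr (by rw [← thompson_cj, heq]) h2

end Cfsg.Agent.JComp
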