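import Cfsg.Agent.Lib.JComp.Exists
import Cfsg.Agent.Lib.JComp.Zero

/-!
# Maximal straddling subgroups
-/

set_option autoImplicit false

open Cfsg
open scoped commutatorElement

namespace Cfsg.Agent.JComp

open Cfsg.Agent.Fusion

universe u

variable {G : Type u} [Group G] [Finite G] [Fact (Nat.Prime 2)]

theorem max_ext {M T R : Subgroup G} (hT : T ∈ maxStraddlingTwoSubgroups M) (hR : R ∈ straddlingTwoSubgroups M)
    (hJ : thompsonSubgroupOf 2 T ≤ R) :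
    thompsonSubgroupOf 2 R = thompsonSubgroupOf 2 T ∧ Nat.card R ≤ Nat.card T := by
  obtain ⟨A, hA⟩ := mx_nonempty T
  obtain ⟨B, hB⟩ := mx_nonempty R
  obtain ⟨h1, h2⟩ := hT.2 R hR
  have hAB : Nat.card A ≤ Nat.card B := hB.2.2 A ((mx_le_J hA).trans hJ) hA.2.1
  have heq : maxElemAbelianOrder R = maxElemAbelianOrder T := by
    rw [maxOrder_eq hA, maxOrder_eq hB] at h1 ⊢
    exact le_antisymm h1 hAB
  obtain ⟨h3, h4⟩ := h2 heq
  rw [maxOrder_eq hA, maxOrder_eq hB] at heq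
  have hsub : mx T ⊆ mx R := fun A' hA' =>
    ⟨(mx_le_J hA').trans hJ, hA'.2.1, fun C hC hC' =>
      (hB.2.2 C hC hC').trans (heq.le.trans (card_mx_eq hA hA').le)⟩
  have hle : thompsonSubgroupOf 2 T ≤ thompsonSubgroupOf 2 R := by
    rw [J_eq, J_eq]; exact sSup_le_sSup hsub
  have e : thompsonSubgroupOf 2 T = thompsonSubgroupOf 2 R := Subgroup.eq_of_le_of_card_ge hle h3
  exact ⟨e.symm, h4 (by rw [e])⟩

theorem normalizer_le_J (X : Subgroup G) :
    Subgroup.normalizer (X : Set G) ≤ Subgroup.normalizer (thompsonSubgroupOf 2 X : Set G) := fun g hg => by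
  rw [mem_normalizer_iff_cj, thompson_cj, cj_eq_self hg]

variable (ha : Amb G) {S : Sylow 2 G} {M T : Subgroup G}
  (hMJ : Subgroup.normalizer (thompsonSubgroupOf 2 (S : Subgroup G) : Set G) ≤ M)
  (hT : T ∈ maxStraddlingTwoSubgroups M)
include hMJ hT

theorem normalizer_J_le : Subgroup.normalizer (thompsonSubgroupOf 2 T : Set G) ≤ M := by
  obtain ⟨⟨hTp, hT1, hTM, -⟩, -⟩ := id hT
  by_contra hnot
  have hSM : (S : Subgroup G) ≤ M := (Subgroup.le_normalizer.trans (normalizer_le_J _)).trans hMJ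
  have hs : SylIn 2 (S : Subgroup G) M := (sylIn_top S).mono hSM le_top
  obtain ⟨T', hT', hTT'⟩ := exists_sylIn_ge hTp hTM
  obtain ⟨m, hm, rfl⟩ := hs.conj_eq hT'
  by_cases he : T = cj (S : Subgroup G) m
  · refine hnot ?_
    rw [he, ← thompson_cj, ← cj_normalizer]
    exact (cj_mono hMJ m).trans (cj_eq_self_of_mem hm).le
  · set R := cj (S : Subgroup G) m ⊓ Subgroup.normalizer (T : Set G)
    have hlt : T < R := SylIn.normalizer_growth hTT' he hT'.isPGroup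
    have hR : R ∈ straddlingTwoSubgroups M :=
      ⟨hT'.isPGroup.to_le inf_le_left, fun hb => hT1 (le_bot_iff.1 (hb ▸ hlt.le)), inf_le_left.trans hT'.le,
        _, ⟨_, hTp.to_le (J_le T), J_ne_bot hTp hT1, rfl⟩, inf_le_right.trans (normalizer_le_J T), hnot⟩
    exact absurd (max_ext hT hR ((J_le T).trans hlt.le)).2 (not_le.2 (Solv.card_lt_of_lt hlt))

include ha

theorem straddle_main {L : Subgroup G} (hL2 : IsTwoLocal L) (hLM : ¬ L ≤ M) {T₀ : Subgroup G}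
    (hT₀ : IsSylowTwoIn T₀ L) (hJ : thompsonSubgroupOf 2 T ≤ T₀) :
    thompsonSubgroupOf 2 T = thompsonSubgroupOf 2 T₀ ∧ T₀ ∈ straddlingTwoSubgroups M ∧
      Hy T₀ L ∧ (T ≤ L → Hy T L) := by
  have hN := normalizer_J_le hMJ hT
  obtain ⟨⟨hTp, hT1, hTM, -⟩, -⟩ := id hT
  have hJ1 := J_ne_bot hTp hT1
  have hgen : ∀ {T₁ : Subgroup G}, IsSylowTwoIn T₁ L → thompsonSubgroupOf 2 T ≤ T₁ →
      thompsonSubgroupOf 2 T = thompsonSubgroupOf 2 T₁ ∧ T₁ ∈ straddlingTwoSubgroups M ∧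
        Nat.card T₁ ≤ Nat.card T := by
    intro T₁ h1 hJ'
    set R := T₁ ⊓ M
    have hR : R ∈ straddlingTwoSubgroups M :=
      ⟨h1.2.1.to_le inf_le_left, fun hb => hJ1 (le_bot_iff.1 (hb ▸ le_inf hJ' ((J_le T).trans hTM))),
        inf_le_right, L, hL2, inf_le_left.trans h1.1, hLM⟩
    obtain ⟨hJR, hcard⟩ := max_ext hT hR (le_inf hJ' ((J_le T).trans hTM))
    have hRT : R = T₁ := by
      by_contra hne
      have hlt := SylIn.normalizer_growth (inf_le_left : R ≤ T₁) hne h1.2.1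
      refine hlt.not_ge (le_inf inf_le_left ?_)
      exact inf_le_right.trans ((normalizer_le_J R).trans (hJR.symm ▸ hN))
    rw [hRT] at hR hJR hcard
    exact ⟨hJR.symm, hR, hcard⟩
  obtain ⟨e, hst, -⟩ := hgen hT₀ hJ
  have hmk : ∀ {T₁ : Subgroup G}, IsSylowTwoIn T₁ L → thompsonSubgroupOf 2 T = thompsonSubgroupOf 2 T₁ →
      T₁ ∈ straddlingTwoSubgroups M → Hy T₁ L := by
    intro T₁ h1 e1 hs1
    refine ⟨ha, h1.2.1, hs1.2.1, h1, fun hle => hLM ?_, two_local_char ha hL2⟩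
    have e2 : thompsonSubgroupOf 2 (pCoreOf 2 L) = thompsonSubgroupOf 2 T₁ :=
      J_eq_of_sylIn (sylIn_of_isSylowTwoIn h1) (isPGroup_pCoreOf L) (pCoreOf_le L) hle
    exact ((le_normalizer_pCoreOf L).trans (normalizer_le_J _)).trans (by rw [e2, ← e1]; exact hN)
  refine ⟨e, hst, hmk hT₀ e hst, fun hTL => hmk ?_ rfl hT.1⟩
  obtain ⟨T₁, h1, hTT₁⟩ := exists_sylIn_ge hTp hTL
  obtain ⟨-, -, hc⟩ := hgen (isSylowTwoIn_of_sylIn h1) ((J_le T).trans hTT₁)
  rw [Subgroup.eq_of_le_of_card_ge hTT₁ hc]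
  exact isSylowTwoIn_of_sylIn h1

theorem exists_meeting {L : Subgroup G} (h : Hy T L) (F : Factors T L) :
    ∃ A ∈ mx T, ∃ E ∈ F.fac, ∃ t ∈ A ⊓ E, t ∉ cOf L := by
  have _ := ha; have _ := hMJ; have _ := hT
  by_contra hno
  push Not at hno
  refine h.not_J_le_C ?_
  rw [J_eq]
  exact sSup_le fun A hA => (F.split A (h.mx_sub hA)).trans (sup_le le_rfl (iSup₂_le fun E hE => hno A hA E hE))

theorem outside_nonempty : (jComponentsOutside M T).Nonempty := by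
  obtain ⟨⟨hTp, hT1, hTM, L, hL2, hTL, hLM⟩, -⟩ := id hT
  obtain ⟨T₀, hT₀, hTT₀⟩ := exists_sylIn_ge hTp hTL
  have h : Hy T L := (straddle_main ha hMJ hT hL2 hLM (isSylowTwoIn_of_sylIn hT₀) ((J_le T).trans hTT₀)).2.2.2 hTL
  obtain ⟨F⟩ := h.factors
  have hN := normalizer_J_le hMJ hT
  have hCM : cOf L ≤ M := h.C_norm_T.trans ((normalizer_le_J T).trans hN)
  obtain ⟨K, hK, hKL, hKM⟩ : ∃ K, IsJComponent T K ∧ K ≤ L ∧ ¬ K ≤ M := by
    by_contra hno
    push Not at hno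
    refine hLM ?_
    have hYM : yOf T L ≤ M := (meets h F).trans (sup_le hCM (iSup₂_le fun E hE => ?_))
    · intro l hl
      have hP : SylIn 2 (T ⊓ yOf T L) (yOf T L) := h.syl.inf_normal h.Y_le Hy.L_norm_Y
      obtain ⟨y, hy, hyl⟩ := frattini_conj hP Hy.L_norm_Y hl
      have e : thompsonSubgroupOf 2 (T ⊓ yOf T L) = thompsonSubgroupOf 2 T :=
        J_eq_of_sylIn h.syl hTp.to_inf_left (inf_le_left.trans hTL) (le_inf (J_le T) Hy.J_le_Y)
      have h1 := hN (e ▸ normalizer_le_J _ hyl)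
      exact (Subgroup.mul_mem_cancel_left _ (hYM hy)).1 h1
    · obtain ⟨hE, A, hA, t, ht, htC⟩ := hE
      obtain ⟨K, hK, hKL, hEle, -⟩ := exists_component h F hA hE ht htC
      exact hEle.trans (sup_le (sup_le hCM (hno K hK hKL))
        (Subgroup.zpowers_le.2 (hTM (hA.1 (Subgroup.mem_inf.1 ht).1))))
  refine ⟨K, ⟨hK, fun S' hJS' hS' => ?_⟩, hKM, fun hb => ?_⟩
  · have hX : IsTwoLocal (Subgroup.normalizer (wOf K : Set G)) :=
      ⟨wOf K, isPGroup_elementary wOf_el, wOf_ne_bot hK, rfl⟩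
    exact (straddle_main ha hMJ hT hX (fun hle => hKM ((wOf_norm).trans hle)) hS' hJS').1.symm
  · refine h.Q_ne_bot (le_bot_iff.1 (hb ▸ le_pCoreOf (h.Q_le_T.trans le_sup_right) (isPGroup_pCoreOf L) ?_))
    exact (sup_le hKL hTL).trans (le_normalizer_pCoreOf L)

end Cfsg.Agent.JComp
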