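import Cfsg.Agent.Lib.JComp.Fac
import Cfsg.Agent.Lib.JComp.Delta
import Cfsg.Agent.S2941

/-!
# Components in an overgroup
-/

set_option autoImplicit false
set_option linter.style.haveILetI false

open Cfsg
open scoped commutatorElement

namespace Cfsg.Agent.JComp

open Cfsg.Agent.Fusion

universe u

variable {G : Type u} [Group G]

theorem comm_right_closure {C : Subgroup G} {S : Set G} (hS : ∀ s ∈ S, s ∈ Subgroup.normalizer (C : Set G))
    {x : G} (h : ∀ s ∈ S, ⁅x, s⁆ ∈ C) {y : G} (hy : y ∈ Subgroup.closure S) : ⁅x, y⁆ ∈ C := by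
  suffices y ∈ Subgroup.normalizer (C : Set G) ∧ ⁅x, y⁆ ∈ C from this.2
  induction hy using Subgroup.closure_induction with
  | mem s hs => exact ⟨hS s hs, h s hs⟩
  | one => exact ⟨one_mem _, by rw [commutatorElement_one_right]; exact one_mem C⟩
  | mul a b _ _ iha ihb =>
    refine ⟨mul_mem iha.1 ihb.1, ?_⟩
    rw [show ⁅x, a * b⁆ = ⁅x, a⁆ * (a * ⁅x, b⁆ * a⁻¹) by simp only [commutatorElement_def]; group]
    exact mul_mem iha.2 ((Subgroup.mem_normalizer_iff.1 iha.1 _).1 ihb.2)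
  | inv a _ iha =>
    refine ⟨inv_mem iha.1, ?_⟩
    rw [show ⁅x, a⁻¹⁆ = a⁻¹ * ⁅x, a⁆⁻¹ * a⁻¹⁻¹ by simp only [commutatorElement_def]; group]
    exact (Subgroup.mem_normalizer_iff.1 (inv_mem iha.1) _).1 (inv_mem iha.2)

theorem comm_left_closure {C : Subgroup G} {S : Set G} (hS : ∀ s ∈ S, s ∈ Subgroup.normalizer (C : Set G))
    {y : G} (h : ∀ s ∈ S, ⁅s, y⁆ ∈ C) {x : G} (hx : x ∈ Subgroup.closure S) : ⁅x, y⁆ ∈ C := by
  rw [← commutatorElement_inv]
  exact inv_mem (comm_right_closure hS (fun s hs => by rw [← commutatorElement_inv]; exact inv_mem (h s hs)) hx)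

variable [Finite G] [Fact (Nat.Prime 2)]

theorem yOf_cj {T L : Subgroup G} {a : G} (ha : a ∈ L) : yOf (cj T a) L = yOf T L := by
  refine le_antisymm (iSup_le fun l => ?_) (iSup_le fun l => ?_)
  · refine le_iSup_of_le ⟨l * a, mul_mem l.2 ha⟩ ?_
    rw [← thompson_cj, cj_cj]
  · refine le_iSup_of_le ⟨l * a⁻¹, mul_mem l.2 (inv_mem ha)⟩ ?_
    rw [← thompson_cj, cj_cj, inv_mul_cancel_right]

theorem Hy.cj {T L : Subgroup G} (h : Hy T L) {a : G} (ha : a ∈ L) : Hy (Fusion.cj T a) L := by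
  refine ⟨h.amb, isPGroup_cj h.pT a, fun hb => h.neT ?_, ?_, ?_, h.mem.2.2⟩
  · exact Subgroup.card_eq_one.1 (by rw [← card_cj T a, hb, Subgroup.card_bot])
  · simpa only [cj_eq_self_of_mem ha] using isSylowTwoIn_cj h.mem.1 a
  · rw [← thompson_cj]
    intro hle
    refine h.mem.2.1 ?_
    rw [← cj_le_cj (g := a), cj_eq_self (le_normalizer_pCoreOf L ha)]
    exact hle

variable {T L : Subgroup G} (h : Hy T L) (F : Factors T L)
include h F

/-- The factors meeting `J(T)` cover `Y`. -/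
theorem meets : yOf T L ≤ cOf L ⊔
    ⨆ (E : Subgroup G) (_ : E ∈ F.fac ∧ ∃ A ∈ mx T, ∃ t ∈ A ⊓ E, t ∉ cOf L), E := by
  classical
  set S := ⨆ (E : Subgroup G) (_ : E ∈ F.fac ∧ ∃ A ∈ mx T, ∃ t ∈ A ⊓ E, t ∉ cOf L), E
  have hJ : thompsonSubgroupOf 2 T ≤ cOf L ⊔ S := by
    rw [J_eq]
    refine sSup_le fun A hA => (F.split A (h.mx_sub hA)).trans (sup_le le_sup_left (iSup₂_le fun E hE => ?_))
    by_cases hmem : ∀ t ∈ A ⊓ E, t ∈ cOf L
    · exact le_trans hmem le_sup_left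
    · push Not at hmem
      obtain ⟨t, ht, htC⟩ := hmem
      exact inf_le_right.trans (le_sup_of_le_right (le_iSup₂_of_le E ⟨hE, A, hA, t, ht, htC⟩ le_rfl))
  refine h.Y_eq.trans (iSup_le fun y => ?_)
  refine (cj_mono hJ _).trans ?_
  rw [cj_sup, cj_eq_self (Hy.L_norm_C L (h.Y_le y.2))]
  refine sup_le le_sup_left (le_sup_of_le_right ?_)
  rw [Fusion.cj, Subgroup.map_iSup]
  refine iSup_le fun E => ?_
  rw [Subgroup.map_iSup]
  exact iSup_le fun hE => le_iSup₂_of_le E hE (cj_eq_self (F.norm E hE.1 y.2)).le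

/-- A subgroup of order three over the core inverted inside its factor is normalized by `Y C`. -/
theorem norm_of_three {E : Subgroup G} (hE : E ∈ F.fac) {r : G} (hrE : r ∈ E) (hrY : r ∈ yOf T L)
    (hr3 : r ^ 3 = 1) (hrC : r ∉ cOf L) {t : G} (htE : t ∈ E) (ht2 : t ^ 2 ∈ cOf L) (htC : t ∉ cOf L)
    (htR : t * r * t⁻¹ ∈ pCoreOf 2 L ⊔ Subgroup.zpowers r) :
    yOf T L ⊔ cOf L ≤ Subgroup.normalizer ((pCoreOf 2 L ⊔ Subgroup.zpowers r : Subgroup G) : Set G) := by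
  set Q := pCoreOf 2 L
  set R := Q ⊔ Subgroup.zpowers r with hR
  have hEL : E ≤ L := (F.le E hE).trans (sup_le h.Y_le inf_le_left)
  have hgen : ∀ {g : G}, g ∈ L → g * r * g⁻¹ ∈ R → g ∈ Subgroup.normalizer (R : Set G) := by
    intro g hg hgr
    refine mem_normalizer_of_cj_le ?_
    rw [hR, cj_sup]
    refine sup_le ((cj_eq_self (le_normalizer_pCoreOf L hg)).le.trans le_sup_left) ?_
    rw [Fusion.cj, MonoidHom.map_zpowers, Subgroup.zpowers_le]
    exact hgr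
  have hC : cOf L ≤ Subgroup.normalizer (R : Set G) := fun c hc => hgen hc.1 (by
    rw [show c * r * c⁻¹ = ⁅c, r⁆ * r by simp only [commutatorElement_def]; group]
    exact mul_mem (Subgroup.mem_sup_left (h.cent hc hrY)) (Subgroup.mem_sup_right (Subgroup.mem_zpowers r)))
  have hEN : E ≤ Subgroup.normalizer (R : Set G) := by
    refine (F.span E hE r hrE t htE (by rw [hr3]; exact one_mem _) hrC ht2 htC).trans
      (sup_le (sup_le hC (Subgroup.zpowers_le.2 ?_)) (Subgroup.zpowers_le.2 (hgen (hEL htE) htR)))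
    exact Subgroup.le_normalizer (Subgroup.mem_sup_right (Subgroup.mem_zpowers r))
  refine sup_le ((meets h F).trans (sup_le hC (iSup₂_le fun E' hE' => ?_))) hC
  rcases eq_or_ne E' E with rfl | hne
  · exact hEN
  refine (F.gen E' hE'.1).trans (sup_le hC ((Subgroup.closure_le _).2 ?_))
  rintro y ⟨hyE, hyY, k, hk⟩
  have hyL : y ∈ L := h.Y_le hyY
  refine hgen hyL ?_
  set φ := ⁅r⁻¹, y⁆ with hφdef
  have hφC : φ ∈ cOf L := F.comm E hE E' hE'.1 hne.symm _ (inv_mem hrE) y hyE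
  have hyr : y * r * y⁻¹ = r * φ := by rw [hφdef, commutatorElement_def]; group
  have hpow : ∀ n : ℕ, ∃ q ∈ Q, y ^ n * r * (y ^ n)⁻¹ = r * φ ^ n * q := by
    intro n
    induction n with
    | zero => exact ⟨1, one_mem Q, by simp⟩
    | succ n ih =>
      obtain ⟨q, hq, e⟩ := ih
      refine ⟨⁅(φ ^ n)⁻¹, y⁆ * (y * q * y⁻¹), mul_mem (h.cent (inv_mem (pow_mem hφC n)) hyY)
        ((Subgroup.mem_normalizer_iff.1 (le_normalizer_pCoreOf L hyL) q).1 hq), ?_⟩
      calc y ^ (n + 1) * r * (y ^ (n + 1))⁻¹ = y * (y ^ n * r * (y ^ n)⁻¹) * y⁻¹ := by rw [pow_succ']; group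
        _ = y * (r * φ ^ n * q) * y⁻¹ := by rw [e]
        _ = (y * r * y⁻¹) * (y * φ ^ n * y⁻¹) * (y * q * y⁻¹) := by group
        _ = r * φ * (φ ^ n * ⁅(φ ^ n)⁻¹, y⁆) * (y * q * y⁻¹) := by
          rw [hyr, show y * φ ^ n * y⁻¹ = φ ^ n * ⁅(φ ^ n)⁻¹, y⁆ by rw [commutatorElement_def]; group]
        _ = r * φ ^ (n + 1) * (⁅(φ ^ n)⁻¹, y⁆ * (y * q * y⁻¹)) := by rw [pow_succ']; simp only [mul_assoc]
  obtain ⟨q, hq, e⟩ := hpow (2 ^ k)
  rw [hk, one_mul, inv_one, mul_one, mul_assoc, eq_comm, mul_eq_left] at e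
  have hφQ : φ ^ 2 ^ k ∈ Q := by rw [eq_inv_of_mul_eq_one_left e]; exact inv_mem hq
  obtain ⟨m, hm⟩ := isPGroup_pCoreOf L ⟨_, hφQ⟩
  rw [hyr]
  refine mul_mem (Subgroup.mem_sup_right (Subgroup.mem_zpowers r))
    (Subgroup.mem_sup_left (h.two_mem hφC (n := k + m) ?_))
  rw [pow_add, pow_mul]
  exact congrArg Subtype.val hm

omit h F in
/-- What is known of a component inside `L`. -/
structure CompIn (T L : Subgroup G) (F : Factors T L) (K : Subgroup G) (k : G) (E : Subgroup G) : Prop where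
  gen : KGen K k
  leY : K ≤ yOf T L
  core : pCoreOf 2 K ≤ pCoreOf 2 L
  notC : k ∉ cOf L
  normQ : pCoreOf 2 L ≤ Subgroup.normalizer (K : Set G)
  mem : E ∈ F.fac
  le : K ≤ E
  normal : yOf T L ⊔ cOf L ≤ Subgroup.normalizer (K : Set G)
  plane : wOf K ≤ ⁅vOf L, K⁆
  comm_le : ⁅vOf L, K⁆ ≤ wOf K
  tor : ∃ t ∈ E, t ^ 2 ∈ cOf L ∧ t ∉ cOf L

/-- A component in `L` is normal in `Y C`, in one factor. -/
theorem component_in {T' K : Subgroup G} (h' : Hy T' L) (hY : yOf T' L = yOf T L) (hK : IsJComponent T' K)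
    (hKL : K ≤ L) : ∃ k E, CompIn T L F K k E := by
  obtain ⟨hgen, hcomm, hidx, -, h4, -⟩ := id hK
  set Q := pCoreOf 2 L
  set J' := thompsonSubgroupOf 2 T'
  have hJY : J' ≤ yOf T L := hY ▸ Hy.J_le_Y
  have hJK : J' ≤ Subgroup.normalizer (K : Set G) := by
    have h1 := Subgroup.normalizer_commutator_ge_right K J'
    rwa [hcomm] at h1
  have hKY : K ≤ yOf T L := by
    rw [← hcomm, Subgroup.commutator_le]
    intro g hg j hj
    exact mul_mem ((Subgroup.mem_normalizer_iff.1 (Hy.L_norm_Y (hKL hg)) j).1 (hJY hj)) (inv_mem (hJY hj))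
  haveI hPn : (pCore 2 K).Normal := by unfold Cfsg.pCore; exact Subgroup.sSup_normal _ fun N hN => hN.1
  set P := pCoreOf 2 K
  have hPsub : P.subgroupOf K = pCore 2 K := Subgroup.comap_map_eq_self_of_injective K.subtype_injective _
  -- the core lies in `Q`
  have hPQ : P ≤ Q := fun x hx => by
    obtain ⟨n, hn⟩ := isPGroup_pCoreOf K ⟨x, hx⟩
    have hn' : x ^ 2 ^ n = 1 := congrArg Subtype.val hn
    exact h.two_mem (F.two_core K hKY hgen x (pCoreOf_le K hx) n hn') hn'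
  -- a generator
  obtain ⟨k, hkK, hko, hkP⟩ : ∃ k ∈ K, Odd (orderOf k) ∧ k ∉ P := by
    by_contra hno
    push Not at hno
    have : P.relIndex K = 1 := Subgroup.relIndex_eq_one.2 (le_of_closure_odd hgen hno)
    omega
  have hk3 : k ^ 3 = 1 := by
    have h1 : (⟨k, hkK⟩ : ↥K) ^ (P.subgroupOf K).index ∈ pCore 2 K := by
      rw [hPsub]; exact Subgroup.pow_index_mem _ _
    rw [show (P.subgroupOf K).index = 3 from hidx] at h1
    obtain ⟨n, hn⟩ := isPGroup_pCoreOf K ⟨k ^ 3, ⟨⟨k, hkK⟩ ^ 3, h1, rfl⟩⟩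
    exact eq_one_of_odd (n := n) (congrArg Subtype.val hn) (hko.of_dvd_nat (orderOf_pow_dvd 3))
  have hd : KGen K k := ⟨hkK, hk3, by
    have h1 : (P ⊔ Subgroup.zpowers k).relIndex K ∣ 3 := hidx ▸ Subgroup.relIndex_dvd_of_le_left K le_sup_left
    rcases (Nat.dvd_prime Nat.prime_three).1 h1 with h1 | h1
    · exact Subgroup.relIndex_eq_one.1 h1
    · exfalso
      have hle : P ≤ P ⊔ Subgroup.zpowers k := le_sup_left
      have hsup : P ⊔ Subgroup.zpowers k ≤ K := sup_le (pCoreOf_le K) (Subgroup.zpowers_le.2 hkK)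
      have h2 := Subgroup.relIndex_mul_relIndex P (P ⊔ Subgroup.zpowers k) K hle hsup
      rw [hidx, h1] at h2
      have h3 : P.relIndex (P ⊔ Subgroup.zpowers k) = 1 := by omega
      exact hkP (Subgroup.relIndex_eq_one.1 h3 (Subgroup.mem_sup_right (Subgroup.mem_zpowers k)))⟩
  have hKR : K ≤ Q ⊔ Subgroup.zpowers k := hd.le.trans (sup_le_sup_right hPQ _)
  have hkC : k ∉ cOf L := by
    intro hkC
    have hKC : K ≤ cOf L := hKR.trans (sup_le (Hy.Q_le_C L) (Subgroup.zpowers_le.2 hkC))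
    have hKQ : K ≤ Q := by
      rw [← hcomm, Subgroup.commutator_le]
      exact fun g hg j hj => h.cent (hKC hg) (hJY hj)
    obtain ⟨n, hn⟩ := isPGroup_pCoreOf L ⟨k, hKQ hkK⟩
    have hk1 : k = 1 := eq_one_of_odd (n := n) (congrArg Subtype.val hn) hko
    exact hkP (by rw [hk1]; exact one_mem P)
  have hQK : Q ≤ Subgroup.normalizer (K : Set G) :=
    S2941.result h.amb.cty h.amb.loc h.amb.cen T' h'.pT h'.neT K hK Q
      ((sup_le hKL h'.J_le_L).trans (le_normalizer_pCoreOf L))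
      (h'.Q_le_T.trans ((Subgroup.le_normalizer (H := T')).trans (by
        intro x hx; rw [mem_normalizer_iff_cj, thompson_cj, cj_eq_self hx])))
  -- an element of a best offender not centralizing `k`
  obtain ⟨A, hA, E, hE, t, ht, hkt⟩ : ∃ A ∈ mx T', ∃ E ∈ F.fac, ∃ t ∈ A ⊓ E, ⁅k, t⁆ ∉ cOf L := by
    by_contra hno
    push Not at hno
    refine hkC ?_
    have hnC : ∀ {x : G}, x ∈ L → x ∈ Subgroup.normalizer (cOf L : Set G) := fun hx => Hy.L_norm_C L hx
    have hkJ : ∀ j ∈ J', ⁅k, j⁆ ∈ cOf L := by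
      intro j hj
      let S : Set G := {x | x ∈ L ∧ ⁅k, x⁆ ∈ cOf L}
      refine comm_right_closure (S := S) (fun s hs => hnC hs.1) (fun s hs => hs.2) ?_
      refine (show J' ≤ Subgroup.closure S from ?_) hj
      rw [show J' = _ from J_eq T']
      refine sSup_le fun A hA => ?_
      refine (F.split A (h'.mx_sub hA)).trans (sup_le (fun c hc => Subgroup.subset_closure ⟨hc.1, ?_⟩)
        (iSup₂_le fun E hE x hx => Subgroup.subset_closure ⟨h'.T_le (hA.1 hx.1), hno A hA E hE x hx⟩))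
      exact mul_mem ((Subgroup.mem_normalizer_iff.1 (hnC (hKL hkK)) c).1 hc) (inv_mem hc)
    have hKC : K ≤ cOf L := by
      rw [← hcomm, Subgroup.commutator_le]
      intro g hg j hj
      let S : Set G := {x | x ∈ L ∧ ⁅x, j⁆ ∈ cOf L}
      refine comm_left_closure (S := S) (fun s hs => hnC hs.1) (fun s hs => hs.2) ?_
      refine (show K ≤ Subgroup.closure S from hKR.trans (sup_le (fun q hq => Subgroup.subset_closure
        ⟨pCoreOf_le L hq, ?_⟩) (Subgroup.zpowers_le.2 (Subgroup.subset_closure ⟨hKL hkK, hkJ j hj⟩)))) hg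
      exact Hy.Q_le_C L (commutator_elem_mem hq (le_normalizer_pCoreOf L (h'.J_le_L hj))).1
    exact hKC hkK
  obtain ⟨htA, htE⟩ := Subgroup.mem_inf.1 ht
  have htN : t ∈ Subgroup.normalizer (K : Set G) := hJK (mx_le_J hA htA)
  have htC : t ∉ cOf L := fun htC => hkt (commutator_elem_mem htC (Hy.L_norm_C L (hKL hkK))).2
  have hktK : ⁅k, t⁆ ∈ K := (commutator_elem_mem hkK htN).1
  have hktE : ⁅k, t⁆ ∈ E := (commutator_elem_mem htE (F.norm E hE (hKY hkK))).2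
  have hQE : Q ≤ E := (Hy.Q_le_C L).trans (F.C_le E hE)
  have hkE : k ∈ E := by
    obtain ⟨q, hq, z, hz, e⟩ := (mem_sup_iff_mul ((Subgroup.zpowers_le.2 (hKL hkK)).trans
      (le_normalizer_pCoreOf L))).1 (hKR hktK)
    obtain ⟨i, hi, rfl⟩ := exists_pow_of_zpow hk3 hz
    have hzE : k ^ i ∈ E := (Subgroup.mul_mem_cancel_left _ (hQE hq)).1 (e ▸ hktE)
    rcases (show i = 0 ∨ i = 1 ∨ i = 2 by omega) with rfl | rfl | rfl
    · exact absurd (e ▸ (by simpa using Hy.Q_le_C L hq : q * k ^ 0 ∈ cOf L)) hkt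
    · simpa using hzE
    · have : k = (k ^ 2) ^ 2 := by rw [← pow_mul, show 2 * 2 = 3 + 1 from rfl, pow_succ, hk3, one_mul]
      rw [this]; exact pow_mem hzE 2
  have hKE : K ≤ E := hKR.trans (sup_le hQE (Subgroup.zpowers_le.2 hkE))
  have hnorm : yOf T L ⊔ cOf L ≤ Subgroup.normalizer ((Q ⊔ Subgroup.zpowers k : Subgroup G) : Set G) :=
    norm_of_three h F hE hkE (hKY hkK) hk3 hkC htE (by rw [hA.2.1.2 t htA]; exact one_mem _) htC
      (hKR ((Subgroup.mem_normalizer_iff.1 htN k).1 hkK))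
  have hnK : yOf T L ⊔ cOf L ≤ Subgroup.normalizer (K : Set G) := by
    intro x hx
    refine mem_normalizer_of_cj_le ?_
    conv_lhs => rw [← hgen, Fusion.cj, MonoidHom.map_closure]
    refine (Subgroup.closure_le _).2 ?_
    rintro _ ⟨g, ⟨hg, ho⟩, rfl⟩
    refine odd_mem_of_sup hQK (isPGroup_pCoreOf L) ?_ (by rwa [orderOf_injective _ (MulAut.conj x).injective])
    refine (show Q ⊔ Subgroup.zpowers k ≤ K ⊔ Q from sup_le le_sup_right
      ((Subgroup.zpowers_le.2 hkK).trans le_sup_left)) ?_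
    exact (Subgroup.mem_normalizer_iff.1 (hnorm hx) g).1 (hKR hg)
  -- the plane
  have hVK : ⁅vOf L, K⁆ ≤ omegaCenterOf P := by
    rw [Subgroup.commutator_le]
    intro v hv g hg
    have h1 : ⁅v, g⁆ ∈ vOf L := (commutator_elem_mem hv (Hy.L_norm_V L (hKL hg))).1
    have h2 : ⁅v, g⁆ ∈ K := (commutator_elem_mem hg (hQK (omegaCenterOf_le _ hv))).2
    have h3 : ⁅v, g⁆ ∈ P := by
      refine le_pCoreOf (P := vOf L ⊓ K) inf_le_right
        ((isPGroup_pCoreOf L).to_le (inf_le_left.trans (omegaCenterOf_le _))) (fun x hx => ?_) ⟨h1, h2⟩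
      rw [mem_normalizer_iff_cj, cj_inf, cj_eq_self (Hy.L_norm_V L (hKL hx)), cj_eq_self_of_mem hx]
    exact mem_omegaCenter h3 ((omegaCenter_el _).2 _ h1) fun y hy => omegaCenter_comm h1 (hPQ hy)
  have hkV := Hy.L_norm_V L (hKL hkK)
  refine ⟨k, E, hd, hKY, hPQ, hkC, hQK, hE, hKE, hnK, ?_, ?_, t, htE, by rw [hA.2.1.2 t htA]; exact one_mem _, htC⟩
  on_goal 1 =>
    obtain ⟨v, hv, hvk⟩ : ∃ v ∈ vOf L, ⁅v, k⁆ ≠ 1 := by
      by_contra hno
      push Not at hno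
      exact hkC ⟨hKL hkK, Subgroup.mem_centralizer_iff.2 fun v hv => commutatorElement_eq_one_iff_mul_comm.1 (hno v hv)⟩
    have hnm := nm_comm (omegaCenter_el _) hkV hk3 hv 1
    rw [pow_one] at hnm
    have hx : ⁅v, k⁆ ∈ wOf K := hd.mem_wOf (hVK (Subgroup.commutator_mem_commutator hv hkK)) hnm
    have he : ⁅vOf L, K⁆ ⊓ wOf K = wOf K := by
      refine hd.eq_wOf h4 inf_le_right (fun x hx => ⟨?_, (Subgroup.mem_normalizer_iff.1 (wOf_norm hkK) x).1 hx.2⟩)
        ⟨Subgroup.commutator_mem_commutator hv hkK, hx⟩ hvk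
      exact (Subgroup.mem_normalizer_iff.1 (Subgroup.normalizer_commutator_ge_right (vOf L) K hkK) x).1 hx.1
    exact inf_eq_right.1 he
  · rw [Subgroup.commutator_le]
    intro v hv g hg
    have hm : ⁅v, g⁆ ∈ omegaCenterOf P := hVK (Subgroup.commutator_mem_commutator hv hg)
    obtain ⟨p, hp, i, -, e⟩ := hd.split hg
    have hkiV : k ^ i * v⁻¹ * (k ^ i)⁻¹ ∈ vOf L :=
      (Subgroup.mem_normalizer_iff.1 (pow_mem hkV i) _).1 (inv_mem hv)
    have e' : ⁅v, g⁆ = ⁅v, k ^ i⁆ := by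
      rw [← e]
      calc ⁅v, p * k ^ i⁆ = v * (p * (k ^ i * v⁻¹ * (k ^ i)⁻¹) * p⁻¹) := by
            simp only [commutatorElement_def]; group
        _ = ⁅v, k ^ i⁆ := by
          rw [omegaCenter_comm hkiV (hPQ hp), mul_inv_cancel_right]
          simp only [commutatorElement_def]; group
    rw [e'] at hm ⊢
    exact hd.mem_wOf hm (nm_comm (omegaCenter_el _) hkV hk3 hv i)

omit [Finite G] [Fact (Nat.Prime 2)] h in
/-- A component lies in just one factor. -/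
theorem CompIn.fac_unique {T' K : Subgroup G} {k : G} {E E' : Subgroup G} (hK : IsJComponent T' K)
    (d : CompIn T L F K k E) (hE' : E' ∈ F.fac) (hle : K ≤ E') : E' = E := by
  by_contra hne
  have h1 : wOf K ≤ ⁅vOf L, E'⁆ ⊓ ⁅vOf L, E⁆ :=
    le_inf (d.plane.trans (Subgroup.commutator_mono le_rfl hle)) (d.plane.trans (Subgroup.commutator_mono le_rfl d.le))
  rw [F.plane _ hE' _ d.mem hne] at h1
  have h4 := hK.2.2.2.2.1
  rw [le_bot_iff.1 h1, Subgroup.card_bot] at h4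
  omega

/-- Components in one factor coincide. -/
theorem component_eq_fac {T₁ T₂ K₁ K₂ : Subgroup G} {k₁ k₂ : G} {E₁ : Subgroup G} (h₁ : Hy T₁ L)
    (hY₁ : yOf T₁ L = yOf T L) (hK₁ : IsJComponent T₁ K₁) (h₂ : Hy T₂ L) (hY₂ : yOf T₂ L = yOf T L)
    (hK₂ : IsJComponent T₂ K₂) (d₁ : CompIn T L F K₁ k₁ E₁) (d₂ : CompIn T L F K₂ k₂ E₁) : K₁ = K₂ := by
  have key : ∀ {T' K K' : Subgroup G} {k k' : G}, Hy T' L → yOf T' L = yOf T L → IsJComponent T' K' →
      CompIn T L F K k E₁ → CompIn T L F K' k' E₁ → K' ≤ K := by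
    intro T' K K' k k' h' hY' hK' d d'
    obtain ⟨hgen', hcomm', -⟩ := id hK'
    have hJY : thompsonSubgroupOf 2 T' ≤ yOf T L := hY' ▸ Hy.J_le_Y
    have hCK : cOf L ≤ Subgroup.normalizer (K : Set G) := le_sup_right.trans d.normal
    have hk' : k' ∈ K ⊔ cOf L := by
      have h1 := F.three_unique E₁ d.mem k (d.le d.gen.mem) k' (d'.le d'.gen.mem)
        (by rw [d.gen.cube]; exact one_mem _) (by rw [d'.gen.cube]; exact one_mem _) d.notC
      exact (sup_le le_sup_right ((Subgroup.zpowers_le.2 d.gen.mem).trans le_sup_left) :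
        cOf L ⊔ Subgroup.zpowers k ≤ K ⊔ cOf L) h1
    have hle : K' ≤ K ⊔ cOf L := d'.gen.le.trans (sup_le
      (d'.core.trans ((Hy.Q_le_C L).trans le_sup_right)) (Subgroup.zpowers_le.2 hk'))
    have hKQ : K' ≤ K ⊔ pCoreOf 2 L := by
      conv_lhs => rw [← hcomm']
      rw [Subgroup.commutator_le]
      intro g hg j hj
      obtain ⟨x, hx, c, hc, rfl⟩ := (mem_sup_iff_mul hCK).1 (hle hg)
      rw [show ⁅x * c, j⁆ = x * ⁅c, j⁆ * x⁻¹ * ⁅x, j⁆ by simp only [commutatorElement_def]; group]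
      refine mul_mem (mul_mem (mul_mem (Subgroup.mem_sup_left hx) (Subgroup.mem_sup_right (h.cent hc (hJY hj))))
        (inv_mem (Subgroup.mem_sup_left hx))) (Subgroup.mem_sup_left ?_)
      exact (commutator_elem_mem hx (d.normal (Subgroup.mem_sup_left (hJY hj)))).1
    exact le_of_closure_odd hgen' fun x hx ho => odd_mem_of_sup d.normQ (isPGroup_pCoreOf L) (hKQ hx) ho
  exact le_antisymm (key h₁ hY₁ hK₁ d₂ d₁) (key h₂ hY₂ hK₂ d₁ d₂)

/-- Components meeting in their four-groups coincide. -/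
theorem component_eq {T₁ T₂ K₁ K₂ : Subgroup G} (h₁ : Hy T₁ L) (hY₁ : yOf T₁ L = yOf T L) (hK₁ : IsJComponent T₁ K₁)
    (hL₁ : K₁ ≤ L) (h₂ : Hy T₂ L) (hY₂ : yOf T₂ L = yOf T L) (hK₂ : IsJComponent T₂ K₂) (hL₂ : K₂ ≤ L)
    (hW : wOf K₁ ⊓ wOf K₂ ≠ ⊥) : K₁ = K₂ := by
  obtain ⟨k₁, E₁, d₁⟩ := component_in h F h₁ hY₁ hK₁ hL₁
  obtain ⟨k₂, E₂, d₂⟩ := component_in h F h₂ hY₂ hK₂ hL₂
  obtain rfl : E₁ = E₂ := by
    by_contra hne
    exact hW (le_bot_iff.1 (F.plane _ d₁.mem _ d₂.mem hne ▸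
      inf_le_inf (d₁.plane.trans (Subgroup.commutator_mono le_rfl d₁.le))
        (d₂.plane.trans (Subgroup.commutator_mono le_rfl d₂.le))))
  exact component_eq_fac h F h₁ hY₁ hK₁ h₂ hY₂ hK₂ d₁ d₂

end Cfsg.Agent.JComp
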