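import Cfsg.Agent.Lib.JComp.Center
import Cfsg.Agent.Lib.JComp.Fac
import Cfsg.Agent.S2820

/-!
# A subnormal component is normalized by `J(T)`
-/

set_option autoImplicit false
set_option linter.style.haveILetI false

open Cfsg
open scoped commutatorElement

namespace Cfsg.Agent.JComp

open Cfsg.Agent.Fusion

universe u

/-- Subnormal subgroups of order prime to `p` lie in the `p'`-core. -/
theorem subnormal_coprime_le (p : ℕ) : ∀ (n : ℕ) (G : Type u) [Group G] [Finite G],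
    Nat.card G = n → ∀ A : Subgroup G, A.IsSubnormal → (Nat.card A).Coprime p → A ≤ Cfsg.pPrimeCore p G := by
  intro n
  induction n using Nat.strong_induction_on with
  | _ n IH =>
  intro G _ _ hn A hA hAp
  rcases hA.lt_normal with rfl | ⟨K, hK, hAK, hKlt⟩
  · exact le_pPrimeCore hAp
  haveI := hK
  have hlt : Nat.card K < n := hn ▸ lt_of_le_of_ne (Nat.le_of_dvd Nat.card_pos (Subgroup.card_subgroup_dvd_card K))
    fun h => hKlt.ne (Subgroup.eq_top_of_card_eq K h)
  have h1 := IH _ hlt K rfl (A.subgroupOf K) (Cfsg.Agent.Solv.isSubnormal_subgroupOf hA)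
    (by rwa [Nat.card_congr (Subgroup.subgroupOfEquivOfLe hAK).toEquiv])
  set C := Cfsg.pPrimeCore p K with hC
  haveI : C.Characteristic := by
    rw [Subgroup.characteristic_iff_map_le]
    exact fun e => map_pPrimeCore_le e
  have h3 : C.map K.subtype ≤ Cfsg.pPrimeCore p G := le_pPrimeCore (by
    rw [Subgroup.card_map_of_injective K.subtype_injective]; exact card_pPrimeCore_coprime p ↥K)
  intro a ha
  exact h3 ⟨⟨a, hAK ha⟩, h1 ha, rfl⟩

variable {G : Type u} [Group G] [Finite G] [Fact (Nat.Prime 2)]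

/-- `J(T)` normalizes the four-group of a subnormal component. -/
theorem J_norm_wOf {T L K : Subgroup G} (h : Hy T L) (hKL : K ≤ L)
    (hsn : (K.subgroupOf (K ⊔ thompsonSubgroupOf 2 T)).IsSubnormal)
    (hgen : Subgroup.closure {g : G | g ∈ K ∧ Odd (orderOf g)} = K) (hidx : (pCoreOf 2 K).relIndex K = 3)
    (h4 : Nat.card ↥(wOf K) = 4) :
    thompsonSubgroupOf 2 T ≤ Subgroup.normalizer (wOf K : Set G) := by
  classical
  obtain ⟨k, d, -⟩ := exists_kgen hgen hidx
  set J := thompsonSubgroupOf 2 T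
  set M := K ⊔ J with hMdef
  set P := pCoreOf 2 M
  set O := pCoreOf 2 K
  set W := wOf K
  have hKM : K ≤ M := le_sup_left
  have hJM : J ≤ M := le_sup_right
  have hML : M ≤ L := sup_le hKL h.J_le_L
  haveI hPn : (pCore 2 ↥M).Normal := by unfold Cfsg.pCore; exact Subgroup.sSup_normal _ fun N hN => hN.1
  have hPsub : P.subgroupOf M = pCore 2 ↥M := Subgroup.comap_map_eq_self_of_injective M.subtype_injective _
  have hPK : P ≤ Subgroup.normalizer (K : Set G) := by
    have hres : (Cfsg.pResidual 2 ↥(K.subgroupOf M)).map (K.subgroupOf M).subtype = K.subgroupOf M := by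
      refine le_antisymm (Subgroup.map_subtype_le _) fun x hx => ?_
      have hle : K ≤ ((Cfsg.pResidual 2 ↥(K.subgroupOf M)).map (K.subgroupOf M).subtype).map M.subtype :=
        le_of_closure_odd hgen fun g hg ho =>
          ⟨⟨g, hKM hg⟩, ⟨⟨⟨g, hKM hg⟩, hg⟩, Subgroup.subset_closure (by
            show (orderOf (⟨⟨g, hKM hg⟩, hg⟩ : ↥(K.subgroupOf M))).Coprime 2
            rw [← Subgroup.orderOf_coe, ← Subgroup.orderOf_coe]
            exact (Nat.coprime_two_right.2 ho)), rfl⟩, rfl⟩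
      obtain ⟨y, hy, e⟩ := hle hx
      rwa [← Subtype.ext e]
    have h1 := (S2820.result (pCore 2 ↥M) (K.subgroupOf M) hPn.isSubnormal hsn (isPGroup_pCore 2 ↥M) hres).1
    intro p hp
    obtain ⟨p', hp', rfl⟩ := hp
    refine mem_normalizer_of_cj_le ?_
    rintro _ ⟨g, hg, rfl⟩
    exact (Subgroup.mem_normalizer_iff.1 (h1 hp') ⟨g, hKM hg⟩).1 hg
  have hOP : O ≤ P := by
    have hO : (O.subgroupOf M).IsSubnormal := by
      refine Subgroup.IsSubnormal.step _ (K.subgroupOf M) (fun x hx => pCoreOf_le K hx) hsn ⟨fun x hx g => ?_⟩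
      exact (Subgroup.mem_normalizer_iff.1 (le_normalizer_pCoreOf K g.2) _).1 hx
    intro x hx
    exact ⟨⟨x, hKM (pCoreOf_le K hx)⟩,
      Perm.subnormal_pgroup_le_pCore hO (isPGroup_pCoreOf K).comap_subtype hx, rfl⟩
  have hPW := core_centralizes d h4 hKM hPK
  have hWU : W ≤ omegaCenterOf P := fun w hw =>
    mem_omegaCenter (hOP (omegaCenterOf_le _ (wOf_le_omega hw))) (wOf_el.2 w hw) fun p hp => hPW p hp w hw
  set U := ⨆ m : ↥M, cj W (m : G) with hUdef
  have hUle : U ≤ omegaCenterOf P := iSup_le fun m =>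
    (cj_mono hWU _).trans (cj_eq_self (omegaCenter_norm (le_normalizer_pCoreOf M m.2))).le
  have hUel : El U := Local.elemAb_mono (omegaCenter_el _) hUle
  have hUP : U ≤ P := hUle.trans (omegaCenterOf_le _)
  have hUM : U ≤ M := hUP.trans (pCoreOf_le M)
  have hWU' : W ≤ U := le_iSup_of_le 1 (by simp [cj_one])
  have hUn : M ≤ Subgroup.normalizer (U : Set G) := fun m hm => by
    refine mem_normalizer_of_cj_le ?_
    rw [hUdef, cj, Subgroup.map_iSup]
    refine iSup_le fun m' => le_iSup_of_le ⟨m * m', mul_mem hm m'.2⟩ ?_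
    exact (cj_cj W (m' : G) m).le
  have hkM : k ∈ M := hKM d.mem
  have hkey : ∀ x ∈ U, ⁅x, k⁆ ∈ W := by
    intro x hx
    have h1 : ⁅x, k⁆ ∈ U := (commutator_elem_mem hx (hUn hkM)).1
    have h2 : ⁅x, k⁆ ∈ O := le_pCoreOf (P := K ⊓ P) inf_le_left (isPGroup_pCoreOf M).to_inf_right
      (fun y hy => by rw [mem_normalizer_iff_cj, cj_inf, cj_eq_self (Subgroup.le_normalizer hy),
        cj_eq_self (le_normalizer_pCoreOf M (hKM hy))])
      ⟨(commutator_elem_mem d.mem (hPK (hUP hx))).2, hUP h1⟩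
    have hnm := nm_comm hUel (hUn hkM) d.cube hx 1
    rw [pow_one] at hnm
    exact d.mem_wOf (mem_omegaCenter h2 (hUel.2 _ h1) fun y hy => omegaCenter_comm (hUle h1) (hOP hy)) hnm
  have hnorm1 : ∀ x ∈ U, nm k x = 1 → x ∈ W := by
    intro x hx hn
    have h1 := hkey x hx
    have e : ⁅x, k⁆ = (k ^ 2 * x * (k ^ 2)⁻¹)⁻¹ := by
      rw [commutatorElement_def, El.inv_eq hUel hx, mul_assoc, mul_assoc x, ← mul_assoc k x]
      exact eq_inv_of_mul_eq_one_left hn
    rw [e, inv_mem_iff] at h1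
    exact (Subgroup.mem_normalizer_iff.1 (pow_mem (wOf_norm d.mem) 2) x).2 h1
  -- the model
  haveI hU' : (U.subgroupOf M).Normal := Subgroup.normal_subgroupOf_of_le_normalizer hUn
  set V' := U.subgroupOf M with hV'
  have hV : El V' := El_subgroupOf hUel
  haveI : Group.IsSolvable ↥L := h.solvable
  have hsol : Group.IsSolvable ↥M := Group.isSolvable_of_isSolvable_injective (Subgroup.inclusion_injective hML)
  have hsep : IsPSolvable 2 ↥M := Char.isPSolvable_of_isSolvable Nat.prime_two _ rfl hsol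
  set f : ↥M →* ActModel.Ω V' := ActModel.proj V' with hf
  set C := Subgroup.centralizer (V' : Set ↥M)
  have hCiff : ∀ {x : G} (hx : x ∈ M), (⟨x, hx⟩ : ↥M) ∈ C ↔ ∀ u ∈ U, u * x = x * u := fun hx =>
    ⟨fun hc u hu => congrArg Subtype.val (Subgroup.mem_centralizer_iff.1 hc ⟨u, hUM hu⟩ hu),
      fun hc => Subgroup.mem_centralizer_iff.2 fun u hu => Subtype.ext (hc u hu)⟩
  -- the image of `K` lies in the odd core
  set q := QuotientGroup.mk' (pCore 2 ↥M)
  have hkq : q ⟨k, hkM⟩ ^ 3 = 1 := by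
    rw [← map_pow, show (⟨k, hkM⟩ : ↥M) ^ 3 = 1 from Subtype.ext d.cube, map_one]
  have hKcore : (K.subgroupOf M).map q ≤ pPrimeCore 2 _ := by
    refine subnormal_coprime_le 2 _ _ rfl _ (hsn.map (QuotientGroup.mk'_surjective _)) ?_
    have hle : (K.subgroupOf M).map q ≤ Subgroup.zpowers (q ⟨k, hkM⟩) := by
      rintro _ ⟨⟨g, hgM⟩, hg, rfl⟩
      obtain ⟨p, hp, i, -, rfl⟩ := d.split hg
      rw [show (⟨p * k ^ i, hgM⟩ : ↥M) = ⟨p, hKM (pCoreOf_le K hp)⟩ * ⟨k, hkM⟩ ^ i from rfl, map_mul,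
        show q ⟨p, hKM (pCoreOf_le K hp)⟩ = 1 from (QuotientGroup.eq_one_iff _).2
          (hPsub.le (show (⟨p, hKM (pCoreOf_le K hp)⟩ : ↥M) ∈ P.subgroupOf M from hOP hp)), one_mul, map_pow]
      exact pow_mem (Subgroup.mem_zpowers _) i
    refine Nat.Coprime.coprime_dvd_left ((Subgroup.card_dvd_of_le hle).trans ?_) (by decide : Nat.Coprime 3 2)
    rw [Nat.card_zpowers]
    exact orderOf_dvd_of_pow_eq_one hkq
  have hPC : pCore 2 ↥M ≤ C := fun x hx => (hCiff x.2).2 fun u hu =>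
    (omegaCenter_comm (hUle hu) (show (x : G) ∈ P from ⟨x, hx, rfl⟩)).symm
  have hO : pCore 2 (↥M ⧸ C) = ⊥ := by
    rw [LocalEven.Red.pCore_quotient_bot_iff]
    intro D hD hp
    haveI := hD
    haveI : C.Normal := Subgroup.normal_centralizer
    have hfixW : ∀ e ∈ D, ∀ w ∈ W, (e : G) * w * (e : G)⁻¹ = w := by
      intro e he w hw
      have hy : ⁅(⟨k, hkM⟩ : ↥M), e⁆ ∈ C := by
        set y := ⁅(⟨k, hkM⟩ : ↥M), e⁆
        have hyD : y ∈ D := mul_mem (hD.conj_mem e he _) (inv_mem he)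
        have hyN : q y ∈ pPrimeCore 2 _ := by
          rw [map_commutatorElement]
          exact (commutator_elem_mem (hKcore ⟨⟨k, hkM⟩, d.mem, rfl⟩)
            (by rw [Subgroup.normalizer_eq_top]; exact Subgroup.mem_top _)).1
        obtain ⟨n, hn⟩ := hp y hyD
        refine mem_of_pow_two_odd (n := n) (o := orderOf (q y)) ?_ hn (hPC ?_)
        · exact Nat.coprime_two_left.1 (mem_pPrimeCore_orderOf hyN).symm
        · exact (QuotientGroup.eq_one_iff _).1 (by
            show q (y ^ orderOf (q y)) = 1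
            rw [map_pow, pow_orderOf_eq_one])
      have hcomm : ∀ u ∈ U, (e : G) * (k * u * k⁻¹) * (e : G)⁻¹ = k * ((e : G) * u * (e : G)⁻¹) * k⁻¹ := by
        intro u hu
        have hy' := (hCiff (⁅(⟨k, hkM⟩ : ↥M), e⁆).2).1 hy
        have hm : (e : G) * (k * u * k⁻¹) * (e : G)⁻¹ ∈ U := (Subgroup.mem_normalizer_iff.1 (hUn e.2) _).1
          ((Subgroup.mem_normalizer_iff.1 (hUn hkM) _).1 hu)
        calc (e : G) * (k * u * k⁻¹) * (e : G)⁻¹
            = ((⁅(⟨k, hkM⟩ : ↥M), e⁆ : ↥M) : G) * ((e : G) * (k * u * k⁻¹) * (e : G)⁻¹) * ((⁅(⟨k, hkM⟩ : ↥M), e⁆ : ↥M) : G)⁻¹ := by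
              rw [← hy' _ hm, mul_inv_cancel_right]
          _ = _ := by simp only [commutatorElement_def, Subgroup.coe_mul, Subgroup.coe_inv]; group
      have hin : ∀ w ∈ W, (e : G) * w * (e : G)⁻¹ ∈ W := by
        intro w hw
        refine hnorm1 _ ((Subgroup.mem_normalizer_iff.1 (hUn e.2) w).1 (hWU' hw)) ?_
        have h2 : (e : G) * (k ^ 2 * w * (k ^ 2)⁻¹) * (e : G)⁻¹ = k ^ 2 * ((e : G) * w * (e : G)⁻¹) * (k ^ 2)⁻¹ := by
          calc (e : G) * (k ^ 2 * w * (k ^ 2)⁻¹) * (e : G)⁻¹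
              = (e : G) * (k * (k * w * k⁻¹) * k⁻¹) * (e : G)⁻¹ := by rw [pow_two]; group
            _ = k * (k * ((e : G) * w * (e : G)⁻¹) * k⁻¹) * k⁻¹ := by
              rw [hcomm _ ((Subgroup.mem_normalizer_iff.1 (hUn hkM) _).1 (hWU' hw)), hcomm w (hWU' hw)]
            _ = _ := by rw [pow_two]; group
        calc nm k ((e : G) * w * (e : G)⁻¹) = (e : G) * nm k w * (e : G)⁻¹ := by
              rw [nm, nm, ← hcomm w (hWU' hw), ← h2]; group
          _ = 1 := by rw [d.nm_wOf hw, mul_one, mul_inv_cancel]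
      rcases eq_or_ne w 1 with rfl | hw1
      · simp
      have hk1 : k * w * k⁻¹ ∈ W := (Subgroup.mem_normalizer_iff.1 (wOf_norm d.mem) w).1 hw
      have hall : ∀ v ∈ W, v = 1 ∨ ∃ i, i < 3 ∧ v = k ^ i * w * (k ^ i)⁻¹ := by
        intro v hv
        by_contra hno
        push Not at hno
        obtain ⟨hv1, hvi⟩ := hno
        haveI := Fintype.ofFinite ↥W
        have hm : ∀ i : ℕ, k ^ i * w * (k ^ i)⁻¹ ∈ W := fun i =>
          (Subgroup.mem_normalizer_iff.1 (pow_mem (wOf_norm d.mem) i) w).1 hw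
        have hne : ∀ i : ℕ, i < 3 → k ^ i * w * (k ^ i)⁻¹ ≠ 1 := fun i _ e => hw1 (conj_eq_one_iff.1 e)
        have hinj : Function.Injective (fun i : Fin 5 => (![⟨1, one_mem W⟩, ⟨v, hv⟩, ⟨_, hm 0⟩, ⟨_, hm 1⟩, ⟨_, hm 2⟩] : Fin 5 → ↥W) i) := by
          have n01 : k ^ 0 * w * (k ^ 0)⁻¹ ≠ k ^ 1 * w * (k ^ 1)⁻¹ := fun e => hw1 (d.fpf hw (by simpa using e.symm))
          have n12 : k ^ 1 * w * (k ^ 1)⁻¹ ≠ k ^ 2 * w * (k ^ 2)⁻¹ := fun e => hw1 (d.fpf hw (by
            calc k * w * k⁻¹ = k⁻¹ * (k ^ 2 * w * (k ^ 2)⁻¹) * k := by rw [pow_two]; group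
              _ = w := by rw [← e]; group))
          have n02 : k ^ 0 * w * (k ^ 0)⁻¹ ≠ k ^ 2 * w * (k ^ 2)⁻¹ := fun e => hw1 (d.fpf hw (by
            calc k * w * k⁻¹ = k * (k ^ 2 * w * (k ^ 2)⁻¹) * k⁻¹ := by rw [← e]; simp
              _ = k ^ 3 * w * (k ^ 3)⁻¹ := by
                rw [show k ^ 3 = k * k ^ 2 from pow_succ' k 2, mul_inv_rev]; simp only [mul_assoc]
              _ = w := by rw [d.cube, one_mul, inv_one, mul_one]))
          intro a b hab
          fin_cases a <;> fin_cases b <;> first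
            | rfl
            | (exfalso
               have e := congrArg Subtype.val hab
               first
                | exact hv1 e
                | exact hv1 e.symm
                | exact hne 0 (by norm_num) e
                | exact hne 0 (by norm_num) e.symm
                | exact hne 1 (by norm_num) e
                | exact hne 1 (by norm_num) e.symm
                | exact hne 2 (by norm_num) e
                | exact hne 2 (by norm_num) e.symm
                | exact hvi 0 (by norm_num) e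
                | exact hvi 0 (by norm_num) e.symm
                | exact hvi 1 (by norm_num) e
                | exact hvi 1 (by norm_num) e.symm
                | exact hvi 2 (by norm_num) e
                | exact hvi 2 (by norm_num) e.symm
                | exact n01 e
                | exact n01 e.symm
                | exact n12 e
                | exact n12 e.symm
                | exact n02 e
                | exact n02 e.symm)
        have := Nat.card_le_card_of_injective _ hinj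
        rw [h4, Nat.card_eq_fintype_card, Fintype.card_fin] at this
        omega
      rcases hall _ (hin w hw) with h1 | ⟨i, hi, h1⟩
      · exact absurd (conj_eq_one_iff.1 h1) hw1
      have hiter : ∀ m : ℕ, (e : G) ^ m * w * ((e : G) ^ m)⁻¹ = k ^ (i * m) * w * (k ^ (i * m))⁻¹ := by
        have hpush : ∀ j : ℕ, (e : G) * (k ^ j * w * (k ^ j)⁻¹) * (e : G)⁻¹ =
            k ^ j * ((e : G) * w * (e : G)⁻¹) * (k ^ j)⁻¹ := by
          intro j
          induction j with
          | zero => simp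
          | succ j ih =>
            have hj : k ^ j * w * (k ^ j)⁻¹ ∈ U := (Subgroup.mem_normalizer_iff.1 (pow_mem (hUn hkM) j) w).1 (hWU' hw)
            rw [pow_succ', show k * k ^ j * w * (k * k ^ j)⁻¹ = k * (k ^ j * w * (k ^ j)⁻¹) * k⁻¹ by group,
              hcomm _ hj, ih]
            group
        intro m
        induction m with
        | zero => simp
        | succ m ih =>
          rw [pow_succ', show (e : G) * (e : G) ^ m * w * ((e : G) * (e : G) ^ m)⁻¹ =
            (e : G) * ((e : G) ^ m * w * ((e : G) ^ m)⁻¹) * (e : G)⁻¹ by group, ih, hpush, h1,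
            show i * (m + 1) = i * m + i by ring, pow_add]
          group
      obtain ⟨n, hn⟩ := hp e he
      have h2 := hiter (2 ^ n)
      rw [← Subgroup.coe_pow] at h2
      rw [← (hCiff ((e ^ 2 ^ n).2)).1 hn w (hWU' hw), mul_inv_cancel_right] at h2
      rcases (show i = 0 ∨ i = 1 ∨ i = 2 by omega) with rfl | hi12
      · simpa using h1
      · exfalso
        refine hw1 (d.fpf hw ?_)
        have hmod : i * 2 ^ n % 3 = 1 ∨ i * 2 ^ n % 3 = 2 := by
          have hc : ¬ 3 ∣ i * 2 ^ n := fun hd => by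
            rcases (Nat.prime_three.dvd_mul).1 hd with h3 | h3
            · rcases hi12 with rfl | rfl <;> omega
            · have := Nat.prime_three.dvd_of_dvd_pow h3; omega
          omega
        have hred : k ^ (i * 2 ^ n) = k ^ (i * 2 ^ n % 3) := pow_eq_pow_mod _ d.cube
        rw [hred] at h2
        rcases hmod with e1 | e1 <;> rw [e1] at h2
        · simpa using h2.symm
        · calc k * w * k⁻¹ = k * (k ^ 2 * w * (k ^ 2)⁻¹) * k⁻¹ := by rw [← h2]
            _ = k ^ 3 * w * (k ^ 3)⁻¹ := by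
              rw [show k ^ 3 = k * k ^ 2 from pow_succ' k 2, mul_inv_rev]; simp only [mul_assoc]
            _ = w := by rw [d.cube, one_mul, inv_one, mul_one]
    intro x hx
    refine (hCiff x.2).2 fun u hu => ?_
    have hle : U ≤ Subgroup.centralizer ({(x : G)} : Set G) := iSup_le fun m => by
      rintro _ ⟨w, hw, rfl⟩
      refine Subgroup.mem_centralizer_singleton_iff.2 ?_
      show (m : G) * w * (m : G)⁻¹ * x = x * ((m : G) * w * (m : G)⁻¹)
      have h5 := hfixW (m⁻¹ * x * m) (by simpa using hD.conj_mem x hx m⁻¹) w hw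
      simp only [Subgroup.coe_mul, Subgroup.coe_inv] at h5
      calc (m : G) * w * (m : G)⁻¹ * x
          = (m : G) * (((m : G)⁻¹ * x * m) * w * ((m : G)⁻¹ * x * m)⁻¹) * (m : G)⁻¹ * x := by rw [h5]
        _ = x * ((m : G) * w * (m : G)⁻¹) := by group
    exact Subgroup.mem_centralizer_singleton_iff.1 (hle hu)
  -- offenders
  set Y : Subgroup G := sSup (mx M)
  have hYM : Y ≤ M := sSup_le fun A hA => hA.1
  haveI hY : (Y.subgroupOf M).Normal := Subgroup.normal_subgroupOf_of_le_normalizer fun m hm => by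
    refine mem_normalizer_of_cj_le ?_
    rw [show Y = sSup (mx M) from rfl, sSup_eq_iSup, cj, Subgroup.map_iSup]
    refine iSup_le fun A => ?_
    rw [Subgroup.map_iSup]
    refine iSup_le fun hA => le_iSup₂_of_le (cj A m) ⟨(cj_mono hA.1 _).trans (cj_eq_self_of_mem hm).le,
      (replFamily_elementary 2).map_equiv hA.2.1 (MulAut.conj m), fun X hX hX' => ?_⟩ le_rfl
    show _ ≤ Nat.card ↥(cj A m)
    rw [card_cj]; exact hA.2.2 X hX hX'
  set H := (Y.subgroupOf M).map f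
  set Vb := (ActModel.incl V').range
  have hoff : ∀ A ∈ mx M, IsBestOffenderOn 2 Vb ((A.subgroupOf M).map f) := by
    intro A hA
    refine ActModel.offender _ (isBestOffender_of_maxElementary _ hV ⟨El_subgroupOf hA.2.1, fun B hB => ?_⟩)
    rw [Nat.card_congr (Subgroup.subgroupOfEquivOfLe hA.1).toEquiv, ← Subgroup.card_map_of_injective M.subtype_injective]
    refine hA.2.2 _ (Subgroup.map_subtype_le _) ⟨⟨⟨?_⟩⟩, ?_⟩
    · rintro ⟨_, a, ha, rfl⟩ ⟨_, b, hb, rfl⟩
      exact Subtype.ext (congrArg M.subtype (Local.elemAb_commute hB ha hb))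
    · rintro _ ⟨a, ha, rfl⟩
      exact congrArg Subtype.val (hB.2 a ha)
  have hctx : OffCtx 2 Vb H := ActModel.ctx V' hsep hV hO _
  have hJY : J ≤ Y := by
    rw [show J = _ from J_eq T]
    exact sSup_le fun A hA => le_sSup ⟨(mx_le_J hA).trans hJM, hA.2.1,
      fun C hC hC' => card_le_of_sylIn h.syl hA hC' (hC.trans hML)⟩
  intro j hj
  refine mem_normalizer_of_cj_le ?_
  rintro _ ⟨w, hw, rfl⟩
  show j * w * j⁻¹ ∈ W
  by_cases hH : H = ⊥
  · have h1 : f ⟨j, hJM hj⟩ = 1 := Subgroup.mem_bot.1 (hH ▸ (⟨⟨j, hJM hj⟩, hJY hj, rfl⟩ : f ⟨j, hJM hj⟩ ∈ H))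
    have h2 := (hCiff (hJM hj)).1 ((ActModel.proj_eq_one V').1 h1) w (hWU' hw)
    rw [← h2, mul_inv_cancel_right]; exact hw
  have g : OffGen 2 Vb H := by
    refine ⟨hctx, le_antisymm ?_ (iSup_le fun A => A.2.1), hH⟩
    set S := ⨆ A : {A // A ≤ H ∧ IsBestOffenderOn 2 Vb A}, (A : Subgroup (ActModel.Ω V'))
    have key : Y ≤ (S.comap f).map M.subtype := sSup_le fun A hA x hx => by
      refine ⟨⟨x, hA.1 hx⟩, ?_, rfl⟩
      have hle : (A.subgroupOf M).map f ≤ S := le_iSup_of_le (ι := {A // A ≤ H ∧ IsBestOffenderOn 2 Vb A})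
        ⟨_, Subgroup.map_mono fun a ha => le_sSup hA ha, hoff A hA⟩ le_rfl
      exact hle ⟨⟨x, hA.1 hx⟩, hx, rfl⟩
    rintro _ ⟨⟨x, hx⟩, hxy, rfl⟩
    obtain ⟨y, hy, e⟩ := key hxy
    rw [show (⟨x, hx⟩ : ↥M) = y from (M.subtype_injective e).symm]
    exact hy
  set kb := f ⟨k, hkM⟩
  have hkV : kb ∈ Subgroup.normalizer (Vb : Set (ActModel.Ω V')) := ActModel.norm V' ⟨_, rfl⟩
  have hkH : kb ∈ Subgroup.normalizer (H : Set (ActModel.Ω V')) := by
    refine mem_normalizer_of_cj_le ?_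
    rintro _ ⟨_, ⟨y, hy, rfl⟩, rfl⟩
    exact ⟨⟨k, hkM⟩ * y * ⟨k, hkM⟩⁻¹, hY.conj_mem y hy _, by simp [kb]⟩
  let ι : ∀ x : G, x ∈ U → ActModel.Ω V' := fun x hx => ActModel.incl V' ⟨⟨x, hUM hx⟩, hx⟩
  have hιinj : ∀ {x y : G} (hx : x ∈ U) (hy : y ∈ U), ι _ hx = ι _ hy → x = y := fun hx hy e =>
    congrArg (fun z : ↥V' => ((z : ↥M) : G)) (SemidirectProduct.inl_injective e)
  have hιconj : ∀ {m : G} (hm : m ∈ M) {x : G} (hx : x ∈ U),
      ι _ ((Subgroup.mem_normalizer_iff.1 (hUn hm) x).1 hx) = f ⟨m, hm⟩ * ι _ hx * (f ⟨m, hm⟩)⁻¹ :=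
    fun {m} hm {x} hx => (ActModel.act V' ⟨m, hm⟩ ⟨⟨x, hUM hx⟩, hx⟩).symm
  have hιmul : ∀ {x y : G} (hx : x ∈ U) (hy : y ∈ U), ι _ (mul_mem hx hy) = ι _ hx * ι _ hy := fun hx hy =>
    map_mul (ActModel.incl V') ⟨⟨_, hUM hx⟩, hx⟩ ⟨⟨_, hUM hy⟩, hy⟩
  have hsur : ∀ v ∈ Vb, ∃ x, ∃ hx : x ∈ U, ι _ hx = v := by
    rintro _ ⟨⟨⟨x, _⟩, hx⟩, rfl⟩; exact ⟨x, hx, rfl⟩
  have hδ : ∀ v ∈ Vb, ∃ x, ∃ hx : x ∈ W, ι _ (hWU' hx) = v * (kb * v * kb⁻¹) := by
    intro v hv
    obtain ⟨x, hx, rfl⟩ := hsur v hv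
    refine ⟨⁅x, k⁆, hkey x hx, ?_⟩
    rw [← hιconj hkM hx, ← hιmul]
    congr 1
    show ⁅x, k⁆ = x * (k * x * k⁻¹)
    conv_lhs => rw [commutatorElement_def, El.inv_eq hUel hx]
    simp only [mul_assoc]
  have hk3 : kb ^ 3 = 1 := by rw [← map_pow, show (⟨k, hkM⟩ : ↥M) ^ 3 = 1 from Subtype.ext d.cube, map_one]
  have hVb2 : ∀ v ∈ Vb, v * v = 1 := fun v hv => by rw [← pow_two]; exact (ActModel.elem V' hV).2 v hv
  have hfj : f ⟨j, hJM hj⟩ ∈ H := ⟨_, hJY hj, rfl⟩
  by_cases hcase : ∃ E, IsFactor 2 Vb H E ∧ ∃ v ∈ ⁅Vb, E⁆, kb * v * kb⁻¹ ≠ v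
  · obtain ⟨E, hE, v, hv, hvne⟩ := hcase
    set E' := cjS kb E
    have hE' : IsFactor 2 Vb H E' := hE.cj hkV hkH
    have hEE : E' = E := by
      by_contra hne
      set E'' := cjS kb E'
      have hE'' : IsFactor 2 Vb H E'' := hE'.cj hkV hkH
      set Pl := ⁅Vb, E⁆
      have hPlV : Pl ≤ Vb := hE.plane_le
      have hkPl : ∀ x ∈ Pl, kb * x * kb⁻¹ ∈ ⁅Vb, E'⁆ := fun x hx => plane_cj hkV hx
      let δ : ↥Pl → ↥W := fun x => ⟨(hδ x (hPlV x.2)).choose, (hδ x (hPlV x.2)).choose_spec.choose⟩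
      have hδι : ∀ x : ↥Pl, ι _ (hWU' (δ x).2) = (x : ActModel.Ω V') * (kb * x * kb⁻¹) := fun x =>
        (hδ x (hPlV x.2)).choose_spec.choose_spec
      have hinj : Function.Injective δ := by
        intro a b hab
        have h1 : ι _ (hWU' (δ a).2) = ι _ (hWU' (δ b).2) := by congr 1; exact congrArg Subtype.val hab
        rw [hδι, hδι] at h1
        set c := (b : ActModel.Ω V')⁻¹ * a
        have hc : c = kb * b * kb⁻¹ * (kb * a * kb⁻¹)⁻¹ := by
          calc c = (b : ActModel.Ω V')⁻¹ * (a * (kb * a * kb⁻¹)) * (kb * a * kb⁻¹)⁻¹ := by simp only [c]; group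
            _ = _ := by rw [h1]; group
        have hcE : c ∈ fixIn Vb E := hE.plane_le_fix g hE' hne (by
          rw [hc]; exact mul_mem (hkPl _ b.2) (inv_mem (hkPl _ a.2)))
        have hc1 : c = 1 := Subgroup.mem_bot.1 (hE.plane_inf ▸ Subgroup.mem_inf.2
          ⟨mul_mem (inv_mem b.2) a.2, (Subgroup.mem_inf.1 hcE).2⟩)
        exact Subtype.ext (inv_mul_eq_one.1 hc1).symm
      haveI : Finite ↥Pl := inferInstance
      have hbij : Function.Bijective δ := by
        rw [Nat.bijective_iff_injective_and_card]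
        exact ⟨hinj, by rw [h4, hE.card_plane]; norm_num⟩
      have hkδ : k * (δ ⟨v, hv⟩ : G) * k⁻¹ ∈ W :=
        (Subgroup.mem_normalizer_iff.1 (wOf_norm d.mem) _).1 (δ ⟨v, hv⟩).2
      obtain ⟨⟨v', hv'⟩, hv'e⟩ := hbij.2 ⟨_, hkδ⟩
      have h2 : v' * (kb * v' * kb⁻¹) = kb * (v * (kb * v * kb⁻¹)) * kb⁻¹ := by
        rw [← hδι ⟨v, hv⟩, ← hιconj hkM, ← hδι ⟨v', hv'⟩]
        congr 1
        exact congrArg Subtype.val hv'e
      set x := kb * (kb * v * kb⁻¹) * kb⁻¹
      have hxe : x = (kb * v * kb⁻¹)⁻¹ * (v' * (kb * v' * kb⁻¹)) := by rw [h2]; simp only [x]; group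
      have hx'' : x ∈ ⁅Vb, E''⁆ := plane_cj hkV (hkPl v hv)
      have hinjE : ∀ {A B : Subgroup (ActModel.Ω V')}, cjS kb A = cjS kb B → A = B := fun e =>
        Subgroup.map_injective (MulAut.conj kb).injective e
      rcases eq_or_ne E'' E' with e | e
      · exact hne (hinjE e)
      rcases eq_or_ne E'' E with e' | e'
      · have h3 : cjS (kb ^ 3) E = E := by rw [hk3]; exact cjS_one E
        rw [show kb ^ 3 = kb * (kb * kb) by rw [pow_succ', pow_two], ← cjS_cjS, ← cjS_cjS] at h3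
        exact hne (by rw [← h3]; show E' = cjS kb E''; rw [e'])
      · have hxfix : x ∈ fixIn Vb E'' := by
          rw [hxe]
          exact mul_mem (inv_mem (hE''.plane_le_fix g hE' e.symm (hkPl v hv)))
            (mul_mem (hE''.plane_le_fix g hE e'.symm hv') (hE''.plane_le_fix g hE' e.symm (hkPl v' hv')))
        have hx1 : x = 1 := Subgroup.mem_bot.1 (hE''.plane_inf ▸ Subgroup.mem_inf.2 ⟨hx'', (Subgroup.mem_inf.1 hxfix).2⟩)
        have hv1 : v = 1 := conj_eq_one_iff.1 (conj_eq_one_iff.1 hx1)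
        exact hvne (by rw [hv1, mul_one, mul_inv_cancel])
    obtain ⟨x, hx, hxe⟩ := hδ v (hE.plane_le hv)
    have hkv : kb * v * kb⁻¹ ∈ ⁅Vb, E⁆ := by
      have := plane_cj hkV hv
      rwa [show cjS kb E = E from hEE] at this
    let X : Subgroup G :=
      { carrier := {z | ∃ hz : z ∈ W, ι _ (hWU' hz) ∈ ⁅Vb, E⁆}
        one_mem' := ⟨one_mem W, by
          rw [show ι _ (hWU' (one_mem W)) = 1 from map_one (ActModel.incl V')]; exact one_mem _⟩
        mul_mem' := fun ⟨ha, ha'⟩ ⟨hb, hb'⟩ => ⟨mul_mem ha hb, by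
          rw [hιmul (hWU' ha) (hWU' hb)]; exact mul_mem ha' hb'⟩
        inv_mem' := fun {a} ⟨ha, ha'⟩ => by
          rw [Set.mem_setOf_eq, show a⁻¹ = a from El.inv_eq wOf_el ha]; exact ⟨ha, ha'⟩ }
    have hX : X = W := by
      refine d.eq_wOf h4 (fun z hz => hz.1) (fun z hz => ?_) (x := x) ⟨hx, hxe ▸ mul_mem hv hkv⟩ fun hx1 => hvne ?_
      · obtain ⟨hz, hz'⟩ := hz
        refine ⟨(Subgroup.mem_normalizer_iff.1 (wOf_norm d.mem) z).1 hz, ?_⟩
        have h6 := plane_cj hkV hz'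
        rw [show cjS kb E = E from hEE, ← hιconj hkM (hWU' hz)] at h6
        exact h6
      · subst hx1
        rw [show ι _ (hWU' hx) = 1 from map_one (ActModel.incl V')] at hxe
        exact (eq_inv_of_mul_eq_one_right hxe.symm).trans (inv_eq_of_mul_eq_one_left (hVb2 v (hE.plane_le hv)))
    have hjw : j * w * j⁻¹ ∈ U := (Subgroup.mem_normalizer_iff.1 (hUn (hJM hj)) w).1 (hWU' hw)
    obtain ⟨hw', hwP⟩ := hX.ge hw
    have hjP : ι _ hjw ∈ ⁅Vb, E⁆ := by
      rw [hιconj (hJM hj) (hWU' hw)]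
      exact (hE.plane_mem g hfj).1 _ hwP
    let φ : ↥W → ↥(⁅Vb, E⁆) := fun z => ⟨ι _ (hWU' z.2), (hX.ge z.2).2⟩
    have hφ : Function.Bijective φ := by
      rw [Nat.bijective_iff_injective_and_card]
      exact ⟨fun a b e => Subtype.ext (hιinj _ _ (congrArg Subtype.val e)), by rw [h4, hE.card_plane]; norm_num⟩
    obtain ⟨z, hz⟩ := hφ.2 ⟨_, hjP⟩
    rw [← hιinj (hWU' z.2) hjw (congrArg Subtype.val hz)]
    exact z.2
  · push Not at hcase
    have hvw : k * w * k⁻¹ ∈ U := (Subgroup.mem_normalizer_iff.1 (hUn hkM) w).1 (hWU' hw)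
    have hn2 : k * w * k⁻¹ * (k * (k * w * k⁻¹) * k⁻¹) = w := by
      have h5 := d.nm_wOf hw
      rw [nm, mul_assoc] at h5
      calc k * w * k⁻¹ * (k * (k * w * k⁻¹) * k⁻¹) = k * w * k⁻¹ * (k ^ 2 * w * (k ^ 2)⁻¹) := by rw [pow_two]; group
        _ = w⁻¹ := eq_inv_of_mul_eq_one_right h5
        _ = w := El.inv_eq wOf_el hw
    have hwe : ι _ (hWU' hw) = ι _ hvw * (kb * ι _ hvw * kb⁻¹) := by
      rw [← hιconj hkM hvw, ← hιmul]
      congr 1
      exact hn2.symm
    have hfix : ι _ (hWU' hw) ∈ fixIn Vb H := by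
      have hv : ι _ hvw ∈ Vb := ⟨_, rfl⟩
      have hle := g.le_planes hv
      have hcen : ∀ p ∈ (⨆ (F : Subgroup (ActModel.Ω V')) (_ : IsFactor 2 Vb H F), ⁅Vb, F⁆), kb * p * kb⁻¹ = p := by
        intro p hp
        have h7 : (⨆ (F : Subgroup (ActModel.Ω V')) (_ : IsFactor 2 Vb H F), ⁅Vb, F⁆) ≤
            Subgroup.centralizer ({kb} : Set _) := iSup₂_le fun F hF y hy =>
          Subgroup.mem_centralizer_singleton_iff.2 (mul_inv_eq_iff_eq_mul.1 (hcase F hF y hy)).symm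
        rw [← Subgroup.mem_centralizer_singleton_iff.1 (h7 hp), mul_inv_cancel_right]
      have hnF : (⨆ (F : Subgroup (ActModel.Ω V')) (_ : IsFactor 2 Vb H F), ⁅Vb, F⁆) ≤ Vb :=
        iSup₂_le fun F hF => hF.plane_le
      have hn : (⨆ (F : Subgroup (ActModel.Ω V')) (_ : IsFactor 2 Vb H F), ⁅Vb, F⁆) ≤
          Subgroup.normalizer ((fixIn Vb H : Subgroup _) : Set (ActModel.Ω V')) := fun p hp => by
        refine mem_normalizer_of_cj_le ?_
        rintro _ ⟨c, hc, rfl⟩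
        show p * c * p⁻¹ ∈ fixIn Vb H
        rw [Local.elemAb_commute (ActModel.elem V' hV) (hnF hp) hc.1, mul_inv_cancel_right]; exact hc
      obtain ⟨c, hc, p, hp, e⟩ := (mem_sup_iff_mul hn).1 hle
      have hkc : kb * c * kb⁻¹ ∈ fixIn Vb H := by
        refine ⟨(Subgroup.mem_normalizer_iff.1 hkV c).1 hc.1, Subgroup.mem_centralizer_iff.2 fun y hy => ?_⟩
        have h9 : kb⁻¹ * y * kb ∈ H := by simpa using (Subgroup.mem_normalizer_iff.1 (inv_mem hkH) y).1 hy
        have h8 := Subgroup.mem_centralizer_iff.1 hc.2 _ h9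
        calc y * (kb * c * kb⁻¹) = kb * (kb⁻¹ * y * kb * c) * kb⁻¹ := by group
          _ = kb * (c * (kb⁻¹ * y * kb)) * kb⁻¹ := by rw [h8]
          _ = _ := by group
      have hgoal : ι _ (hWU' hw) = c * (kb * c * kb⁻¹) := by
        rw [hwe, ← e]
        calc c * p * (kb * (c * p) * kb⁻¹) = c * p * ((kb * c * kb⁻¹) * (kb * p * kb⁻¹)) := by group
          _ = c * p * ((kb * c * kb⁻¹) * p) := by rw [hcen p hp]
          _ = c * (p * (kb * c * kb⁻¹)) * p := by group
          _ = c * ((kb * c * kb⁻¹) * p) * p := by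
            rw [Local.elemAb_commute (ActModel.elem V' hV) (hnF hp) hkc.1]
          _ = c * (kb * c * kb⁻¹) * (p * p) := by group
          _ = _ := by rw [hVb2 p (hnF hp), mul_one]
      rw [hgoal]; exact mul_mem hc hkc
    have hjw : j * w * j⁻¹ ∈ U := (Subgroup.mem_normalizer_iff.1 (hUn (hJM hj)) w).1 (hWU' hw)
    have h10 : ι _ hjw = ι _ (hWU' hw) := by
      rw [hιconj (hJM hj) (hWU' hw), Subgroup.mem_centralizer_iff.1 hfix.2 _ hfj, mul_inv_cancel_right]
    rw [hιinj hjw (hWU' hw) h10]; exact hw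

end Cfsg.Agent.JComp
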