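import Cfsg.Agent.Lib.JComp.Lines

/-!
# Maximal straddling subgroups: existence, and the Sylow case
-/

set_option autoImplicit false
set_option linter.style.haveILetI false

open Cfsg
open scoped commutatorElement

namespace Cfsg.Agent.JComp

open Cfsg.Agent.Fusion

universe u

variable {G : Type u} [Group G] [Finite G]

theorem exists_max {M : Subgroup G} (h : (straddlingTwoSubgroups M).Nonempty) :
    (maxStraddlingTwoSubgroups M).Nonempty := by
  obtain ⟨T₁, h₁, m₁⟩ := Set.exists_max_image (straddlingTwoSubgroups M) maxElemAbelianOrder (Set.toFinite _) h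
  obtain ⟨T₂, ⟨h₂, e₂⟩, m₂⟩ := Set.exists_max_image
    {T | T ∈ straddlingTwoSubgroups M ∧ maxElemAbelianOrder T = maxElemAbelianOrder T₁}
    (fun T => Nat.card ↥(thompsonSubgroupOf 2 T)) (Set.toFinite _) ⟨T₁, h₁, rfl⟩
  obtain ⟨T₃, ⟨h₃, e₃, e₃'⟩, m₃⟩ := Set.exists_max_image
    {T | T ∈ straddlingTwoSubgroups M ∧ maxElemAbelianOrder T = maxElemAbelianOrder T₁ ∧
      Nat.card ↥(thompsonSubgroupOf 2 T) = Nat.card ↥(thompsonSubgroupOf 2 T₂)}
    (fun T : Subgroup G => Nat.card T) (Set.toFinite _) ⟨T₂, h₂, e₂, rfl⟩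
  refine ⟨T₃, h₃, fun T hT => ⟨e₃ ▸ m₁ T hT, fun e => ⟨e₃' ▸ m₂ T ⟨hT, e.trans e₃⟩, fun e' => ?_⟩⟩⟩
  exact m₃ T ⟨hT, e.trans e₃, e'.trans e₃'⟩

theorem maxOrder_cj (T : Subgroup G) (g : G) : maxElemAbelianOrder (cj T g) = maxElemAbelianOrder T := by
  obtain ⟨A, hA⟩ := mx_nonempty T
  have hA' : cj A g ∈ mx (cj T g) := ⟨cj_mono hA.1 g, (replFamily_elementary 2).map_equiv hA.2.1 (MulAut.conj g),
    fun C hC hC' => by
      show _ ≤ Nat.card ↥(cj A g)
      rw [← card_cj C g⁻¹, card_cj A g]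
      exact hA.2.2 _ ((cj_mono hC _).trans (cj_cj_inv T g).le)
        ((replFamily_elementary 2).map_equiv hC' (MulAut.conj g⁻¹))⟩
  rw [maxOrder_eq hA, maxOrder_eq hA', card_cj]

theorem max_cj {M T : Subgroup G} (h : T ∈ maxStraddlingTwoSubgroups M) {m : G} (hm : m ∈ M) :
    cj T m ∈ maxStraddlingTwoSubgroups M := by
  obtain ⟨⟨hp, h1, hle, L, hL, hTL, hLM⟩, hmax⟩ := h
  refine ⟨⟨isPGroup_cj hp m, fun hb => h1 ((Subgroup.map_eq_bot_iff_of_injective _ (MulAut.conj m).injective).1 hb),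
    (cj_mono hle m).trans (cj_eq_self_of_mem hm).le, cj L m, isTwoLocal_cj hL m, cj_mono hTL m, fun h' => hLM ?_⟩,
    fun R hR => ?_⟩
  · rw [← cj_cj_inv L m]
    exact (cj_mono h' _).trans (cj_eq_self_of_mem (inv_mem hm)).le
  · rw [maxOrder_cj, ← thompson_cj, card_cj, card_cj]
    exact hmax R hR

variable [Fact (Nat.Prime 2)]

/-- A straddling Sylow subgroup is maximal. -/
theorem max_of_sylow {M T : Subgroup G} (hS : SylIn 2 T ⊤) (h : T ∈ straddlingTwoSubgroups M) :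
    T ∈ maxStraddlingTwoSubgroups M := by
  refine ⟨h, fun R hR => ?_⟩
  obtain ⟨g, -, hg⟩ := hS.conj_le hR.1 le_top
  obtain ⟨A, hA⟩ := mx_nonempty T
  obtain ⟨B, hB⟩ := mx_nonempty (cj R g)
  have hle : Nat.card B ≤ Nat.card A := hA.2.2 B (hB.1.trans hg) hB.2.1
  rw [← maxOrder_cj R g, ← card_cj R g, ← card_cj (thompsonSubgroupOf 2 R) g, thompson_cj, maxOrder_eq hA,
    maxOrder_eq hB]
  refine ⟨hle, fun e => ⟨Subgroup.card_le_of_le ?_, fun _ => Subgroup.card_le_of_le hg⟩⟩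
  rw [J_eq, J_eq]
  exact sSup_le_sSup fun C hC => ⟨hC.1.trans hg, hC.2.1, fun D hD hD' =>
    (hA.2.2 D hD hD').trans (e.ge.trans (card_mx_eq hB hC).le)⟩

theorem comp_not_norm {T K : Subgroup G} (hT : IsPGroup 2 T) (hK : IsJComponent T K) :
    ¬ K ≤ Subgroup.normalizer (thompsonSubgroupOf 2 T : Set G) := fun hle => by
  refine component_ne_two hK (hT.to_le (J_le T)) ?_
  rw [← hK.2.1, Subgroup.commutator_le]
  exact fun g hg j hj => (commutator_elem_mem hj (hle hg)).2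

/-- In the Sylow case one may work with the normalizer of `J(T)`. -/
theorem Ctx.switch {M T K : Subgroup G} (c : Ctx M T) (hS : SylIn 2 T ⊤) (hK : IsJComponent T K)
    (h : Hy T (locOf T K)) (hKM : ¬ K ≤ M) :
    Ctx (Subgroup.normalizer (thompsonSubgroupOf 2 T : Set G)) T := by
  obtain ⟨P, hP⟩ := hS.exists_sylow
  refine ⟨c.amb, c.core, max_of_sylow hS ⟨c.pT, c.max.1.2.1, Subgroup.le_normalizer.trans (normalizer_le_J T),
    locOf T K, (c.loc_spec hK hKM).1.1, h.T_le, fun hle => comp_not_norm c.pT hK ((c.loc_spec hK hKM).2.1.trans hle)⟩,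
    P, le_of_eq (by rw [hP])⟩

end Cfsg.Agent.JComp
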