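import Cfsg.Agent.Lib.JComp.Pair
import Cfsg.Agent.Lib.Classical.Dickson.Recognition

/-!
# The maximal subgroups of a noncommuting pair are symmetric of degree four, or twice as large
-/

set_option autoImplicit false
set_option linter.style.haveILetI false

open Cfsg
open scoped commutatorElement

namespace Cfsg.Agent.JComp

open Cfsg.Agent.Fusion

universe u

variable {G : Type u} [Group G] [Finite G]

theorem card_sup_disjoint {K Q : Subgroup G} (h : Q ≤ Subgroup.normalizer (K : Set G)) (hd : K ⊓ Q = ⊥) :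
    Nat.card ↥(K ⊔ Q) = Nat.card ↥K * Nat.card ↥Q := by
  rw [← Nat.card_prod]
  refine (Nat.card_eq_of_bijective (fun p : ↥K × ↥Q =>
    (⟨(p.1 : G) * p.2, mul_mem (Subgroup.mem_sup_left p.1.2) (Subgroup.mem_sup_right p.2.2)⟩ : ↥(K ⊔ Q)))
    ⟨?_, ?_⟩).symm
  · rintro ⟨a, b⟩ ⟨a', b'⟩ e
    have e' : (a : G) * b = a' * b' := congrArg Subtype.val e
    have h1 : (a' : G)⁻¹ * a = (b' : G) * (b : G)⁻¹ := by
      calc (a' : G)⁻¹ * a = (a' : G)⁻¹ * (a * b) * (b : G)⁻¹ := by group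
        _ = _ := by rw [e']; group
    have h2 : (a' : G)⁻¹ * a = 1 := Subgroup.mem_bot.1
      (hd ▸ Subgroup.mem_inf.2 ⟨mul_mem (inv_mem a'.2) a.2, h1 ▸ mul_mem b'.2 (inv_mem b.2)⟩)
    obtain rfl : a = a' := Subtype.ext (inv_mul_eq_one.1 h2).symm
    exact Prod.ext rfl (Subtype.ext (mul_left_cancel e'))
  · rintro ⟨x, hx⟩
    obtain ⟨a, ha, b, hb, e⟩ := (mem_sup_iff_mul h).1 hx
    exact ⟨(⟨a, ha⟩, ⟨b, hb⟩), Subtype.ext e⟩

variable [Fact (Nat.Prime 2)] {M T K : Subgroup G} (c : Ctx M T)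
include c

/-- The subgroup isomorphic to the symmetric group of degree four. -/
theorem Side.exists_symFour (s : Side M T K) (hs : Shape T K) {v : G} (hv : v ∈ T) (hvQ : v ∉ qOf T K)
    (hv2 : v ^ 2 = 1) :
    ∃ H : Subgroup G, H ≤ locOf T K ∧ H ≤ K ⊔ Subgroup.zpowers v ∧ Nat.card H = 24 ∧
      Nonempty (↥H ≃* Equiv.Perm (Fin 4)) ∧ ∀ f ∈ fixZ T K, f ∈ H → f = 1 := by
  obtain ⟨k, z, w, d, hkL, -, hPQ, hzZ, hzW, hz1, -, hwW, -, -, -, -, -, -, -⟩ := s.frame c
  set Q := qOf T K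
  have hkW : k ∈ Subgroup.normalizer (wOf K : Set G) := wOf_norm d.mem
  have hk1 : k ≠ 1 := fun e => hz1 (d.fpf hzW (by rw [e]; simp))
  -- the part of `W ⊔ Z₀` outside `W` is central in `K`
  have hQdec : ∀ q ∈ Q, ∃ a ∈ wOf K, ∃ b ∈ fixZ T K, q = a * b := by
    intro q hq
    obtain ⟨a, ha, σ, hσ, rfl⟩ := (mem_sup_iff_mul (show zOf T ≤ Subgroup.normalizer (wOf K : Set G) from
      fun x hx => wOf_norm_of (s.norm c (c.z_mem_T hx)))).1 (hs.gen hq)
    obtain ⟨-, hsup⟩ := center_split c.pT s.comp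
    obtain ⟨l, hl, b, hb, rfl⟩ := (mem_sup_iff_mul (show _ ≤ Subgroup.normalizer ((zOf T ⊓ wOf K : Subgroup G) : Set G)
      from fun y hy => mem_normalizer_of_cj_le (by
        rintro _ ⟨u, hu, rfl⟩
        show y * u * y⁻¹ ∈ _
        rw [Local.elemAb_commute (omegaCenter_el _) (Subgroup.mem_inf.1 hy).1 (Subgroup.mem_inf.1 hu).1,
          mul_inv_cancel_right]
        exact hu))).1 ((hsup.ge.trans (sup_comm _ _).le) hσ)
    exact ⟨a * l, mul_mem ha (Subgroup.mem_inf.1 hl).2, b, Subgroup.mem_inf.2 ⟨(Subgroup.mem_inf.1 hb).1,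
      Subgroup.mem_centralizer_iff.2 fun x hx => Subgroup.mem_centralizer_iff.1
        (Subgroup.mem_inf.1 (Subgroup.mem_inf.1 hb).2).2 x (Subgroup.mem_sup_left hx)⟩, by rw [mul_assoc]⟩
  -- `K = W ⟨k⟩`
  have hKle : K ≤ wOf K ⊔ Subgroup.zpowers k := le_of_closure_odd s.comp.1 fun x hx ho => by
    obtain ⟨p, hp, i, -, rfl⟩ := d.split hx
    obtain ⟨a, ha, b, hb, rfl⟩ := hQdec p (hPQ hp)
    obtain ⟨hbZ, hbK⟩ := Subgroup.mem_inf.1 hb
    have hmem : a * k ^ i ∈ wOf K ⊔ Subgroup.zpowers k :=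
      mul_mem (Subgroup.mem_sup_left ha) (Subgroup.mem_sup_right (pow_mem (Subgroup.mem_zpowers k) i))
    have hba : Commute b a := (s.z_central c hbZ (Subgroup.mem_inf.1 (s.w_le_q c ha)).1).symm
    have hbk : Commute b (k ^ i) := (Subgroup.mem_centralizer_iff.1 hbK _ (pow_mem d.mem i)).symm
    have hc : Commute b (a * k ^ i) := hba.mul_right hbk
    have e : a * b * k ^ i = b * (a * k ^ i) := by rw [← hba.eq, mul_assoc]
    have h2 : (a * b * k ^ i) ^ 2 ∈ wOf K ⊔ Subgroup.zpowers k := by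
      rw [e, hc.mul_pow, (omegaCenter_el _).2 b hbZ, one_mul]
      exact pow_mem hmem 2
    obtain ⟨m, hm⟩ := ho
    set o := orderOf (a * b * k ^ i)
    have h3 : a * b * k ^ i = ((a * b * k ^ i) ^ 2) ^ (m + 1) := by
      calc a * b * k ^ i = (a * b * k ^ i) ^ o * (a * b * k ^ i) := by rw [pow_orderOf_eq_one, one_mul]
        _ = _ := by rw [← pow_succ, hm, ← pow_mul, Nat.mul_succ]
    rw [h3]
    exact pow_mem h2 _
  -- an element inverting `k`
  obtain ⟨p, hp, hap⟩ := s.invert c d hv hvQ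
  obtain ⟨p', hp', hpk⟩ : ∃ p' ∈ wOf K, v * k * v⁻¹ = p' * k ^ 2 := by
    obtain ⟨a, ha, b, hb, rfl⟩ := hQdec p (hPQ hp)
    have hKW : a * b * k ^ 2 ∈ wOf K ⊔ Subgroup.zpowers k :=
      hKle (hap ▸ (Subgroup.mem_normalizer_iff.1 (s.norm c hv) k).1 d.mem)
    obtain ⟨a', ha', r, hr, e⟩ := (mem_sup_iff_mul (Subgroup.zpowers_le.2 hkW)).1 hKW
    have hbC := (Subgroup.mem_inf.1 hb).2
    have h1 : a'⁻¹ * a * b = r * (k ^ 2)⁻¹ := by
      calc a'⁻¹ * a * b = a'⁻¹ * (a * b * k ^ 2) * (k ^ 2)⁻¹ := by group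
        _ = _ := by rw [← e]; group
    have h2 : a'⁻¹ * a = r * (k ^ 2)⁻¹ * b⁻¹ := by rw [← h1]; group
    have hcom : Commute k (r * (k ^ 2)⁻¹ * b⁻¹) := by
      obtain ⟨n, rfl⟩ := Subgroup.mem_zpowers_iff.1 hr
      exact (((Commute.refl k).zpow_right n).mul_right ((Commute.refl k).pow_right 2).inv_right).mul_right
        (show Commute k b from Subgroup.mem_centralizer_iff.1 hbC k d.mem).inv_right
    have h3 : a'⁻¹ * a = 1 := d.fpf (mul_mem (inv_mem ha') ha) (by rw [h2, hcom.eq, mul_inv_cancel_right])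
    have hb1 : b = r * (k ^ 2)⁻¹ := by rw [← h1, h3, one_mul]
    obtain ⟨n, rfl⟩ := Subgroup.mem_zpowers_iff.1 hr
    have hb3 : b ^ 3 = 1 := by
      rw [hb1, (((Commute.refl k).zpow_left n).pow_right 2).inv_right.mul_pow, inv_pow, ← pow_mul,
        mul_comm 2 3, pow_mul, d.cube, one_pow, inv_one, mul_one, ← zpow_natCast (k ^ n), ← zpow_mul, mul_comm,
        zpow_mul, zpow_natCast, d.cube, one_zpow]
    have hb0 : b = 1 := by
      calc b = b ^ 3 * (b ^ 2)⁻¹ := by group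
        _ = 1 := by rw [hb3, (omegaCenter_el _).2 b (Subgroup.mem_inf.1 hb).1, inv_one, one_mul]
    exact ⟨a, ha, by rw [hap, hb0, mul_one]⟩
  obtain ⟨τ, hτT, hτK, hτQ, hτW, hτk, hτ2⟩ : ∃ τ ∈ T, τ ∈ K ⊔ Subgroup.zpowers v ∧ τ ∉ Q ∧ τ ∈ Subgroup.normalizer (wOf K : Set G) ∧
      τ * k * τ⁻¹ = k ^ 2 ∧ τ * τ = 1 := by
    have hk2W : k ^ 2 ∈ Subgroup.normalizer (wOf K : Set G) := pow_mem hkW 2
    set u := k ^ 2 * p' * (k ^ 2)⁻¹ with hu
    set q := k * p' * k⁻¹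
    have huW : u ∈ wOf K := (Subgroup.mem_normalizer_iff.1 hk2W p').1 hp'
    have hqW : q ∈ wOf K := (Subgroup.mem_normalizer_iff.1 hkW p').1 hp'
    have huQ : u ∈ Q := s.w_le_q c huW
    have huT : u ∈ T := (Subgroup.mem_inf.1 huQ).1
    have huinv : u⁻¹ = u := El.inv_eq wOf_el huW
    have hku : k ^ 2 * u * (k ^ 2)⁻¹ = q := by
      calc k ^ 2 * u * (k ^ 2)⁻¹ = k ^ 3 * (k * p' * k⁻¹) * (k ^ 3)⁻¹ := by simp [u, pow_succ, mul_assoc]
        _ = q := by rw [d.cube, one_mul, inv_one, mul_one]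
    have hupq : u * p' * q = 1 := by
      rw [mul_assoc, Local.elemAb_commute wOf_el huW (mul_mem hp' hqW)]
      exact d.nm_wOf hp'
    have hvW : v ∈ Subgroup.normalizer (wOf K : Set G) := wOf_norm_of (s.norm c hv)
    have hk : u * v * k * (u * v)⁻¹ = k ^ 2 := by
      calc u * v * k * (u * v)⁻¹ = u * (v * k * v⁻¹) * u⁻¹ := by group
        _ = u * p' * (k ^ 2 * u * (k ^ 2)⁻¹) * k ^ 2 := by rw [hpk, huinv]; group
        _ = k ^ 2 := by rw [hku, hupq, one_mul]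
    refine ⟨u * v, mul_mem huT hv, mul_mem (Subgroup.mem_sup_left (wOf_le_omega.trans ((omegaCenterOf_le _).trans (pCoreOf_le K)) huW))
      (Subgroup.mem_sup_right (Subgroup.mem_zpowers v)), fun h => hvQ ((Subgroup.mul_mem_cancel_left _ huQ).1 h),
      mul_mem (Subgroup.le_normalizer huW) hvW, hk, ?_⟩
    have hvi : v⁻¹ = v := inv_eq_of_mul_eq_one_left (by rw [← pow_two]; exact hv2)
    have hW : u * v * (u * v) ∈ wOf K := by
      rw [show u * v * (u * v) = u * (v * u * v⁻¹) by rw [hvi]; group]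
      exact mul_mem huW ((Subgroup.mem_normalizer_iff.1 hvW u).1 huW)
    refine d.fpf hW ?_
    have hu2 : u * v * (u * v) * k * (u * v * (u * v))⁻¹ = k := by
      calc u * v * (u * v) * k * (u * v * (u * v))⁻¹ = u * v * (u * v * k * (u * v)⁻¹) * (u * v)⁻¹ := by group
        _ = u * v * k ^ 2 * (u * v)⁻¹ := by rw [hk]
        _ = (u * v * k * (u * v)⁻¹) ^ 2 := by rw [conj_pow]
        _ = k := by rw [hk, ← pow_mul, show 2 * 2 = 3 + 1 from rfl, pow_succ, d.cube, one_mul]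
    rw [← mul_inv_eq_iff_eq_mul.1 hu2, mul_inv_cancel_right]
  -- the group `⟨k, τ⟩` of order six
  set D := Subgroup.zpowers k ⊔ Subgroup.zpowers τ with hD
  have hτi : τ⁻¹ = τ := inv_eq_of_mul_eq_one_left hτ2
  have hτn : Subgroup.zpowers τ ≤ Subgroup.normalizer (Subgroup.zpowers k : Set G) := Subgroup.zpowers_le.2
    (mem_normalizer_of_cj_le (by
      rw [cj, MonoidHom.map_zpowers]
      refine Subgroup.zpowers_le.2 ?_
      show τ * k * τ⁻¹ ∈ _
      rw [hτk]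
      exact pow_mem (Subgroup.mem_zpowers k) 2))
  have hcardk : Nat.card ↥(Subgroup.zpowers k) = 3 := by
    rw [Nat.card_zpowers]
    exact (Nat.Prime.eq_one_or_self_of_dvd Nat.prime_three _ (orderOf_dvd_of_pow_eq_one d.cube)).resolve_left
      (mt orderOf_eq_one_iff.1 hk1)
  have hτ1 : τ ≠ 1 := fun e => hτQ (e ▸ one_mem Q)
  have hcardτ : Nat.card ↥(Subgroup.zpowers τ) = 2 := by
    rw [Nat.card_zpowers, orderOf_eq_prime (by rw [pow_two]; exact hτ2) hτ1]
  have hpk3 : ∀ x ∈ Subgroup.zpowers k, x ^ 3 = 1 := fun x hx => by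
    obtain ⟨n, rfl⟩ := Subgroup.mem_zpowers_iff.1 hx
    rw [← zpow_natCast (k ^ n), ← zpow_mul, mul_comm, zpow_mul, zpow_natCast, d.cube, one_zpow]
  have h2el : ∀ x : G, x ^ 3 = 1 → x ^ 2 = 1 → x = 1 := fun x h3 h2 => by
    calc x = x ^ 3 * (x ^ 2)⁻¹ := by group
      _ = 1 := by rw [h3, h2, inv_one, mul_one]
  have hdkτ : Subgroup.zpowers k ⊓ Subgroup.zpowers τ = ⊥ := by
    refine eq_bot_iff.2 fun x hx => Subgroup.mem_bot.2 (h2el x (hpk3 x (Subgroup.mem_inf.1 hx).1) ?_)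
    obtain ⟨n, rfl⟩ := Subgroup.mem_zpowers_iff.1 (Subgroup.mem_inf.1 hx).2
    rw [← zpow_natCast (τ ^ n), ← zpow_mul, mul_comm, zpow_mul, zpow_natCast, pow_two τ, hτ2, one_zpow]
  have hcardD : Nat.card ↥D = 6 := by rw [hD, card_sup_disjoint hτn hdkτ, hcardk, hcardτ]
  have hτdec : ∀ x ∈ Subgroup.zpowers τ, x = 1 ∨ x = τ := fun x hx => by
    obtain ⟨a, ha, -, hall⟩ := exists_gen hcardτ
    rcases hall x hx with e | e
    · exact Or.inl e
    · exact Or.inr (e.trans ((hall τ (Subgroup.mem_zpowers τ)).resolve_left hτ1).symm)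
  have hkdec : ∀ x ∈ Subgroup.zpowers k, x = 1 ∨ x = k ∨ x = k ^ 2 := fun x hx => by
    obtain ⟨j, hj, rfl⟩ := exists_pow_of_zpow d.cube hx
    rcases (show j = 0 ∨ j = 1 ∨ j = 2 by omega) with rfl | rfl | rfl
    exacts [Or.inl (pow_zero k), Or.inr (Or.inl (pow_one k)), Or.inr (Or.inr rfl)]
  -- `D` meets `Q` trivially
  have hDQ : ∀ x ∈ D, x ∈ Q → x = 1 := by
    intro x hx hxQ
    obtain ⟨a, ha, b, hb, rfl⟩ := (mem_sup_iff_mul hτn).1 hx
    have hbT : b ∈ T := Subgroup.zpowers_le.2 hτT hb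
    have haT : a ∈ T := by simpa using mul_mem (Subgroup.mem_inf.1 hxQ).1 (inv_mem hbT)
    obtain ⟨n, hn⟩ := c.pT ⟨a, haT⟩
    obtain rfl : a = 1 := eq_one_of_odd (n := n) (congrArg Subtype.val hn)
      (Odd.of_dvd_nat (by decide) (orderOf_dvd_of_pow_eq_one (hpk3 a ha)))
    rw [one_mul] at hxQ ⊢
    exact (hτdec b hb).resolve_right fun e => hτQ (e ▸ hxQ)
  have hDW : D ≤ Subgroup.normalizer (wOf K : Set G) := sup_le (Subgroup.zpowers_le.2 hkW) (Subgroup.zpowers_le.2 hτW)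
  set H := wOf K ⊔ D with hH
  have hdis : wOf K ⊓ D = ⊥ := eq_bot_iff.2 fun x hx =>
    Subgroup.mem_bot.2 (hDQ x (Subgroup.mem_inf.1 hx).2 (s.w_le_q c (Subgroup.mem_inf.1 hx).1))
  have hcardH : Nat.card ↥H = 24 := by rw [hH, card_sup_disjoint hDW hdis, hcardD, s.comp.2.2.2.2.1]
  have hHL : H ≤ locOf T K := sup_le ((s.w_le_q c).trans (inf_le_left.trans s.hy.T_le))
    (sup_le (Subgroup.zpowers_le.2 hkL) (Subgroup.zpowers_le.2 (s.hy.T_le hτT)))
  refine ⟨H, hHL, sup_le ((wOf_le_omega.trans ((omegaCenterOf_le _).trans (pCoreOf_le K))).trans le_sup_left)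
    (sup_le (Subgroup.zpowers_le.2 (Subgroup.mem_sup_left d.mem)) (Subgroup.zpowers_le.2 hτK)), hcardH, ?_, ?_⟩
  swap
  · intro f hf hfH
    obtain ⟨hfZ, hfK⟩ := Subgroup.mem_inf.1 hf
    obtain ⟨a, ha, b, hb, rfl⟩ := (mem_sup_iff_mul hDW).1 hfH
    have hbQ : b ∈ Q := by
      rw [show b = a⁻¹ * (a * b) by group]
      exact mul_mem (inv_mem (s.w_le_q c ha)) (s.zOf_le_q c hfZ)
    obtain rfl := hDQ b hb hbQ
    rw [mul_one] at hfK ⊢
    exact d.fpf ha (by rw [Subgroup.mem_centralizer_iff.1 hfK k d.mem, mul_inv_cancel_right])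
  -- recognition
  have hkD : Subgroup.zpowers k ≤ D := le_sup_left
  set C := (Subgroup.zpowers k).subgroupOf H
  have hCcard : Nat.card ↥C = 3 := by
    rw [Nat.card_congr (Subgroup.subgroupOfEquivOfLe (hkD.trans le_sup_right)).toEquiv, hcardk]
  have hDn : D ≤ Subgroup.normalizer (Subgroup.zpowers k : Set G) := sup_le Subgroup.le_normalizer hτn
  have hN : Subgroup.normalizer (C : Set ↥H) = D.subgroupOf H := by
    rw [← Subgroup.subgroupOf_normalizer_eq (hkD.trans le_sup_right)]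
    ext ⟨x, hx⟩
    simp only [Subgroup.mem_subgroupOf]
    refine ⟨fun hn => ?_, fun hd => hDn hd⟩
    obtain ⟨a, ha, b, hb, rfl⟩ := (mem_sup_iff_mul hDW).1 hx
    have han : a ∈ Subgroup.normalizer (Subgroup.zpowers k : Set G) := by
      simpa using mul_mem hn (inv_mem (hDn hb))
    have h1 : ⁅a, k⁆ ∈ Subgroup.zpowers k :=
      mul_mem ((Subgroup.mem_normalizer_iff.1 han k).1 (Subgroup.mem_zpowers k)) (inv_mem (Subgroup.mem_zpowers k))
    have h2 : ⁅a, k⁆ ∈ wOf K := (commutator_elem_mem ha hkW).1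
    have h3 : ⁅a, k⁆ = 1 := Subgroup.mem_bot.1 (hdis ▸ Subgroup.mem_inf.2 ⟨h2, hkD h1⟩)
    obtain rfl : a = 1 := d.fpf ha (by rw [← commutatorElement_eq_one_iff_mul_comm.1 h3, mul_inv_cancel_right])
    rwa [one_mul]
  refine Classical.Dickson.s4_of hcardH hCcard ?_ ?_
  · rw [hN, Nat.card_congr (Subgroup.subgroupOfEquivOfLe (show D ≤ H from le_sup_right)).toEquiv, hcardD]
  · rintro ⟨n, hnH⟩ hn hnC ⟨g, hgH⟩ hg hg1 e
    rw [hN, Subgroup.mem_subgroupOf] at hn
    rw [Subgroup.mem_subgroupOf] at hnC hg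
    obtain ⟨a, ha, b, hb, (hab : a * b = n)⟩ := (mem_sup_iff_mul hτn).1 hn
    rcases hτdec b hb with rfl | rfl
    · exact hnC (by show n ∈ _; rw [← hab, mul_one]; exact ha)
    have hg1' : g ≠ 1 := fun h => hg1 (Subtype.ext h)
    have e' : n * g = g * n := congrArg Subtype.val e
    rw [← hab] at e'
    have hag : Commute a g := by
      obtain ⟨i, rfl⟩ := Subgroup.mem_zpowers_iff.1 ha
      obtain ⟨j, rfl⟩ := Subgroup.mem_zpowers_iff.1 hg
      exact ((Commute.refl k).zpow_left i).zpow_right j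
    have hbg : b * g = g * b := by
      apply mul_left_cancel (a := a)
      rw [← mul_assoc, e', ← mul_assoc, ← mul_assoc, hag.eq]
    have hconj : b * g * b⁻¹ = g := by rw [hbg, mul_inv_cancel_right]
    have hk4 : k ^ 4 = k := by rw [show 4 = 3 + 1 from rfl, pow_succ, d.cube, one_mul]
    rcases hkdec g hg with h | h | h
    · exact hg1' h
    · rw [h, hτk] at hconj
      exact hk1 (mul_left_cancel (a := k) (by rw [← pow_two, hconj, mul_one]))
    · rw [h, ← conj_pow, hτk, ← pow_mul] at hconj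
      refine hk1 (mul_left_cancel (a := k) ?_)
      rw [← pow_two, mul_one, ← hconj]
      exact hk4

/-- The two possibilities for a maximal subgroup. -/
theorem Side.iso_symFour (s : Side M T K) (hs : Shape T K) {v : G} (hv : v ∈ T) (hvQ : v ∉ qOf T K)
    (hv2 : v ^ 2 = 1) :
    (Nat.card ↥(zOf T) = 2 → Nonempty (↥(locOf T K) ≃* Equiv.Perm (Fin 4))) ∧
      (Nat.card ↥(zOf T) = 4 → Nonempty (↥(locOf T K) ≃* Equiv.Perm (Fin 4) × Multiplicative (ZMod 2))) := by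
  obtain ⟨H, hHL, -, hH24, ⟨e⟩, hfix⟩ := s.exists_symFour c hs hv hvQ hv2
  set L := locOf T K
  have hcardL : Nat.card ↥L = 12 * Nat.card ↥(zOf T) := by
    rw [← card_mul_relIndex_of_le s.hy.T_le, hs.index,
      ← card_mul_relIndex_of_le (inf_le_left : qOf T K ≤ T), s.relIndex_q c, hs.card]
    omega
  constructor
  · intro h2
    rw [h2] at hcardL
    have heq : H = L := Subgroup.eq_of_le_of_card_ge hHL (by omega)
    exact ⟨(MulEquiv.subgroupCongr heq.symm).trans e⟩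
  · intro h4
    rw [h4] at hcardL
    have hfc : Nat.card ↥(fixZ T K) = 2 := by
      have := (fixZ_spec c.pT s.comp).1
      omega
    have hfL : fixZ T K ≤ L := fun f hf => s.hy.T_le (c.z_mem_T (Subgroup.mem_inf.1 hf).1)
    have hcen : ∀ f ∈ fixZ T K, ∀ l ∈ L, Commute f l := by
      intro f hf l hl
      obtain ⟨hfZ, hfK⟩ := Subgroup.mem_inf.1 hf
      have hle : K ⊔ T ≤ Subgroup.centralizer {f} := sup_le
        (fun g hg => Subgroup.mem_centralizer_singleton_iff.2 (Subgroup.mem_centralizer_iff.1 hfK g hg))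
        (fun t ht => Subgroup.mem_centralizer_singleton_iff.2 (s.z_central c hfZ ht))
      exact (Subgroup.mem_centralizer_singleton_iff.1 (hle (hs.eq.le hl))).symm
    let φ : ↥H × ↥(fixZ T K) →* ↥L :=
      MonoidHom.noncommCoprod (Subgroup.inclusion hHL) (Subgroup.inclusion hfL)
        fun h f => Subtype.ext (hcen f f.2 h (hHL h.2)).eq.symm
    have hinj : Function.Injective φ := by
      rw [← MonoidHom.ker_eq_bot_iff, Subgroup.eq_bot_iff_forall]
      rintro ⟨h, f⟩ hx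
      have hx' : (h : G) * f = 1 := congrArg Subtype.val hx
      have hf1 : (f : G) = 1 := hfix f f.2 (by rw [eq_inv_of_mul_eq_one_right hx']; exact inv_mem h.2)
      rw [hf1, mul_one] at hx'
      exact Prod.ext (Subtype.ext hx') (Subtype.ext hf1)
    have hbij : Function.Bijective φ := hinj.bijective_of_nat_card_le (by
      rw [Nat.card_prod, hH24, hfc, hcardL])
    haveI : IsCyclic ↥(fixZ T K) := isCyclic_of_prime_card hfc
    exact ⟨(MulEquiv.ofBijective φ hbij).symm.trans (e.prodCongr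
      ((MulEquiv.subgroupCongr rfl).trans (mulEquivOfPrimeCardEq hfc
        (by rw [Nat.card_eq_fintype_card, Fintype.card_multiplicative, ZMod.card]))))⟩

end Cfsg.Agent.JComp
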